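import Cfsg.Agent.R2.Spec.P1.Orth

/-!
# Team T3 (S3435), box P1: the adjacency facts for the six classical families (helper15)
-/

set_option autoImplicit false

namespace Cfsg.Agent.R2.Spec.P1

open Cfsg Cfsg.Agent.H426.LieFam Cfsg.Agent.R2.Spec

universe u

/-- the six classical families -/
def Classical : Fam → Prop
  | .psl _ => True
  | .psu _ => True
  | .psp _ => True
  | .oodd _ => True
  | .oplus _ => True
  | .ominus _ => True
  | _ => False

/-- **the adjacency facts** -/
theorem adjFacts {t : Fam} (ht : Classical t) {p f : ℕ} {X : Type u} [Group X] [Finite X] (hp : p.Prime)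
    (h : Fam.Is p f X t) : AdjFacts t p f X := by
  cases t with
  | psl n => exact psl hp h
  | psp n => exact psp hp h
  | psu n => exact psu hp h
  | oodd n => exact oodd hp h
  | oplus n => exact oplus hp h
  | ominus n => exact ominus hp h
  | g2 => exact ht.elim
  | f4 => exact ht.elim
  | e6 => exact ht.elim
  | e7 => exact ht.elim
  | e8 => exact ht.elim
  | td4 => exact ht.elim
  | te6 => exact ht.elim
  | sz => exact ht.elim
  | tf4 => exact ht.elim
  | ree => exact ht.elim

end Cfsg.Agent.R2.Spec.P1
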