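import Cfsg.Agent.R2.Spec.P1.TopSp
import Cfsg.Agent.H377.OddThree

/-!
# Team T3 (S3435), box P1b: the exact top tori of `PΩ_{2n+1}(q)` (helper15)
-/

set_option autoImplicit false

namespace Cfsg.Agent.R2.Spec.P1

open Module Polynomial Cfsg Cfsg.Agent.H426.LieFam Cfsg.Agent.R2.Spec
open Cfsg.Agent.R2.Spec.P1.Eig
open Cfsg.Agent.LieClassical.OrthCore (Nondeg)
open Cfsg.Agent.LieClassical.OrthForms

universe u

/-- **`PΩ_{2n+1}(q)`** -/
theorem top_facts_oodd {p f n : ℕ} {X : Type u} [Group X] [Finite X] (hp : p.Prime) (hp2 : p ≠ 2)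
    (h : Fam.Is p f X (.oodd n)) : TopFacts (.oodd n) p f X := by
  classical
  have hfp := Fact.mk hp
  have hLL := h
  obtain ⟨hn, -, F, _, _, hch, hF, ⟨E⟩⟩ := h
  obtain ⟨hf, -, h2, e, he1, he⟩ := field_data hp hp2 hF
  obtain ⟨q, hq⟩ : ∃ q, q = p ^ f := ⟨_, rfl⟩
  have hqF : Fintype.card F = q := by rw [hF, hq]
  have hqo : q % 2 = 1 := by omega
  have ho : Odd (Nat.card F) := by
    rw [Nat.card_eq_fintype_card, hqF]
    exact Nat.odd_iff.2 hqo
  refine ⟨?_, ?_⟩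
  · intro i hi
    change i = 2 * n ∨ (i = n ∧ n % 2 = 1) at hi
    obtain ⟨δ, hδ, hi'⟩ := exists_delta hi
    rw [← hq]
    have h1 : ttor (.oodd n) q i = AN δ n q / 2 :=
      AN_div δ hqo (by rcases hi' with h | h; exacts [Or.inl h, Or.inr ⟨h.1, h.2.2⟩]) (by omega)
    rw [h1]
    have hev := AN_even (δ := δ) (m := n) hqo
    have hqn : q ≤ q ^ n := Nat.le_self_pow (by omega) q
    rcases hδ with rfl | rfl
    · rw [AN_one] at hev ⊢
      obtain ⟨g, hg⟩ := Cfsg.Agent.H377.OOdd.exists_even_tor ho hn (N := (q ^ n - 1) / 2) (ε := 1)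
        (Cfsg.Agent.H377.elt_tor_plus (F := F) (by omega) (by rw [Nat.card_eq_fintype_card, hqF, hev]))
      exact ⟨E.symm g, by rw [← hg, MulEquiv.orderOf_eq]⟩
    · rw [AN_neg] at hev ⊢
      obtain ⟨g, hg⟩ := Cfsg.Agent.H377.OOdd.exists_even_tor ho hn (N := (q ^ n + 1) / 2) (ε := -1)
        (Cfsg.Agent.H377.elt_tor_minus (F := F) (by omega) (by rw [Nat.card_eq_fintype_card, hqF, hev]))
      exact ⟨E.symm g, by rw [← hg, MulEquiv.orderOf_eq]⟩
  · intro r hr hrp hi x hx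
    change cls (.oodd n) (p ^ f) r = 2 * n ∨ (cls (.oodd n) (p ^ f) r = n ∧ n % 2 = 1) at hi
    have hrp' : r ≠ p := fun h => hrp (by rw [h])
    have h3 : 3 ≤ cls (.oodd n) (p ^ f) r := by omega
    have heta := eta_top hi
    have hcop := cop_of_top (t := .oodd n) trivial hp hLL hr (two_ne_of_cls hr h3) hrp h3
      (show eta _ ≤ n by omega) (show n < eta _ + 1 by omega) hx
    obtain ⟨δ, hδ, hi'⟩ := exists_delta hi
    have hco : cls (.oodd n) (p ^ f) r = orderOf ((Fintype.card F : ℕ) : ZMod r) := by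
      rw [cls_eq_co (fun _ h => by cases h), hF]; rfl
    have h1 : ttor (.oodd n) (p ^ f) (cls (.oodd n) (p ^ f) r) = AN δ n (p ^ f) / 2 :=
      AN_div δ (by rw [← hq]; exact hqo)
        (by rcases hi' with h | h; exacts [Or.inl h, Or.inr ⟨h.1, h.2.2⟩]) (by omega)
    rw [h1, ← MulEquiv.orderOf_eq E x, ← hF]
    rw [← MulEquiv.orderOf_eq E x] at hx hcop
    rw [hco] at hi' h3
    have key : ∀ y : POmega F ⇑(oddForm n F), r ∣ orderOf y → Nat.Coprime (orderOf y) p →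
        orderOf y ∣ AN δ n (Fintype.card F) / 2 := fun y hy1 hy2 =>
      odd_full h2 he (nondeg_oddForm n F h2) hn (by simp; ring) hr hrp' hy1 hy2 hi' h3
    rw [coe_oddForm] at key
    exact key (E x) hx hcop

end Cfsg.Agent.R2.Spec.P1
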