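import Cfsg.Agent.R2.Spec.P1.TopEvenX
import Cfsg.Agent.R2.Spec.P1.TopOdd

/-!
# Team T3 (S3435), box P1b: `TopFacts` for the classical families, `p` odd (helper15)
-/

set_option autoImplicit false

namespace Cfsg.Agent.R2.Spec.P1

open Cfsg Cfsg.Agent.H426.LieFam Cfsg.Agent.R2.Spec

universe u

/-- **All classical families.** -/
theorem top_facts {p f : ℕ} {t : Fam} {X : Type u} [Group X] [Finite X] (ht : Classical t) (hp : p.Prime) (hp2 : p ≠ 2)
    (h : Fam.Is p f X t) : TopFacts t p f X := by
  cases t with
  | psl n => exact top_facts_psl hp hp2 h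
  | psu n => exact top_facts_psu hp hp2 h
  | psp n => exact top_facts_psp hp hp2 h
  | oodd n => exact top_facts_oodd hp hp2 h
  | oplus n => exact top_facts_oplus hp hp2 h
  | ominus n => exact top_facts_ominus hp hp2 h
  | _ => exact ht.elim

end Cfsg.Agent.R2.Spec.P1
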