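import Cfsg.Agent.R2.Spec.P1.TopPl
import Cfsg.Agent.R2.Spec.P1.TopMain

/-!
# Team T3 (S3435), box P1b: `TopFacts` in characteristic 2; `TopFacts` for every characteristic (helper15)
-/

set_option autoImplicit false
set_option linter.unusedSectionVars false

namespace Cfsg.Agent.R2.Spec.P1

open QuadraticMap Module Polynomial Cfsg Cfsg.Agent.H426.LieFam Cfsg.Agent.R2.Spec
open Cfsg.Agent.H160.QRoots Cfsg.Agent.H160.QChar Cfsg.Agent.R2.Spec.P1.Eig
open Cfsg.Agent.LieClassical.OrthCore (Nondeg O)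
open Cfsg.Agent.H160.QSpin Cfsg.Agent.H160.QSplit
open Cfsg.Agent.H377
open Cfsg.Agent.H390 Cfsg.Agent.H390.NonAdj Cfsg.Agent.H390.Dec

universe u

section Num

theorem AN_castZ {δ : ℤ} {m q : ℕ} (hδ : δ = 1 ∨ δ = -1) (hq : 1 ≤ q) : ((AN δ m q : ℕ) : ℤ) = (q : ℤ) ^ m - δ := by
  rcases hδ with rfl | rfl
  · rw [AN_one, Nat.cast_sub (Nat.one_le_pow _ _ hq)]
    push_cast
    ring
  · rw [AN_neg]
    push_cast
    ring

theorem lcm_dvd_case {q m : ℕ} {δ : ℤ} (hδ : δ = 1 ∨ δ = -1) (hq : 1 ≤ q) (hm : Odd m) :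
    Nat.lcm (AN δ m q) (AN δ 1 q) = AN δ m q := by
  apply Nat.lcm_eq_left
  rw [← Int.natCast_dvd_natCast, AN_castZ hδ hq, AN_castZ hδ hq, pow_one]
  have hδm : δ ^ m = δ := by
    rcases hδ with rfl | rfl
    · exact one_pow _
    · exact hm.neg_one_pow
  have h1 := sub_dvd_pow_sub_pow (q : ℤ) δ m
  rwa [hδm] at h1

theorem lcm_cop_case {q m : ℕ} {δ ε : ℤ} (hδ : δ = 1 ∨ δ = -1) (hε : ε = 1 ∨ ε = -1) (hq : q % 2 = 0) (hq2 : 2 ≤ q)
    (hm : m ≠ 0) (hs : (δ * ε) ^ m = -δ) :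
    Nat.lcm (AN δ m q) (AN (δ * ε) 1 q) = AN δ m q * AN (δ * ε) 1 q := by
  have hδε : δ * ε = 1 ∨ δ * ε = -1 := by
    rcases hδ with h | h <;> rcases hε with h' | h' <;> rw [h, h'] <;> norm_num
  apply Nat.Coprime.lcm_eq_mul
  have ho := AN_odd (δ := δ) hq hq2 hm
  have h1 : (q : ℤ) - δ * ε ∣ (q : ℤ) ^ m - (δ * ε) ^ m := sub_dvd_pow_sub_pow _ _ _
  rw [hs] at h1
  have hg1 : ((Nat.gcd (AN δ m q) (AN (δ * ε) 1 q) : ℕ) : ℤ) ∣ (q : ℤ) ^ m - δ := by
    rw [← AN_castZ hδ (by omega)]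
    exact Int.natCast_dvd_natCast.2 (Nat.gcd_dvd_left _ _)
  have hg2 : ((Nat.gcd (AN δ m q) (AN (δ * ε) 1 q) : ℕ) : ℤ) ∣ (q : ℤ) ^ m - -δ := by
    refine dvd_trans ?_ h1
    have h2 := AN_castZ (m := 1) (q := q) hδε (by omega)
    rw [pow_one] at h2
    rw [← h2]
    exact Int.natCast_dvd_natCast.2 (Nat.gcd_dvd_right _ _)
  have hg3 := dvd_sub hg2 hg1
  have hg4 : ((Nat.gcd (AN δ m q) (AN (δ * ε) 1 q) : ℕ) : ℤ) ∣ 2 := by
    have h5 : (q : ℤ) ^ m - -δ - ((q : ℤ) ^ m - δ) = 2 * δ := by ring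
    rw [h5] at hg3
    have h6 : (2 : ℤ) * δ ∣ 2 := by
      rcases hδ with h | h <;> rw [h] <;> norm_num
    exact hg3.trans h6
  have hg5 : Nat.gcd (AN δ m q) (AN (δ * ε) 1 q) ∣ 2 := by exact_mod_cast hg4
  rcases (Nat.dvd_prime Nat.prime_two).1 hg5 with h6 | h6
  · exact h6
  · exfalso
    have h7 := Odd.of_dvd_nat ho (Nat.gcd_dvd_left (AN δ m q) (AN (δ * ε) 1 q))
    rw [h6] at h7
    exact absurd h7 (by decide)

theorem gcd_even {q : ℕ} (hq : q % 2 = 0) (hq2 : 2 ≤ q) {n : ℕ} (hn : n ≠ 0) :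
    Nat.gcd 2 (q - 1) = 1 ∧ Nat.gcd 4 (q ^ n - 1) = 1 ∧ Nat.gcd 4 (q ^ n + 1) = 1 := by
  have h1 : 2 ∣ q ^ n := (Nat.dvd_of_mod_eq_zero hq).trans (dvd_pow_self q hn)
  have h2 : 1 ≤ q ^ n := Nat.one_le_pow _ _ (by omega)
  have key : ∀ N, N % 2 = 1 → Nat.Coprime 4 N := by
    intro N hN
    exact Nat.Coprime.pow_left 2 ((Nat.coprime_two_left).2 (Nat.odd_iff.2 hN))
  refine ⟨(Nat.coprime_two_left).2 (Nat.odd_iff.2 (by omega)), key _ (by omega), key _ (by omega)⟩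

theorem ttor_plus_two {q n i : ℕ} (hn : 4 ≤ n) (hq : q % 2 = 0) (hq2 : 2 ≤ q) {δ : ℤ} (hi : PartC n i δ) :
    ttor (.oplus n) q i = Nat.lcm (AN δ (n - 1) q) (AN (δ * 1) 1 q) := by
  obtain ⟨hg1, hg2, -⟩ := gcd_even hq hq2 (n := n) (by omega)
  rcases hi with ⟨h1, rfl⟩ | ⟨h1, h2, rfl⟩
  · rcases Nat.even_or_odd (n - 1) with h3 | h3
    · rw [lcm_cop_case (Or.inr rfl) (Or.inl rfl) hq hq2 (by omega) (by rw [mul_one, h3.neg_one_pow, neg_neg])]
      rw [Nat.even_iff] at h3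
      rw [ttor, if_neg (by omega), if_neg (by omega), if_neg (by omega), hg2, Nat.div_one, mul_one, AN_neg, AN_neg,
        pow_one]
    · rw [mul_one, lcm_dvd_case (Or.inr rfl) (by omega) h3]
      rw [Nat.odd_iff] at h3
      rw [ttor, if_neg (by omega), if_neg (by omega), if_pos (by omega), hg1, Nat.div_one, AN_neg]
  · rw [mul_one, lcm_dvd_case (Or.inl rfl) (by omega) h2, ttor, if_neg (by omega), if_pos h1, hg1, Nat.div_one, AN_one]

theorem ttor_minus_two {q n i : ℕ} (hn : 4 ≤ n) (hq : q % 2 = 0) (hq2 : 2 ≤ q) {δ : ℤ} (hi : PartC n i δ) :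
    ttor (.ominus n) q i = Nat.lcm (AN δ (n - 1) q) (AN (δ * -1) 1 q) := by
  obtain ⟨hg1, -, hg2⟩ := gcd_even hq hq2 (n := n) (by omega)
  rcases hi with ⟨h1, rfl⟩ | ⟨h1, h2, rfl⟩
  · rw [lcm_cop_case (Or.inr rfl) (Or.inr rfl) hq hq2 (by omega) (by norm_num)]
    rw [ttor, if_neg (by omega), if_neg (by omega), hg2, Nat.div_one, show (-1 : ℤ) * -1 = 1 by norm_num, AN_neg,
      AN_one, pow_one]
  · rw [lcm_cop_case (Or.inl rfl) (Or.inr rfl) hq hq2 (by omega) (by rw [one_mul, h2.neg_one_pow])]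
    rw [ttor, if_neg (by omega), if_pos h1, hg2, Nat.div_one, one_mul, AN_one, AN_neg, pow_one]

end Num

section OD2

variable {F : Type} [Field F] [Fintype F] {X : Type u} [Group X] {m : ℕ} {ε : ℤ}

theorem elt_AN {δ : ℤ} {k : ℕ} (hδ : δ = 1 ∨ δ = -1) (hk : 1 ≤ k) : Elt F k δ (AN δ k (Fintype.card F)) := by
  rw [← Nat.card_eq_fintype_card]
  rcases hδ with rfl | rfl
  · rw [AN_one]; exact elt_tor_plus hk dvd_rfl
  · rw [AN_neg]; exact elt_tor_minus hk dvd_rfl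

theorem OD.ex_full (h : OD F X m ε) (hq : Fintype.card F % 2 = 0) :
    ∃ x : X, orderOf x = AN ε m (Fintype.card F) := by
  have hm := h.hm
  refine h.ex _ (Elt.two (by omega) (AN_odd hq ?_ (by omega)) (elt_AN h.hδ (by omega)))
  exact Fintype.one_lt_card

theorem OD.ex_part (h : OD F X m ε) (hq : Fintype.card F % 2 = 0) {δ : ℤ} (hδ : δ = 1 ∨ δ = -1) :
    ∃ x : X, orderOf x = Nat.lcm (AN δ (m - 1) (Fintype.card F)) (AN (δ * ε) 1 (Fintype.card F)) := by
  have hm := h.hm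
  have hε := h.hδ
  have hq2 : 2 ≤ Fintype.card F := Fintype.one_lt_card
  have hδε : δ * ε = 1 ∨ δ * ε = -1 := by
    rcases hδ with h | h <;> rcases hε with h' | h' <;> rw [h, h'] <;> norm_num
  have h1 := (elt_AN (F := F) (k := m - 1) hδ (by omega)).prod (elt_AN (F := F) (k := 1) hδε le_rfl)
  rw [Nat.sub_add_cancel (by omega)] at h1
  have h2 : δ * (δ * ε) = ε := by rcases hδ with h | h <;> rw [h] <;> ring
  rw [h2] at h1
  refine h.ex _ (Elt.two (by omega) ?_ h1)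
  have ho1 := AN_odd (δ := δ) (m := m - 1) hq hq2 (by omega)
  have ho2 := AN_odd (δ := δ * ε) (m := 1) hq hq2 one_ne_zero
  exact Odd.of_dvd_nat (ho1.mul ho2) (Nat.lcm_dvd (dvd_mul_right _ _) (dvd_mul_left _ _))

/-- **The upper bounds, characteristic 2.** -/
theorem OD.ub_two [CharP F 2] {f : ℕ} (h : OD F X m ε) (hF : Fintype.card F = 2 ^ f) {y : X} {r : ℕ} (hr : r.Prime)
    (hr2 : r ≠ 2) (hy : r ∣ orderOf y) (hcop : Nat.Coprime (orderOf y) 2)
    (h3 : 3 ≤ orderOf ((Fintype.card F : ℕ) : ZMod r)) :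
    (FullC m (orderOf ((Fintype.card F : ℕ) : ZMod r)) ε → orderOf y ∣ AN ε m (Fintype.card F)) ∧
    (∀ δ : ℤ, PartC m (orderOf ((Fintype.card F : ℕ) : ZMod r)) δ →
      orderOf y ∣ Nat.lcm (AN δ (m - 1) (Fintype.card F)) (AN (δ * ε) 1 (Fintype.card F))) := by
  have hp2 := Fact.mk Nat.prime_two
  obtain ⟨hm, hε, -, ⟨ι, _, _, Q, hD, hι, hsg, ⟨E⟩⟩, -⟩ := h
  have hodd : Odd (orderOf y) := Nat.coprime_two_left.1 hcop.symm
  obtain ⟨T, hTQ, hT⟩ := exists_lin_of_order hD hodd ⟨E y, by rw [MulEquiv.orderOf_eq]⟩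
  have hdim : finrank F (ι → F) = 2 * m := by rw [Module.finrank_fintype_fun_eq_card, hι]
  constructor
  · intro hi
    obtain ⟨k, hk⟩ := hy
    have hk0 : 0 < k := by
      rcases Nat.eq_zero_or_pos k with h | h
      · have := hodd.pos
        rw [h, mul_zero] at hk; omega
      · exact h
    rw [← hT]
    refine pow_full hD.ND hdim hTQ ((hT _).2 dvd_rfl) hodd.pos hcop hr hr2 (k := k) ?_ ?_ hi h3
    · intro h
      rw [hT] at h
      have h5 := Nat.le_of_dvd hk0 h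
      have h6 := hr.two_le
      rw [hk] at h5
      have h7 : 2 * k ≤ r * k := Nat.mul_le_mul_right _ h6
      omega
    · rw [← pow_mul, hT, hk, mul_comm]
  · intro δ hi
    exact dvd_part hF hD.ND hm hdim hε hsg hTQ hodd hcop hT hr hr2 hy h3 hi

end OD2

/-- **`PΩ^+_2n(q)`, `q` even** -/
theorem top_facts_oplus_two {f n : ℕ} {X : Type u} [Group X] [Finite X] (h : Fam.Is 2 f X (.oplus n)) :
    TopFacts (.oplus n) 2 f X := by
  have hLL := h
  obtain ⟨hn, F, _, _, hch, hF, ⟨E⟩⟩ := h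
  obtain ⟨hf, hq0, hq2⟩ := field_data_two hF
  have hod := od_plus hn E
  have hq0' : Fintype.card F % 2 = 0 := by rw [hF]; exact hq0
  obtain ⟨hg1, hg2, -⟩ := gcd_even hq0 hq2 (n := n) (by omega)
  have hfull : ∀ i, FullC n i 1 → ttor (.oplus n) (2 ^ f) i = AN 1 n (2 ^ f) := by
    intro i hi
    have h1 : i = n := by
      rcases hi with ⟨-, h⟩ | ⟨h, -⟩
      · norm_num at h
      · exact h
    rw [ttor, if_pos h1, hg2, Nat.div_one, AN_one]
  refine ⟨?_, ?_⟩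
  · intro i hi
    rcases top_plus_cases hn hi with h1 | ⟨δ, h1⟩
    · rw [hfull i h1, ← hF]
      exact hod.ex_full hq0'
    · rw [ttor_plus_two hn hq0 hq2 h1, ← hF]
      exact hod.ex_part hq0' (by rcases h1 with ⟨-, h⟩ | ⟨-, -, h⟩ <;> simp [h])
  · intro r hr hrp hi x hx
    have hrp' : r ≠ 2 := fun h => hrp (by rw [h])
    have hco : cls (.oplus n) (2 ^ f) r = orderOf ((Fintype.card F : ℕ) : ZMod r) := by
      rw [cls_eq_co (fun _ h => by cases h), hF]; rfl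
    have hcs := top_plus_cases hn hi
    have h3 : 3 ≤ cls (.oplus n) (2 ^ f) r := by
      change (cls (.oplus n) (2 ^ f) r = n ∧ n % 2 = 1) ∨ cls (.oplus n) (2 ^ f) r = 2 * (n - 1) ∨
        (cls (.oplus n) (2 ^ f) r = n - 1 ∧ n % 2 = 0) at hi
      omega
    have hm : mem (.oplus n) (cls (.oplus n) (2 ^ f) r) ∧ nap (.oplus n) (cls (.oplus n) (2 ^ f) r) := by
      rcases hcs with h1 | ⟨δ, h1⟩
      · have h4 := eta_full h1
        refine ⟨Or.inr ?_, show n < eta _ + 2 by omega⟩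
        rcases h1 with ⟨-, h⟩ | ⟨h, h', -⟩
        · norm_num at h
        · exact ⟨h, Nat.odd_iff.1 h'⟩
      · have h4 := eta_part h1
        exact ⟨Or.inl (by omega), show n < eta _ + 2 by omega⟩
    have hcop := cop_of_top (t := .oplus n) trivial Nat.prime_two hLL hr (two_ne_of_cls hr h3) hrp h3 hm.1 hm.2 hx
    rw [hco] at hcs h3 ⊢
    obtain ⟨hu1, hu2⟩ := hod.ub_two hF hr hrp' hx hcop h3
    rcases hcs with h1 | ⟨δ, h1⟩
    · rw [hfull _ h1, ← hF]
      exact hu1 h1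
    · rw [ttor_plus_two hn hq0 hq2 h1, ← hF]
      exact hu2 δ h1

/-- **`PΩ^-_2n(q)`, `q` even** -/
theorem top_facts_ominus_two {f n : ℕ} {X : Type u} [Group X] [Finite X] (h : Fam.Is 2 f X (.ominus n)) :
    TopFacts (.ominus n) 2 f X := by
  have hLL := h
  obtain ⟨hn, F, _, _, hch, a, b, hF, hab, ⟨E⟩⟩ := h
  obtain ⟨hf, hq0, hq2⟩ := field_data_two hF
  have hod := od_minus hn hab E
  have hq0' : Fintype.card F % 2 = 0 := by rw [hF]; exact hq0
  obtain ⟨hg1, -, hg2⟩ := gcd_even hq0 hq2 (n := n) (by omega)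
  have hfull : ∀ i, FullC n i (-1) → ttor (.ominus n) (2 ^ f) i = AN (-1) n (2 ^ f) := by
    intro i hi
    have h1 : i = 2 * n := by
      rcases hi with ⟨h, -⟩ | ⟨-, -, h⟩
      · exact h
      · norm_num at h
    rw [ttor, if_pos h1, hg2, Nat.div_one, AN_neg]
  refine ⟨?_, ?_⟩
  · intro i hi
    rcases top_minus_cases hn hi with h1 | ⟨δ, h1⟩
    · rw [hfull i h1, ← hF]
      exact hod.ex_full hq0'
    · rw [ttor_minus_two hn hq0 hq2 h1, ← hF]
      exact hod.ex_part hq0' (by rcases h1 with ⟨-, h⟩ | ⟨-, -, h⟩ <;> simp [h])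
  · intro r hr hrp hi x hx
    have hrp' : r ≠ 2 := fun h => hrp (by rw [h])
    have hco : cls (.ominus n) (2 ^ f) r = orderOf ((Fintype.card F : ℕ) : ZMod r) := by
      rw [cls_eq_co (fun _ h => by cases h), hF]; rfl
    have hcs := top_minus_cases hn hi
    have h3 : 3 ≤ cls (.ominus n) (2 ^ f) r := by
      change cls (.ominus n) (2 ^ f) r = 2 * n ∨ cls (.ominus n) (2 ^ f) r = 2 * (n - 1) ∨
        (cls (.ominus n) (2 ^ f) r = n - 1 ∧ n % 2 = 0) at hi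
      omega
    have hm : mem (.ominus n) (cls (.ominus n) (2 ^ f) r) ∧ nap (.ominus n) (cls (.ominus n) (2 ^ f) r) := by
      rcases hcs with h1 | ⟨δ, h1⟩
      · have h4 := eta_full h1
        refine ⟨Or.inr ?_, show n < eta _ + 2 by omega⟩
        rcases h1 with ⟨h, -⟩ | ⟨-, -, h⟩
        · exact h
        · norm_num at h
      · have h4 := eta_part h1
        exact ⟨Or.inl (by omega), show n < eta _ + 2 by omega⟩
    have hcop := cop_of_top (t := .ominus n) trivial Nat.prime_two hLL hr (two_ne_of_cls hr h3) hrp h3 hm.1 hm.2 hx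
    rw [hco] at hcs h3 ⊢
    obtain ⟨hu1, hu2⟩ := hod.ub_two hF hr hrp' hx hcop h3
    rcases hcs with h1 | ⟨δ, h1⟩
    · rw [hfull _ h1, ← hF]
      exact hu1 h1
    · rw [ttor_minus_two hn hq0 hq2 h1, ← hF]
      exact hu2 δ h1

/-- **All classical families, every characteristic.** -/
theorem top_facts_all {p f : ℕ} {t : Fam} {X : Type u} [Group X] [Finite X] (ht : Classical t) (hp : p.Prime)
    (h : Fam.Is p f X t) : TopFacts t p f X := by
  by_cases hp2 : p = 2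
  · subst hp2
    cases t with
    | psl n => exact top_facts_psl_all hp h
    | psu n => exact top_facts_psu_all hp h
    | psp n => exact top_facts_psp_two h
    | oodd n =>
      exfalso
      obtain ⟨-, ho, F, _, _, -, hF, -⟩ := h
      obtain ⟨-, h0, -⟩ := field_data_two hF
      rw [Nat.odd_iff] at ho
      omega
    | oplus n => exact top_facts_oplus_two h
    | ominus n => exact top_facts_ominus_two h
    | _ => exact ht.elim
  · exact top_facts ht hp hp2 h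

end Cfsg.Agent.R2.Spec.P1
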