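import Cfsg.Agent.R2.Spec.P1.Main
import Cfsg.Agent.H376.SpEmb

/-!
# Team T3 (S3435), box P1: tori and exponents (helper15)

* `tnum t q i` : the order of the torus of class `i`;
* `TorFacts` : `tor` elements of order `N` for odd `N ∣ tnum t q i` all of whose prime divisors are regular; `big` for
  primes `r` of big classes (`rk < 2 wt`) the orders `r ^ a` divide `tnum t q i`.
-/

set_option autoImplicit false

namespace Cfsg.Agent.R2.Spec.P1

open Cfsg Cfsg.Agent.H426.LieFam Cfsg.Agent.R2.Spec Cfsg.Agent.H403 Cfsg.Agent.H403.NumTop Cfsg.Agent.H414.LieShape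
open Cfsg.Agent.H377 (Elt Elt.two exists_odd_of_elt)
open Cfsg.Agent.H72.AdjOrth (tn)

universe u

/-- the number of the torus of class `i` -/
def tnum : Fam → ℕ → ℕ → ℕ
  | .psl _, q, i => q ^ i - 1
  | .psu _, q, i => if Even i then q ^ i - 1 else q ^ i + 1
  | _, q, i => if Even i then q ^ (i / 2) + 1 else q ^ i - 1

/-- tori and exponents -/
structure TorFacts (t : Fam) (p f : ℕ) (X : Type u) [Group X] : Prop where
  tor : ∀ i N : ℕ, 3 ≤ i → mem t i → Odd N → (∀ r : ℕ, r.Prime → r ∣ N → 3 ≤ cls t (p ^ f) r) →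
    N ∣ tnum t (p ^ f) i → ∃ x : X, orderOf x = N
  big : ∀ r a : ℕ, r.Prime → r ≠ 2 → ¬ r ∣ p → 3 ≤ cls t (p ^ f) r → mem t (cls t (p ^ f) r) →
    rk t < 2 * wt t (cls t (p ^ f) r) → (∃ x : X, orderOf x = r ^ a) → r ^ a ∣ tnum t (p ^ f) (cls t (p ^ f) r)

theorem tnum_psl (n q i : ℕ) : tnum (.psl n) q i = AA true i q := by
  simp [tnum, AA]

theorem tnum_psu (n q i : ℕ) : tnum (.psu n) q i = AA false i q := by
  simp [tnum, AA, Nat.even_iff]

section arith

theorem pow_dvd_range {r a : ℕ} (hr : r.Prime) {g : ℕ → ℕ} {j0 : ℕ} : ∀ {k : ℕ},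
    r ^ a ∣ ((List.range k).map g).prod → (∀ j < k, r ∣ g j → j = j0) → r ^ a ∣ g j0 := by
  intro k
  induction k with
  | zero =>
    intro h _
    simp only [List.range_zero, List.map_nil, List.prod_nil] at h
    rw [Nat.dvd_one.1 h]
    exact one_dvd _
  | succ k ih =>
    intro h hu
    rw [List.range_succ, List.map_append, List.prod_append, List.map_singleton, List.prod_singleton] at h
    by_cases hk : r ∣ g k
    · have h1 := hu k (by omega) hk
      have h2 : Nat.Coprime (r ^ a) ((List.range k).map g).prod := by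
        apply Nat.Coprime.pow_left
        rw [Nat.coprime_list_prod_right_iff]
        intro x hx
        obtain ⟨j, hj, rfl⟩ := List.mem_map.1 hx
        rw [List.mem_range] at hj
        rw [Nat.Prime.coprime_iff_not_dvd hr]
        intro h3
        have := hu j (by omega) h3
        omega
      rw [← h1]
      exact h2.dvd_of_dvd_mul_left h
    · exact ih ((Nat.Coprime.pow_left a ((Nat.Prime.coprime_iff_not_dvd hr).2 hk)).dvd_of_dvd_mul_right h)
        fun j hj => hu j (by omega)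

theorem Sh_pow_dvd {p c f d N r a : ℕ} {l : List Fac} (h : Sh p c f d N l) (hr : r.Prime) (hrp : ¬ r ∣ p)
    (hd : r ^ a ∣ c) : r ^ a ∣ (l.map (Fac.val (p ^ f))).prod := by
  have h1 : r ^ a ∣ (p ^ f) ^ N * (l.map (Fac.val (p ^ f))).prod := by
    rw [← h.eq]
    exact Dvd.dvd.mul_left hd d
  refine Nat.Coprime.dvd_of_dvd_mul_left ?_ h1
  apply Nat.Coprime.pow_left
  apply Nat.Coprime.pow_right
  apply Nat.Coprime.pow_right
  exact (Nat.Prime.coprime_iff_not_dvd hr).2 hrp

theorem uniq_mult {i n k k' : ℕ} (hb : n < 2 * i) (hk : 0 < k) (hk' : 0 < k') (hkn : k ≤ n) (hkn' : k' ≤ n)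
    (h : i ∣ k) (h' : i ∣ k') : k = k' := by
  have aux : ∀ m, 0 < m → m ≤ n → i ∣ m → m = i := by
    rintro m hm hmn ⟨c, rfl⟩
    rcases c with _ | _ | c
    · omega
    · omega
    · exfalso
      have : i * 2 ≤ i * (c + 1 + 1) := Nat.mul_le_mul_left i (by omega)
      omega
  rw [aux k hk hkn h, aux k' hk' hkn' h']

end arith

section lin

variable {e : Bool} {n q : ℕ} {F : Type*} [Field F] [Fintype F] {X : Type*} [Group X]

theorem lin_tor (h : IsL X e n q F) (hF : Fintype.card F = q ^ (cond e 0 1 + 1)) (hn : 3 ≤ n) {i N : ℕ} (hi : 3 ≤ i)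
    (hin : i ≤ n) (ho : Odd N) (hN : ∀ r : ℕ, r.Prime → r ∣ N → 3 ≤ cl e q r) (hd : N ∣ AA e i q) :
    ∃ x : X, orderOf x = N := by
  have hq2 : 2 ≤ q := two_le_of_card hF
  refine h.exists_tor_le hF hn (i := i) (by omega) hin ho.pos ?_ hd
  refine Nat.Coprime.symm (Nat.coprime_of_dvd ?_)
  intro r hr h1 h2
  have h3 := hN r hr h2
  exact (Nat.Prime.coprime_iff_not_dvd hr).1 (coprime_one (by omega) hr (by omega)) h1

end lin

/-- **`PSL_n(q)`** -/
theorem tor_psl {p f n : ℕ} {X : Type u} [Group X] [Finite X] (hp : p.Prime) (h : Fam.Is p f X (.psl n)) :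
    TorFacts (.psl n) p f X := by
  obtain ⟨hn, -, F, _, _, hch, hF, ⟨E⟩⟩ := h
  have hq1 : 1 < p ^ f := by rw [← hF]; exact Fintype.one_lt_card
  have hf : 1 ≤ f := by
    rcases Nat.eq_zero_or_pos f with h0 | h0
    · rw [h0, pow_zero] at hq1; omega
    · exact h0
  have hcl : ∀ r, cls (.psl n) (p ^ f) r = cl true (p ^ f) r := fun r => rfl
  refine ⟨?_, ?_⟩
  · intro i N hi hm ho hN hd
    change i ≤ n at hm
    have hI : IsL X true n (p ^ f) F := ⟨E⟩
    rw [tnum_psl] at hd
    exact lin_tor hI (by simpa using hF) (by omega) hi hm ho hN hd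
  · rintro r a hr hr2 hrp h3 hm hb ⟨x, hx⟩
    rw [hcl] at h3 hm hb ⊢
    change _ ≤ n at hm
    change n < 2 * cl true (p ^ f) r at hb
    rw [tnum_psl]
    obtain ⟨d, N, hSh⟩ := sh_psl (F := F) hf hF hn hp
    have h1 : r ^ a ∣ Nat.card (Matrix.ProjectiveSpecialLinearGroup (Fin n) F) := by
      rw [← Nat.card_congr E.toEquiv, ← hx]
      exact orderOf_dvd_natCard x
    have h2 := Sh_pow_dvd hSh hr hrp h1
    rw [Fam.facs, List.map_map] at h2
    have h5 := pow_dvd_range hr (j0 := cl true (p ^ f) r - 2) h2 (by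
      intro j hj hd
      have h6 : Fac.val (p ^ f) (Fac.sub (j + 2)) = AA true (j + 2) (p ^ f) := by simp [Fac.val, AA]
      rw [Function.comp_apply, h6, dvd_AA_iff hq1.le, ← orderOf_dvd_iff_pow_eq_one] at hd
      have := uniq_mult hb (by omega : 0 < j + 2) (by omega) (by omega) hm hd (dvd_refl (cl true (p ^ f) r))
      omega)
    rw [Function.comp_apply, show cl true (p ^ f) r - 2 + 2 = cl true (p ^ f) r by omega] at h5
    simpa [Fac.val, AA] using h5

/-- **`PSU_n(q)`** -/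
theorem tor_psu {p f n : ℕ} {X : Type u} [Group X] [Finite X] (hp : p.Prime) (h : Fam.Is p f X (.psu n)) :
    TorFacts (.psu n) p f X := by
  obtain ⟨hn, -, F, _, _, hch, hF, ⟨E⟩⟩ := h
  have hq1 : 1 < p ^ f := by
    have h1 := Fintype.one_lt_card (α := F)
    rw [hF] at h1
    by_contra hcon
    have : p ^ f ≤ 1 := by omega
    have := Nat.pow_le_pow_left this 2
    omega
  have hf : 1 ≤ f := by
    rcases Nat.eq_zero_or_pos f with h0 | h0
    · rw [h0, pow_zero] at hq1; omega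
    · exact h0
  have hcl : ∀ r, cls (.psu n) (p ^ f) r = cl false (p ^ f) r := fun r => rfl
  refine ⟨?_, ?_⟩
  · intro i N hi hm ho hN hd
    change i ≤ n at hm
    have hI : IsL X false n (p ^ f) F := ⟨E⟩
    rw [tnum_psu] at hd
    exact lin_tor hI (by simpa using hF) (by omega) hi hm ho hN hd
  · rintro r a hr hr2 hrp h3 hm hb ⟨x, hx⟩
    rw [hcl] at h3 hm hb ⊢
    change _ ≤ n at hm
    change n < 2 * cl false (p ^ f) r at hb
    rw [tnum_psu]
    obtain ⟨d, N, hSh⟩ := sh_psu (F := F) hf hF hn hp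
    have h1 : r ^ a ∣ Nat.card (PSU n F (p ^ f)) := by
      rw [← Nat.card_congr E.toEquiv, ← hx]
      exact orderOf_dvd_natCard x
    have h2 := Sh_pow_dvd hSh hr hrp h1
    rw [Fam.facs, List.map_map] at h2
    have key : ∀ j : ℕ, Fac.val (p ^ f) (if Even (j + 1) then Fac.add (j + 2) else Fac.sub (j + 2)) =
        AA false (j + 2) (p ^ f) := by
      intro j
      rcases Nat.even_or_odd (j + 1) with h6 | h6
      · rw [if_pos h6]
        rw [Nat.even_iff] at h6
        have : (j + 2) % 2 = 1 := by omega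
        simp [Fac.val, AA, this]
      · rw [if_neg (Nat.not_even_iff_odd.2 h6)]
        rw [Nat.odd_iff] at h6
        have : (j + 2) % 2 = 0 := by omega
        simp [Fac.val, AA, this]
    have h5 := pow_dvd_range hr (j0 := cl false (p ^ f) r - 2) h2 (by
      intro j hj hd
      rw [Function.comp_apply, key, dvd_AA_iff hq1.le, ← orderOf_dvd_iff_pow_eq_one] at hd
      have := uniq_mult hb (by omega : 0 < j + 2) (by omega) (by omega) hm hd (dvd_refl (cl false (p ^ f) r))
      omega)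
    rwa [Function.comp_apply, key, show cl false (p ^ f) r - 2 + 2 = cl false (p ^ f) r by omega] at h5

/-! ### symplectic and orthogonal groups -/

theorem tnum_tn {t : Fam} (h1 : ∀ n, t ≠ .psl n) (h2 : ∀ n, t ≠ .psu n) (q i : ℕ) : tnum t q i = tn q i := by
  unfold tnum tn
  split
  · exact absurd rfl (h1 _)
  · exact absurd rfl (h2 _)
  · rfl

section

variable {q r : ℕ}

theorem dvd_tn_of_pow (hr : r.Prime) (hr2 : r ≠ 2) (h3 : 3 ≤ co q r) (hq : 1 ≤ q) {a : ℕ}
    (h : r ^ a ∣ q ^ (2 * eta (co q r)) - 1) : r ^ a ∣ tn q (co q r) := by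
  have e1 : q ^ (2 * eta (co q r)) - 1 = (q ^ eta (co q r) + 1) * (q ^ eta (co q r) - 1) := by
    rw [two_mul, pow_add]
    have := Nat.mul_self_sub_mul_self_eq (q ^ eta (co q r)) 1
    rw [one_mul] at this
    exact this
  rw [e1] at h
  have hpe := pow_eta_eq hr h3
  have := Fact.mk hr
  have h2 : ((2 : ℕ) : ZMod r) ≠ 0 := by
    intro h0
    exact hr2 ((Nat.prime_dvd_prime_iff_eq hr Nat.prime_two).1 ((ZMod.natCast_eq_zero_iff _ _).1 h0))
  unfold tn
  rcases eta_cases (co q r) with ⟨ho, h5⟩ | ⟨he, h5⟩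
  · rw [if_neg (Nat.not_even_iff_odd.2 ho)]
    have h6 : Nat.Coprime (r ^ a) (q ^ eta (co q r) + 1) := by
      apply Nat.Coprime.pow_left
      rw [Nat.Prime.coprime_iff_not_dvd hr, ← ZMod.natCast_eq_zero_iff]
      push_cast
      rw [hpe, sgn, if_neg (Nat.not_even_iff_odd.2 ho)]
      intro h7
      apply h2
      push_cast at h7 ⊢
      linear_combination h7
    have h7 := h6.dvd_of_dvd_mul_left h
    rwa [h5] at h7
  · rw [if_pos he]
    have h6 : Nat.Coprime (r ^ a) (q ^ eta (co q r) - 1) := by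
      apply Nat.Coprime.pow_left
      rw [Nat.Prime.coprime_iff_not_dvd hr, ← ZMod.natCast_eq_zero_iff, Nat.cast_sub (Nat.one_le_pow _ _ hq)]
      push_cast
      rw [hpe, sgn, if_pos he]
      intro h7
      apply h2
      push_cast at h7 ⊢
      linear_combination -h7
    have h7 := h6.dvd_of_dvd_mul_right h
    rwa [show eta (co q r) = co q r / 2 by omega] at h7

/-- the factors `q ^ (2 j) - 1` -/
theorem eta_dvd (hq : 1 ≤ q) {k : ℕ} (h : r ∣ q ^ (2 * k) - 1) : eta (co q r) ∣ k := by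
  have h1 : co q r ∣ 2 * k := by
    rw [co, ← Cfsg.Agent.Lib.Zsigmondy.dvd_pow_sub_one_iff hq]
    exact h
  rcases eta_cases (co q r) with ⟨ho, h5⟩ | ⟨he, h5⟩
  · rw [h5]
    exact (Nat.coprime_two_right.2 ho).dvd_of_dvd_mul_left h1
  · rw [← h5] at h1
    exact Nat.dvd_of_mul_dvd_mul_left (by norm_num) h1

theorem big_range (hr : r.Prime) (hr2 : r ≠ 2) (h3 : 3 ≤ co q r) (hq : 1 ≤ q) {a m : ℕ}
    (hm : eta (co q r) ≤ m) (hb : m < 2 * eta (co q r))
    (h : r ^ a ∣ ((List.range m).map fun j => q ^ (2 * (j + 1)) - 1).prod) : r ^ a ∣ tn q (co q r) := by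
  have hη := one_le_eta (k := co q r) (by omega)
  have h5 := pow_dvd_range hr (j0 := eta (co q r) - 1) h (by
    intro j hj hd
    have h6 := eta_dvd hq hd
    have := uniq_mult hb (by omega : 0 < j + 1) (by omega) (by omega) hm h6 (dvd_refl (eta (co q r)))
    omega)
  rw [show eta (co q r) - 1 + 1 = eta (co q r) by omega] at h5
  exact dvd_tn_of_pow hr hr2 h3 hq h5

end

theorem tn_dvd_sp {F : Type} [Field F] [Fintype F] {m i N : ℕ} (hi : 3 ≤ i) (him : eta i ≤ m) (ho : Odd N)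
    (hd : N ∣ tn (Fintype.card F) i) : ∃ x : PSp m F, orderOf x = N := by
  have hη := one_le_eta (k := i) (by omega)
  have hq1 : 1 < Fintype.card F := Fintype.one_lt_card
  have h1 : ∃ A : Matrix.symplecticGroup (Fin (eta i)) F, orderOf A = N := by
    unfold tn at hd
    rcases eta_cases i with ⟨h, h5⟩ | ⟨h, h5⟩
    · rw [if_neg (Nat.not_even_iff_odd.2 h)] at hd
      have h6 := Cfsg.Agent.H376.SpEmb.exists_minus F (eta i) (by omega)
      rw [Nat.card_eq_fintype_card] at h6
      have h7 := Nat.one_lt_pow (by omega : eta i ≠ 0) hq1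
      exact Cfsg.Agent.H376.SpEmb.exists_of_dvd (by omega) (by rwa [h5]) h6
    · rw [if_pos h] at hd
      have h6 := Cfsg.Agent.H376.SpEmb.exists_plus F (eta i) (by omega)
      rw [Nat.card_eq_fintype_card] at h6
      exact Cfsg.Agent.H376.SpEmb.exists_of_dvd (by omega) (by rwa [show eta i = i / 2 by omega]) h6
  obtain ⟨A, hA⟩ := h1
  obtain ⟨C, hC⟩ := Cfsg.Agent.H376.SpEmb.exists_block (n := m) (a := eta i) (b := 0) (by omega) A hA 1 orderOf_one
  rw [Nat.lcm_one_right] at hC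
  exact ⟨QuotientGroup.mk C, Cfsg.Agent.H376.PrimeOrd.orderOf_mk _ (fun x hx => Cfsg.Agent.H376.SpEmb.center_pow x hx)
    (Nat.coprime_two_left.2 ho) C hC⟩

/-- **`PSp_2m(q)`** -/
theorem tor_psp {p f m : ℕ} {X : Type u} [Group X] [Finite X] (hp : p.Prime) (h : Fam.Is p f X (.psp m)) :
    TorFacts (.psp m) p f X := by
  obtain ⟨hm, hsm, F, _, _, hch, hF, ⟨E⟩⟩ := h
  have hq1 : 1 < p ^ f := by rw [← hF]; exact Fintype.one_lt_card
  have hf : 1 ≤ f := by
    rcases Nat.eq_zero_or_pos f with h0 | h0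
    · rw [h0, pow_zero] at hq1; omega
    · exact h0
  have hcl : ∀ r, cls (.psp m) (p ^ f) r = co (p ^ f) r := cls_eq_co (by intro n; exact fun h => by cases h) _
  have htn : ∀ i, tnum (.psp m) (p ^ f) i = tn (p ^ f) i := fun i => rfl
  refine ⟨?_, ?_⟩
  · intro i N hi him ho hN hd
    change eta i ≤ m at him
    rw [htn, ← hF] at hd
    obtain ⟨y, hy⟩ := tn_dvd_sp (F := F) hi him ho hd
    exact ⟨E.symm y, by rw [MulEquiv.orderOf_eq, hy]⟩
  · rintro r a hr hr2 hrp h3 him hb ⟨x, hx⟩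
    rw [hcl] at h3 him hb ⊢
    change eta _ ≤ m at him
    change m < 2 * eta _ at hb
    rw [htn]
    obtain ⟨d, N, hSh⟩ := sh_psp (F := F) hf hF hm hp
    have h1 : r ^ a ∣ Nat.card (PSp m F) := by
      rw [← Nat.card_congr E.toEquiv, ← hx]
      exact orderOf_dvd_natCard x
    have h2 := Sh_pow_dvd hSh hr hrp h1
    rw [Fam.facs, List.map_map] at h2
    exact big_range hr hr2 h3 hq1.le him hb h2

/-- **`PΩ_2m+1(q)`** -/
theorem tor_oodd {p f m : ℕ} {X : Type u} [Group X] [Finite X] (hp : p.Prime) (h : Fam.Is p f X (.oodd m)) :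
    TorFacts (.oodd m) p f X := by
  obtain ⟨hm, hodd, F, _, _, hch, hF, ⟨E⟩⟩ := h
  have hodd' : Odd (Fintype.card F) := by rw [hF]; exact hodd
  have hq1 : 1 < p ^ f := by rw [← hF]; exact Fintype.one_lt_card
  have hf : 1 ≤ f := by
    rcases Nat.eq_zero_or_pos f with h0 | h0
    · rw [h0, pow_zero] at hq1; omega
    · exact h0
  have hcl : ∀ r, cls (.oodd m) (p ^ f) r = co (p ^ f) r := cls_eq_co (by intro n; exact fun h => by cases h) _
  have htn : ∀ i, tnum (.oodd m) (p ^ f) i = tn (p ^ f) i := fun i => rfl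
  refine ⟨?_, ?_⟩
  · intro i N hi him ho hN hd
    change eta i ≤ m at him
    rw [htn, ← hF, ← Nat.card_eq_fintype_card] at hd
    have h1 := Cfsg.Agent.H72.AdjOrth.elt_tn (F := F) (k := i) (by omega) hd
    rw [← eta_eq] at h1
    obtain ⟨δ, h4⟩ : ∃ δ : ℤ, Cfsg.Agent.H377.Elt F m δ N := by
      rcases Nat.eq_or_lt_of_le him with h2 | h2
      · rw [h2] at h1
        exact ⟨_, h1⟩
      · exact ⟨1, Cfsg.Agent.H72.AdjOrth.elt_extend h1 (Cfsg.Agent.H72.AdjOrth.sg_pm _) (Or.inl rfl) h2⟩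
    obtain ⟨y, hy⟩ := exists_odd_of_elt (Cfsg.Agent.H390.two_ne_zero_of_odd hodd') hm h4 (N := N) fun j =>
      ⟨fun h5 => (Nat.coprime_two_right.2 ho).dvd_of_dvd_mul_left h5, fun h5 => Dvd.dvd.mul_left h5 2⟩
    exact ⟨E.symm y, by rw [MulEquiv.orderOf_eq, hy]⟩
  · rintro r a hr hr2 hrp h3 him hb ⟨x, hx⟩
    rw [hcl] at h3 him hb ⊢
    change eta _ ≤ m at him
    change m < 2 * eta _ at hb
    rw [htn]
    obtain ⟨d, N, hSh⟩ := sh_oodd (F := F) hf hF hm hodd' hp
    have h1 : r ^ a ∣ Nat.card (POmega F (quadFormOdd m F)) := by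
      rw [← Nat.card_congr E.toEquiv, ← hx]
      exact orderOf_dvd_natCard x
    have h2 := Sh_pow_dvd hSh hr hrp h1
    rw [Fam.facs, List.map_map] at h2
    exact big_range hr hr2 h3 hq1.le him hb h2

section orth

open Cfsg.Agent.H390

variable {F : Type} [Field F] [Fintype F] {X : Type u} [Group X] {m : ℕ} {δ : ℤ}

theorem OD.tor (h : OD F X m δ) {i N : ℕ} (hi : 3 ≤ i) (him : eta i < m ∨ (eta i = m ∧ sgn i = δ)) (ho : Odd N)
    (hd : N ∣ tn (Nat.card F) i) : ∃ x : X, orderOf x = N := by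
  have h1 := Cfsg.Agent.H72.AdjOrth.elt_tn (F := F) (k := i) (by omega) hd
  rw [← eta_eq] at h1
  refine h.ex N (Elt.two (by have := h.hm; omega) ho ?_)
  rcases him with h2 | ⟨h2, h4⟩
  · exact Cfsg.Agent.H72.AdjOrth.elt_extend h1 (Cfsg.Agent.H72.AdjOrth.sg_pm _) h.hδ h2
  · rw [← h2, ← h4]
    exact h1

end orth

section bigorth

variable {q r : ℕ}

/-- the two factors of the orders of the even-dimensional orthogonal groups -/
theorem big_orth (hr : r.Prime) (hr2 : r ≠ 2) (h3 : 3 ≤ co q r) (hq : 1 ≤ q) {a m : ℕ} {δ : ℤ}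
    (hδ : δ = 1 ∨ δ = -1) {M : ℕ} (hM : (M : ZMod r) = (q : ZMod r) ^ m - δ)
    (hMt : sgn (co q r) = δ → eta (co q r) = m → M = tn q (co q r))
    (hm : eta (co q r) < m ∨ (eta (co q r) = m ∧ sgn (co q r) = δ)) (hb : m < 2 * eta (co q r))
    (h : r ^ a ∣ M * ((List.range (m - 1)).map fun j => q ^ (2 * (j + 1)) - 1).prod) : r ^ a ∣ tn q (co q r) := by
  have hη := one_le_eta (k := co q r) (by omega)
  have := Fact.mk hr
  rcases hm with hm | ⟨hm, hs⟩
  · have h6 : Nat.Coprime (r ^ a) M := by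
      apply Nat.Coprime.pow_left
      rw [Nat.Prime.coprime_iff_not_dvd hr, ← ZMod.natCast_eq_zero_iff, hM]
      intro h7
      have h8 : ((q : ZMod r) ^ m) ^ 2 = 1 := by
        have h9 : (q : ZMod r) ^ m = (δ : ℤ) := by linear_combination h7
        rw [h9]
        rcases hδ with h | h <;> rw [h] <;> norm_num
      rw [← pow_mul, mul_comm] at h8
      have h9 : eta (co q r) ∣ m := by
        apply eta_dvd hq
        rw [← ZMod.natCast_eq_zero_iff, Nat.cast_sub (Nat.one_le_pow _ _ hq)]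
        push_cast
        rw [h8, sub_self]
      have := uniq_mult hb (by omega : 0 < m) (by omega) le_rfl hm.le h9 (dvd_refl (eta (co q r)))
      omega
    exact big_range hr hr2 h3 hq (m := m - 1) (by omega) (by omega) (h6.dvd_of_dvd_mul_left h)
  · rw [← hMt hs hm]
    refine Nat.Coprime.dvd_of_dvd_mul_right ?_ h
    apply Nat.Coprime.pow_left
    rw [Nat.coprime_list_prod_right_iff]
    intro x hx
    obtain ⟨j, hj, rfl⟩ := List.mem_map.1 hx
    rw [List.mem_range] at hj
    rw [Nat.Prime.coprime_iff_not_dvd hr]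
    intro h4
    have h6 := eta_dvd hq h4
    have := Nat.le_of_dvd (by omega) h6
    omega

end bigorth

theorem not_even_of_sgn {i : ℕ} (h : sgn i = 1) : ¬ Even i := by
  intro he
  rw [sgn, if_pos he] at h
  norm_num at h

theorem even_of_sgn {i : ℕ} (h : sgn i = -1) : Even i := by
  by_contra he
  rw [sgn, if_neg he] at h
  norm_num at h

/-- **`PΩ^+_2m(q)`** -/
theorem tor_oplus {p f m : ℕ} {X : Type u} [Group X] [Finite X] (hp : p.Prime) (h : Fam.Is p f X (.oplus m)) :
    TorFacts (.oplus m) p f X := by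
  obtain ⟨hm, F, _, _, hch, hF, ⟨E⟩⟩ := h
  have hod := od_plus hm E
  have hq1 : 1 < p ^ f := by rw [← hF]; exact Fintype.one_lt_card
  have hf : 1 ≤ f := by
    rcases Nat.eq_zero_or_pos f with h0 | h0
    · rw [h0, pow_zero] at hq1; omega
    · exact h0
  have hcl : ∀ r, cls (.oplus m) (p ^ f) r = co (p ^ f) r := cls_eq_co (by intro n; exact fun h => by cases h) _
  have htn : ∀ i, tnum (.oplus m) (p ^ f) i = tn (p ^ f) i := fun i => rfl
  refine ⟨?_, ?_⟩
  · intro i N hi him ho hN hd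
    rw [htn, ← hF, ← Nat.card_eq_fintype_card] at hd
    exact hod.tor hi (eta_eq_iff_plus.2 him) ho hd
  · rintro r a hr hr2 hrp h3 him hb ⟨x, hx⟩
    rw [hcl] at h3 him hb ⊢
    change m < 2 * eta _ at hb
    rw [htn]
    obtain ⟨d, N, hSh⟩ := sh_oplus (F := F) hf hF hm hp
    have h1 : r ^ a ∣ Nat.card (POmega F (quadFormPlus m F)) := by
      rw [← Nat.card_congr E.toEquiv, ← hx]
      exact orderOf_dvd_natCard x
    have h2 := Sh_pow_dvd hSh hr hrp h1
    rw [Fam.facs, List.map_cons, List.prod_cons, List.map_map] at h2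
    refine big_orth hr hr2 h3 hq1.le (δ := 1) (Or.inl rfl) ?_ ?_ (eta_eq_iff_plus.2 him) hb h2
    · change (((p ^ f) ^ m - 1 : ℕ) : ZMod r) = _
      rw [Nat.cast_sub (Nat.one_le_pow _ _ hq1.le)]
      push_cast
      ring
    · intro hs hη
      have hne := not_even_of_sgn hs
      rcases eta_cases (co (p ^ f) r) with ⟨h5, h6⟩ | ⟨h5, -⟩
      · rw [tn, if_neg hne, ← h6, hη]
        rfl
      · exact absurd h5 hne

/-- **`PΩ^-_2m(q)`** -/
theorem tor_ominus {p f m : ℕ} {X : Type u} [Group X] [Finite X] (hp : p.Prime) (h : Fam.Is p f X (.ominus m)) :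
    TorFacts (.ominus m) p f X := by
  obtain ⟨hm, F, _, _, hch, a', b', hF, hab, ⟨E⟩⟩ := h
  have hod := od_minus hm hab E
  have hq1 : 1 < p ^ f := by rw [← hF]; exact Fintype.one_lt_card
  have hf : 1 ≤ f := by
    rcases Nat.eq_zero_or_pos f with h0 | h0
    · rw [h0, pow_zero] at hq1; omega
    · exact h0
  have hcl : ∀ r, cls (.ominus m) (p ^ f) r = co (p ^ f) r := cls_eq_co (by intro n; exact fun h => by cases h) _
  have htn : ∀ i, tnum (.ominus m) (p ^ f) i = tn (p ^ f) i := fun i => rfl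
  refine ⟨?_, ?_⟩
  · intro i N hi him ho hN hd
    rw [htn, ← hF, ← Nat.card_eq_fintype_card] at hd
    exact hod.tor hi (eta_eq_iff_minus.2 him) ho hd
  · rintro r a hr hr2 hrp h3 him hb ⟨x, hx⟩
    rw [hcl] at h3 him hb ⊢
    change m < 2 * eta _ at hb
    rw [htn]
    obtain ⟨d, N, hSh⟩ := sh_ominus (F := F) hf hF hm hab hp
    have h1 : r ^ a ∣ Nat.card (POmega F (quadFormMinus (m - 1) F a' b')) := by
      rw [← Nat.card_congr E.toEquiv, ← hx]
      exact orderOf_dvd_natCard x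
    have h2 := Sh_pow_dvd hSh hr hrp h1
    rw [Fam.facs, List.map_cons, List.prod_cons, List.map_map] at h2
    refine big_orth hr hr2 h3 hq1.le (δ := -1) (Or.inr rfl) ?_ ?_ (eta_eq_iff_minus.2 him) hb h2
    · change (((p ^ f) ^ m + 1 : ℕ) : ZMod r) = _
      push_cast
      ring
    · intro hs hη
      have hne := even_of_sgn hs
      rcases eta_cases (co (p ^ f) r) with ⟨h5, -⟩ | ⟨h5, h6⟩
      · exact absurd hne (Nat.not_even_iff_odd.2 h5)
      · rw [tn, if_pos hne, show co (p ^ f) r / 2 = m by omega]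
        rfl

/-- **tori and exponents** -/
theorem torFacts {t : Fam} (ht : Classical t) {p f : ℕ} {X : Type u} [Group X] [Finite X] (hp : p.Prime)
    (h : Fam.Is p f X t) : TorFacts t p f X := by
  cases t with
  | psl n => exact tor_psl hp h
  | psp n => exact tor_psp hp h
  | psu n => exact tor_psu hp h
  | oodd n => exact tor_oodd hp h
  | oplus n => exact tor_oplus hp h
  | ominus n => exact tor_ominus hp h
  | g2 => exact ht.elim
  | f4 => exact ht.elim
  | e6 => exact ht.elim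
  | e7 => exact ht.elim
  | e8 => exact ht.elim
  | td4 => exact ht.elim
  | te6 => exact ht.elim
  | sz => exact ht.elim
  | tf4 => exact ht.elim
  | ree => exact ht.elim

end Cfsg.Agent.R2.Spec.P1
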