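import Cfsg.Agent.R2.Spec.P1.Lin
import Cfsg.Agent.H390.Cocl
import Cfsg.Agent.H72.AdjCoc
import Cfsg.Agent.S2469
import Cfsg.Agent.S2472
import Cfsg.Agent.S2474

/-!
# Team T3 (S3435), box P1: adjacency facts for `PSp_2n(q)` and `PΩ_2n+1(q)` (helper15)
-/

set_option autoImplicit false

namespace Cfsg.Agent.R2.Spec.P1

open Cfsg Cfsg.Agent.H426.LieFam Cfsg.Agent.R2.Spec Cfsg.Agent.H390

universe u

/-- the class for the unsigned families -/
noncomputable def co (q r : ℕ) : ℕ := orderOf ((q : ℕ) : ZMod r)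

theorem cls_eq_co {t : Fam} (ht : ∀ n, t ≠ .psu n) (q r : ℕ) : cls t q r = co q r := by
  have : sg t q = (q : ℤ) := by
    unfold sg
    split
    · exact absurd rfl (ht _)
    · rfl
  rw [cls, this, co]
  simp

theorem eta_cases (k : ℕ) : (Odd k ∧ eta k = k) ∨ (Even k ∧ 2 * eta k = k) := by
  unfold eta
  rcases Nat.even_or_odd k with h | h
  · right
    refine ⟨h, ?_⟩
    rw [if_pos (Nat.even_iff.1 h)]
    obtain ⟨j, hj⟩ := h
    omega
  · left
    refine ⟨h, ?_⟩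
    rw [if_neg (by rw [Nat.odd_iff.1 h]; decide)]

theorem isEta (k : ℕ) : NonAdj.IsEta k (eta k) := eta_cases k

theorem eta_eq (k : ℕ) : eta k = Cfsg.Agent.H72.AdjOrth.eta k := by
  unfold eta Cfsg.Agent.H72.AdjOrth.eta
  simp only [Nat.even_iff]

theorem oddMul_iff (i j : ℕ) : OddMul i j ↔ ∃ t : ℕ, Odd t ∧ j = i * t := by
  unfold OddMul
  constructor
  · rintro ⟨k, h1, h2⟩
    exact ⟨k, Nat.odd_iff.2 h1, h2⟩
  · rintro ⟨k, h1, h2⟩
    exact ⟨k, Nat.odd_iff.1 h1, h2⟩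

theorem one_le_eta {k : ℕ} (h : 1 ≤ k) : 1 ≤ eta k := by
  rcases eta_cases k with h1 | ⟨_, h1⟩ <;> omega

theorem ee_eq (q r : ℕ) : Cfsg.Agent.H72.AdjOrth.ee q r = co q r := rfl

section

variable {q r : ℕ}

theorem not_dvd_of_co (hr : r.Prime) (h : 3 ≤ co q r) : ¬ r ∣ q := (prim_cond hr rfl h).2.2.1

theorem dvd_prod_of_co (hq : 1 ≤ q) {n : ℕ} (h3 : 3 ≤ co q r) (hn : eta (co q r) ≤ n) :
    r ∣ ∏ i ∈ Finset.range n, (q ^ (2 * (i + 1)) - 1) :=
  dvd_of_eta (e := co q r) hq rfl (isEta _) (one_le_eta (by omega)) hn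

theorem dvd_of_mul_small {r d c : ℕ} (hr : r.Prime) (hr2 : r ≠ 2) (hd : d ∣ 4) (h : r ∣ d * c) : r ∣ c := by
  rcases (hr.dvd_mul).1 h with h1 | h1
  · exfalso
    have h2 : r ∣ 2 ^ 2 := h1.trans hd
    exact hr2 ((Nat.prime_dvd_prime_iff_eq hr Nat.prime_two).1 (hr.dvd_of_dvd_pow h2))
  · exact h1

end

section psp

variable {F : Type*} [Field F] [Fintype F] {n : ℕ}

theorem psp_dvd {r : ℕ} (hn : 1 ≤ n) (hr : r.Prime) (hr2 : r ≠ 2) (h3 : 3 ≤ co (Fintype.card F) r) :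
    r ∣ Nat.card (PSp n F) ↔ eta (co (Fintype.card F) r) ≤ n := by
  constructor
  · intro hd
    have h1 := Cfsg.Agent.H72.AdjCoc.sp_class (F := F) (m := n) hr (by
      rw [Nat.card_eq_fintype_card]
      exact not_dvd_of_co hr h3) hd
    rw [← eta_eq, ee_eq, Nat.card_eq_fintype_card] at h1
    exact h1
  · intro hle
    have h1 := Cfsg.Agent.S0245.result (F := F) rfl n
    have h2 := Cfsg.Agent.S0246.result (F := F) rfl n hn
    have h4 := Subgroup.card_eq_card_quotient_mul_card_subgroup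
      (Subgroup.center (Matrix.symplecticGroup (Fin n) F))
    rw [h1, h2] at h4
    have h5 : r ∣ Nat.gcd 2 (Fintype.card F - 1) * Nat.card (PSp n F) := by
      rw [mul_comm]
      exact (Dvd.dvd.mul_left (dvd_prod_of_co Fintype.card_pos h3 hle) _).trans (dvd_of_eq h4)
    exact dvd_of_mul_small hr hr2 ((Nat.gcd_dvd_left _ _).trans (by norm_num)) h5

theorem psp_adj {p : ℕ} (hp : p.Prime) [CharP F p] (hn : 2 ≤ n) (hsm : n = 2 → 3 ≤ Fintype.card F) {r s : ℕ}
    (hr : r.Prime) (hs : s.Prime) (hr2 : r ≠ 2) (hs2 : s ≠ 2) (hrs : r ≠ s) (hrp : ¬ r ∣ p) (hsp : ¬ s ∣ p)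
    (h3 : 3 ≤ co (Fintype.card F) r) (h3' : 3 ≤ co (Fintype.card F) s) (hm : eta (co (Fintype.card F) r) ≤ n)
    (hm' : eta (co (Fintype.card F) s) ≤ n) :
    (∃ x : PSp n F, orderOf x = r * s) ↔ ¬ (n < eta (co (Fintype.card F) r) + eta (co (Fintype.card F) s) ∧
      ¬ OddMul (co (Fintype.card F) r) (co (Fintype.card F) s) ∧
      ¬ OddMul (co (Fintype.card F) s) (co (Fintype.card F) r)) := by
  have := Fact.mk hp
  have hrp' : r ≠ p := by rintro rfl; exact hrp dvd_rfl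
  have hsp' : s ≠ p := by rintro rfl; exact hsp dvd_rfl
  have hrG := (psp_dvd (F := F) (by omega : 1 ≤ n) hr hr2 h3).2 hm
  have hsG := (psp_dvd (F := F) (by omega : 1 ≤ n) hs hs2 h3').2 hm'
  have aux : ∀ i j : ℕ, 3 ≤ i → 3 ≤ j → eta i ≤ eta j → OddMul j i → OddMul i j := by
    rintro i j hi hj hij ⟨k, hk, rfl⟩
    have h1 : k = 1 := by
      rcases eta_cases j with ⟨h1, h2⟩ | ⟨h1, h2⟩ <;> rcases eta_cases (j * k) with ⟨h4, h5⟩ | ⟨h4, h5⟩
      · by_contra hk1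
        have : 3 ≤ k := by omega
        nlinarith
      · rw [Nat.even_mul] at h4
        rcases h4 with h4 | h4
        · exact absurd h1 (Nat.not_odd_iff_even.2 h4)
        · rw [Nat.even_iff] at h4; omega
      · rw [Nat.odd_mul] at h4
        exact absurd h1 (Nat.not_even_iff_odd.2 h4.1)
      · by_contra hk1
        have : 3 ≤ k := by omega
        nlinarith
    subst h1
    exact ⟨1, rfl, by ring⟩
  have main : ∀ r s : ℕ, r.Prime → s.Prime → r ≠ 2 → s ≠ 2 → r ≠ s → r ≠ p → s ≠ p → 3 ≤ co (Fintype.card F) r →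
      3 ≤ co (Fintype.card F) s → r ∣ Nat.card (PSp n F) → s ∣ Nat.card (PSp n F) →
      eta (co (Fintype.card F) r) ≤ eta (co (Fintype.card F) s) → ((∃ x : PSp n F, orderOf x = r * s) ↔
        ¬ (n < eta (co (Fintype.card F) r) + eta (co (Fintype.card F) s) ∧
      ¬ OddMul (co (Fintype.card F) r) (co (Fintype.card F) s) ∧
      ¬ OddMul (co (Fintype.card F) s) (co (Fintype.card F) r))) := by
    intro r s hr hs hr2 hs2 hrs hrp hsp h3 h3' hrG hsG hle
    have h1 := Cfsg.Agent.S2469.result (F := F) p n hn hsm r s hr hs hr2 hs2 hrp hsp hrs hrG hsG (co (Fintype.card F) r) (co (Fintype.card F) s) _ _ rfl rfl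
      (eta_cases _) (eta_cases _) hle
    rw [← oddMul_iff] at h1
    constructor
    · rintro hx ⟨h5, h6, -⟩
      exact (h1.2 ⟨h5, h6⟩) hx
    · intro h5
      by_contra hx
      obtain ⟨h6, h7⟩ := h1.1 hx
      exact h5 ⟨h6, h7, fun h8 => h7 (aux _ _ h3 h3' hle h8)⟩
  rcases le_total (eta (co (Fintype.card F) r)) (eta (co (Fintype.card F) s)) with hle | hle
  · exact main r s hr hs hr2 hs2 hrs hrp' hsp' h3 h3' hrG hsG hle
  · have h1 := main s r hs hr hs2 hr2 hrs.symm hsp' hrp' h3' h3 hsG hrG hle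
    rw [mul_comm r s, h1, add_comm]
    tauto

theorem psp_adjp {p : ℕ} (hp : p.Prime) [CharP F p] (hn : 2 ≤ n) (hsm : n = 2 → 3 ≤ Fintype.card F) {r : ℕ}
    (hr : r.Prime) (hr2 : r ≠ 2) (hrp : ¬ r ∣ p)
    (h3 : 3 ≤ co (Fintype.card F) r) (hm : eta (co (Fintype.card F) r) ≤ n) :
    (∃ x : PSp n F, orderOf x = r * p) ↔ ¬ n < eta (co (Fintype.card F) r) + 1 := by
  have := Fact.mk hp
  have hrp' : r ≠ p := by rintro rfl; exact hrp dvd_rfl
  have hrG := (psp_dvd (F := F) (by omega : 1 ≤ n) hr hr2 h3).2 hm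
  have h1 := Cfsg.Agent.S2472.result (F := F) p n hn hsm r hr hr2 hrp' hrG (co (Fintype.card F) r) _ rfl (eta_cases _)
  change _ ∈ Set.range _ ↔ _
  rw [← not_iff_not, h1, not_not]
  omega

end psp

/-- **`PSp_2n(q)`** -/
theorem psp {p f n : ℕ} {X : Type u} [Group X] [Finite X] (hp : p.Prime) (h : Fam.Is p f X (.psp n)) :
    AdjFacts (.psp n) p f X := by
  obtain ⟨hn, hsm, F, _, _, hch, hF, ⟨E⟩⟩ := h
  have hcl : ∀ r, cls (.psp n) (p ^ f) r = co (Fintype.card F) r := fun r => by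
    rw [cls_eq_co (by intro n; exact fun h => by cases h), hF]
  have key : ∀ N : ℕ, (∃ x : X, orderOf x = N) ↔ ∃ y : PSp n F, orderOf y = N := by
    intro N
    constructor
    · rintro ⟨x, hx⟩
      exact ⟨E x, by rw [MulEquiv.orderOf_eq, hx]⟩
    · rintro ⟨y, hy⟩
      exact ⟨E.symm y, by rw [MulEquiv.orderOf_eq, hy]⟩
  refine ⟨?_, ?_, ?_⟩
  · intro r hr hr2 _ h3
    rw [hcl] at h3 ⊢
    rw [Nat.card_congr E.toEquiv]
    exact psp_dvd (by omega) hr hr2 h3
  · intro r s hr hs hr2 hs2 hrs hrp hsp h3 h3' hm hm'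
    rw [hcl] at h3 h3' hm hm'
    rw [hcl, hcl, key]
    exact psp_adj hp hn (by rw [hF]; exact hsm) hr hs hr2 hs2 hrs hrp hsp h3 h3' hm hm'
  · intro r hr hr2 hrp h3 hm
    rw [hcl] at h3 hm
    rw [hcl, key]
    exact psp_adjp hp hn (by rw [hF]; exact hsm) hr hr2 hrp h3 hm

/-- **`PΩ_2n+1(q)`** -/
theorem oodd {p f n : ℕ} {X : Type u} [Group X] [Finite X] (hp : p.Prime) (h : Fam.Is p f X (.oodd n)) :
    AdjFacts (.oodd n) p f X := by
  obtain ⟨hn, hodd, F, _, _, hch, hF, ⟨E⟩⟩ := h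
  have hodd' : Odd (Fintype.card F) := by rw [hF]; exact hodd
  have hcl : ∀ r, cls (.oodd n) (p ^ f) r = co (Fintype.card F) r := fun r => by
    rw [cls_eq_co (by intro n; exact fun h => by cases h), hF]
  have key : ∀ N : ℕ, (∃ x : X, orderOf x = N) ↔ ∃ y : POmega F (quadFormOdd n F), orderOf y = N := by
    intro N
    constructor
    · rintro ⟨x, hx⟩
      exact ⟨E x, by rw [MulEquiv.orderOf_eq, hx]⟩
    · rintro ⟨y, hy⟩
      exact ⟨E.symm y, by rw [MulEquiv.orderOf_eq, hy]⟩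
  have key2 : ∀ r s : ℕ, r.Prime → s.Prime → r ≠ s → ((∃ x : X, orderOf x = r * s) ↔ ∃ y : PSp n F, orderOf y = r * s) := by
    intro r s hr hs hrs
    rw [key]
    exact Cfsg.Agent.S2474.result hodd' n hn r s hr hs hrs
  refine ⟨?_, ?_, ?_⟩
  · intro r hr hr2 _ h3
    rw [hcl] at h3 ⊢
    change _ ↔ eta (co (Fintype.card F) r) ≤ n
    rw [Nat.card_congr E.toEquiv, ← psp_dvd (F := F) (n := n) (by omega) hr hr2 h3]
    have h1 := Cfsg.Agent.S0292.result (F := F) rfl hodd' n hn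
    have h2 := Cfsg.Agent.S0245.result (F := F) rfl n
    have h4 := Cfsg.Agent.S0246.result (F := F) rfl n (by omega)
    have h5 := Subgroup.card_eq_card_quotient_mul_card_subgroup
      (Subgroup.center (Matrix.symplecticGroup (Fin n) F))
    rw [h2, h4, ← h1] at h5
    constructor
    · intro hd
      have h6 : r ∣ Nat.gcd 2 (Fintype.card F - 1) * Nat.card (PSp n F) := by
        rw [mul_comm]
        exact (Dvd.dvd.mul_left hd 2).trans (dvd_of_eq h5)
      exact dvd_of_mul_small hr hr2 ((Nat.gcd_dvd_left _ _).trans (by norm_num)) h6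
    · intro hd
      have h6 : r ∣ 2 * Nat.card (POmega F (quadFormOdd n F)) := by
        rw [h5]
        exact Dvd.dvd.mul_right hd _
      exact dvd_of_mul_small hr hr2 (by norm_num) h6
  · intro r s hr hs hr2 hs2 hrs hrp hsp h3 h3' hm hm'
    rw [hcl] at h3 h3' hm hm'
    rw [hcl, hcl, key2 r s hr hs hrs]
    exact psp_adj hp (by omega) (by omega) hr hs hr2 hs2 hrs hrp hsp h3 h3' hm hm'
  · intro r hr hr2 hrp h3 hm
    rw [hcl] at h3 hm
    rw [hcl, key2 r p hr hp (by rintro rfl; exact hrp dvd_rfl)]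
    exact psp_adjp hp (by omega) (by omega) hr hr2 hrp h3 hm

end Cfsg.Agent.R2.Spec.P1
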