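import Cfsg.Agent.R2.Spec.P1.TopEven

/-!
# Team T3 (S3435), box P1b: `TopFacts` for `PΩ^±_2n(q)`, `q` odd (helper15)
-/

set_option autoImplicit false
set_option linter.unusedSectionVars false

namespace Cfsg.Agent.R2.Spec.P1

open QuadraticMap Module Polynomial Cfsg Cfsg.Agent.H426.LieFam Cfsg.Agent.R2.Spec
open Cfsg.Agent.H160.QRoots Cfsg.Agent.H160.QChar Cfsg.Agent.R2.Spec.P1.Eig
open Cfsg.Agent.LieClassical.OrthCore (Nondeg)
open Cfsg.Agent.LieClassical.OrthForms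
open Cfsg.Agent.H160.QSpin Cfsg.Agent.H160.QDisc Cfsg.Agent.H160.QSemi Cfsg.Agent.H160.QFinal

universe u

/-- the class `i` is of full type -/
def FullC (n i : ℕ) (δ : ℤ) : Prop := (i = 2 * n ∧ δ = -1) ∨ (i = n ∧ Odd n ∧ δ = 1)

/-- the class `i` is that of a hyperplane -/
def PartC (n i : ℕ) (δ : ℤ) : Prop := (i = 2 * (n - 1) ∧ δ = -1) ∨ (i = n - 1 ∧ Odd (n - 1) ∧ δ = 1)

theorem top_plus_cases {n i : ℕ} (hn : 4 ≤ n) (h : top (.oplus n) i) : FullC n i 1 ∨ ∃ δ, PartC n i δ := by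
  change (i = n ∧ n % 2 = 1) ∨ i = 2 * (n - 1) ∨ (i = n - 1 ∧ n % 2 = 0) at h
  rcases h with ⟨h1, h2⟩ | h1 | ⟨h1, h2⟩
  · exact Or.inl (Or.inr ⟨h1, Nat.odd_iff.2 h2, rfl⟩)
  · exact Or.inr ⟨-1, Or.inl ⟨h1, rfl⟩⟩
  · exact Or.inr ⟨1, Or.inr ⟨h1, Nat.odd_iff.2 (by omega), rfl⟩⟩

theorem top_minus_cases {n i : ℕ} (hn : 4 ≤ n) (h : top (.ominus n) i) : FullC n i (-1) ∨ ∃ δ, PartC n i δ := by
  change i = 2 * n ∨ i = 2 * (n - 1) ∨ (i = n - 1 ∧ n % 2 = 0) at h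
  rcases h with h1 | h1 | ⟨h1, h2⟩
  · exact Or.inl (Or.inl ⟨h1, rfl⟩)
  · exact Or.inr ⟨-1, Or.inl ⟨h1, rfl⟩⟩
  · exact Or.inr ⟨1, Or.inr ⟨h1, Nat.odd_iff.2 (by omega), rfl⟩⟩

theorem eta_full {n i : ℕ} {δ : ℤ} (h : FullC n i δ) : eta i = n := by
  rcases h with ⟨h, -⟩ | ⟨h, h2, -⟩
  · exact eta_top (Or.inl h)
  · exact eta_top (Or.inr ⟨h, Nat.odd_iff.1 h2⟩)

theorem eta_part {n i : ℕ} {δ : ℤ} (h : PartC n i δ) : eta i = n - 1 := by
  rcases h with ⟨h, -⟩ | ⟨h, h2, -⟩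
  · exact eta_top (Or.inl h)
  · exact eta_top (Or.inr ⟨h, Nat.odd_iff.1 h2⟩)

theorem PartC.pm {n i : ℕ} {δ : ℤ} (h : PartC n i δ) : δ = -1 ∨ (Odd (n - 1) ∧ δ = 1) := by
  rcases h with ⟨-, h⟩ | ⟨-, h2, h⟩
  · exact Or.inl h
  · exact Or.inr ⟨h2, h⟩

/-- the upper bound, both types -/
theorem even_ub {F : Type*} [Field F] [Fintype F] [DecidableEq F] {ι : Type} [Fintype ι] [DecidableEq ι]
    (h2 : (2 : F) ≠ 0) {e : ℕ} (he : Fintype.card F = 2 * e + 1) {p : ℕ} [Fact p.Prime] [CharP F p]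
    {Q : QuadraticForm F (ι → F)} (hQ : Nondeg Q) {n : ℕ} (hn : 4 ≤ n) (hV : Fintype.card ι = 2 * n) {ε : ℤ}
    (hε : ε = 1 ∨ ε = -1) (hdc : ((dc Q : ℤ) : AlgebraicClosure F) = (-1) ^ (n * e) * (ε : AlgebraicClosure F))
    {y : POmega F ⇑Q} {r : ℕ} (hr : r.Prime) (hrp : r ≠ p) (hrg : r ∣ orderOf y)
    (hcop : Nat.Coprime (orderOf y) p) (h3 : 3 ≤ orderOf ((Fintype.card F : ℕ) : ZMod r)) :
    (FullC n (orderOf ((Fintype.card F : ℕ) : ZMod r)) ε →
      orderOf y ∣ AN ε n (Fintype.card F) / Nat.gcd 4 (AN ε n (Fintype.card F))) ∧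
    (∀ (δ : ℤ) (T : ℕ), PartC n (orderOf ((Fintype.card F : ℕ) : ZMod r)) δ →
      TC (AN δ (n - 1) (Fintype.card F) / 2) (AN (δ * ε) 1 (Fintype.card F) / 2) T → orderOf y ∣ T) := by
  classical
  constructor
  · intro h
    exact even_full h2 he hQ (by omega) hV hr hrp hrg hcop h h3
  · intro δ T h hT
    refine even_part h2 he hQ (by omega) hV hε hdc hr hrp hrg hcop h h3 ?_
    intro a b ha _ hab
    refine hT.ub ?_ hab
    rw [AN_even (by omega)]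
    exact ha

/-- the elements, both types -/
theorem even_ex {F : Type*} [Field F] [Fintype F] [DecidableEq F] {ι : Type} [Fintype ι] [DecidableEq ι]
    (h2 : (2 : F) ≠ 0) {e : ℕ} (he : Fintype.card F = 2 * e + 1) (he1 : 1 ≤ e) {p f : ℕ} [Fact p.Prime] [CharP F p]
    (hF : Fintype.card F = p ^ f) (hf : f ≠ 0)
    {Q : QuadraticForm F (ι → F)} (hQ : Nondeg Q) {n : ℕ} (hn : 4 ≤ n) (hV : Fintype.card ι = 2 * n) {ε : ℤ}
    (hε : ε = 1 ∨ ε = -1) (hdc : ((dc Q : ℤ) : AlgebraicClosure F) = (-1) ^ (n * e) * (ε : AlgebraicClosure F)) :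
    (∀ i, FullC n i ε → ∃ x : POmega F ⇑Q, orderOf x = AN ε n (Fintype.card F) / Nat.gcd 4 (AN ε n (Fintype.card F))) ∧
    (∀ (i : ℕ) (δ : ℤ) (T : ℕ), PartC n i δ →
      TC (AN δ (n - 1) (Fintype.card F) / 2) (AN (δ * ε) 1 (Fintype.card F) / 2) T →
      ∃ x : POmega F ⇑Q, orderOf x = T) := by
  classical
  constructor
  · intro i h
    refine full_exists h2 he he1 hF hf hQ (by omega) hV hdc ?_
    rcases h with ⟨-, h⟩ | ⟨-, h, h'⟩
    · exact Or.inl h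
    · exact Or.inr ⟨h, h'⟩
  · intro i δ T h hT
    exact part_exists h2 he he1 hF hf hQ hn hV hε hdc h.pm hT

/-- **`PΩ^+_2n(q)`** -/
theorem top_facts_oplus {p f n : ℕ} {X : Type u} [Group X] [Finite X] (hp : p.Prime) (hp2 : p ≠ 2)
    (h : Fam.Is p f X (.oplus n)) : TopFacts (.oplus n) p f X := by
  classical
  have hfp := Fact.mk hp
  have hLL := h
  obtain ⟨hn, F, _, _, hch, hF, ⟨E⟩⟩ := h
  obtain ⟨hf, -, h2, e, he1, he⟩ := field_data hp hp2 hF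
  have hqo : p ^ f % 2 = 1 := by omega
  have hdc := dc_plusK h2 he n
  have hcard : Fintype.card (Fin n ⊕ Fin n) = 2 * n := by simp; ring
  obtain ⟨hx1, hx2⟩ := even_ex h2 he he1 hF hf (nondeg_plusForm n F) hn hcard (Or.inl rfl) hdc
  rw [coe_plusForm, hF] at hx1 hx2
  have hfull : ∀ i, FullC n i 1 → ttor (.oplus n) (p ^ f) i = AN 1 n (p ^ f) / Nat.gcd 4 (AN 1 n (p ^ f)) := by
    intro i hi
    have h1 : i = n := by
      rcases hi with ⟨-, h⟩ | ⟨h, -⟩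
      · norm_num at h
      · exact h
    rw [ttor, if_pos h1, AN_one]
  refine ⟨?_, ?_⟩
  · intro i hi
    rcases top_plus_cases hn hi with h1 | ⟨δ, h1⟩
    · rw [hfull i h1]
      obtain ⟨x, hx⟩ := hx1 i h1
      exact ⟨E.symm x, by rw [← hx, MulEquiv.orderOf_eq]⟩
    · obtain ⟨x, hx⟩ := hx2 i δ _ h1 (ttor_plus hn hqo (by omega) h1)
      exact ⟨E.symm x, by rw [← hx, MulEquiv.orderOf_eq]⟩
  · intro r hr hrp hi x hx
    have hrp' : r ≠ p := fun h => hrp (by rw [h])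
    have hco : cls (.oplus n) (p ^ f) r = orderOf ((Fintype.card F : ℕ) : ZMod r) := by
      rw [cls_eq_co (fun _ h => by cases h), hF]; rfl
    have hcs := top_plus_cases hn hi
    have h3 : 3 ≤ cls (.oplus n) (p ^ f) r := by
      change (cls (.oplus n) (p ^ f) r = n ∧ n % 2 = 1) ∨ cls (.oplus n) (p ^ f) r = 2 * (n - 1) ∨
        (cls (.oplus n) (p ^ f) r = n - 1 ∧ n % 2 = 0) at hi
      omega
    have hm : mem (.oplus n) (cls (.oplus n) (p ^ f) r) ∧ nap (.oplus n) (cls (.oplus n) (p ^ f) r) := by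
      rcases hcs with h1 | ⟨δ, h1⟩
      · have h4 := eta_full h1
        refine ⟨Or.inr ?_, show n < eta _ + 2 by omega⟩
        rcases h1 with ⟨-, h⟩ | ⟨h, h', -⟩
        · norm_num at h
        · exact ⟨h, Nat.odd_iff.1 h'⟩
      · have h4 := eta_part h1
        exact ⟨Or.inl (by omega), show n < eta _ + 2 by omega⟩
    have hcop := cop_of_top (t := .oplus n) trivial hp hLL hr (two_ne_of_cls hr h3) hrp h3 hm.1 hm.2 hx
    rw [← MulEquiv.orderOf_eq E x] at hx hcop ⊢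
    rw [hco] at hcs h3 ⊢
    have key : ∀ y : POmega F ⇑(plusForm n F), r ∣ orderOf y → Nat.Coprime (orderOf y) p →
        orderOf y ∣ ttor (.oplus n) (p ^ f) (orderOf ((Fintype.card F : ℕ) : ZMod r)) := by
      intro y hy1 hy2
      obtain ⟨hu1, hu2⟩ := even_ub h2 he (nondeg_plusForm n F) hn hcard (Or.inl rfl) hdc hr hrp' hy1 hy2 h3
      rcases hcs with h1 | ⟨δ, h1⟩
      · rw [hfull _ h1, ← hF]
        exact hu1 h1
      · refine hu2 δ _ h1 ?_
        rw [hF] at h1 ⊢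
        exact ttor_plus hn hqo (by omega) h1
    rw [coe_plusForm] at key
    exact key (E x) hx hcop

/-- **`PΩ^-_2n(q)`** -/
theorem top_facts_ominus {p f n : ℕ} {X : Type u} [Group X] [Finite X] (hp : p.Prime) (hp2 : p ≠ 2)
    (h : Fam.Is p f X (.ominus n)) : TopFacts (.ominus n) p f X := by
  classical
  have hfp := Fact.mk hp
  have hLL := h
  obtain ⟨hn, F, _, _, hch, a, b, hF, hab, ⟨E⟩⟩ := h
  obtain ⟨hf, -, h2, e, he1, he⟩ := field_data hp hp2 hF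
  have hqo : p ^ f % 2 = 1 := by omega
  have hdc := dc_minusK h2 he (n - 1) hab
  rw [Nat.sub_add_cancel (by omega)] at hdc
  have hcard : Fintype.card ((Fin (n - 1) ⊕ Fin (n - 1)) ⊕ Fin 2) = 2 * n := by simp; omega
  obtain ⟨hx1, hx2⟩ := even_ex h2 he he1 hF hf (nondeg_minusForm (n - 1) F a b hab) hn hcard (Or.inr rfl) hdc
  rw [coe_minusForm, hF] at hx1 hx2
  have hfull : ∀ i, FullC n i (-1) → ttor (.ominus n) (p ^ f) i = AN (-1) n (p ^ f) / Nat.gcd 4 (AN (-1) n (p ^ f)) := by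
    intro i hi
    have h1 : i = 2 * n := by
      rcases hi with ⟨h, -⟩ | ⟨-, -, h⟩
      · exact h
      · norm_num at h
    rw [ttor, if_pos h1, AN_neg]
  refine ⟨?_, ?_⟩
  · intro i hi
    rcases top_minus_cases hn hi with h1 | ⟨δ, h1⟩
    · rw [hfull i h1]
      obtain ⟨x, hx⟩ := hx1 i h1
      exact ⟨E.symm x, by rw [← hx, MulEquiv.orderOf_eq]⟩
    · obtain ⟨x, hx⟩ := hx2 i δ _ h1 (ttor_minus hn hqo h1)
      exact ⟨E.symm x, by rw [← hx, MulEquiv.orderOf_eq]⟩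
  · intro r hr hrp hi x hx
    have hrp' : r ≠ p := fun h => hrp (by rw [h])
    have hco : cls (.ominus n) (p ^ f) r = orderOf ((Fintype.card F : ℕ) : ZMod r) := by
      rw [cls_eq_co (fun _ h => by cases h), hF]; rfl
    have hcs := top_minus_cases hn hi
    have h3 : 3 ≤ cls (.ominus n) (p ^ f) r := by
      change cls (.ominus n) (p ^ f) r = 2 * n ∨ cls (.ominus n) (p ^ f) r = 2 * (n - 1) ∨
        (cls (.ominus n) (p ^ f) r = n - 1 ∧ n % 2 = 0) at hi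
      omega
    have hm : mem (.ominus n) (cls (.ominus n) (p ^ f) r) ∧ nap (.ominus n) (cls (.ominus n) (p ^ f) r) := by
      rcases hcs with h1 | ⟨δ, h1⟩
      · have h4 := eta_full h1
        refine ⟨Or.inr ?_, show n < eta _ + 2 by omega⟩
        rcases h1 with ⟨h, -⟩ | ⟨-, -, h⟩
        · exact h
        · norm_num at h
      · have h4 := eta_part h1
        exact ⟨Or.inl (by omega), show n < eta _ + 2 by omega⟩
    have hcop := cop_of_top (t := .ominus n) trivial hp hLL hr (two_ne_of_cls hr h3) hrp h3 hm.1 hm.2 hx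
    rw [← MulEquiv.orderOf_eq E x] at hx hcop ⊢
    rw [hco] at hcs h3 ⊢
    have key : ∀ y : POmega F ⇑(minusForm (n - 1) F a b), r ∣ orderOf y → Nat.Coprime (orderOf y) p →
        orderOf y ∣ ttor (.ominus n) (p ^ f) (orderOf ((Fintype.card F : ℕ) : ZMod r)) := by
      intro y hy1 hy2
      obtain ⟨hu1, hu2⟩ := even_ub h2 he (nondeg_minusForm (n - 1) F a b hab) hn hcard (Or.inr rfl) hdc hr hrp' hy1 hy2 h3
      rcases hcs with h1 | ⟨δ, h1⟩
      · rw [hfull _ h1, ← hF]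
        exact hu1 h1
      · refine hu2 δ _ h1 ?_
        rw [hF] at h1 ⊢
        exact ttor_minus hn hqo h1
    rw [coe_minusForm] at key
    exact key (E x) hx hcop

end Cfsg.Agent.R2.Spec.P1
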