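import Cfsg.Agent.R2.Spec.Iface
import Cfsg.Agent.H402.LwMain
import Cfsg.Agent.H72.AdjPSL
import Cfsg.Agent.H72.AdjPSUW

/-!
# Team T3 (S3435), box P1: adjacency facts for `PSL_n(q)` and `PSU_n(q)` (helper15)
-/

set_option autoImplicit false

namespace Cfsg.Agent.R2.Spec.P1

open Cfsg Cfsg.Agent.H426.LieFam Cfsg.Agent.H403 Cfsg.Agent.H403.NumTop Cfsg.Agent.R2.Spec

universe u

/-- transport of the adjacency facts -/
theorem congr_facts {t : Fam} {p f : ℕ} {X Y : Type u} [Group X] [Group Y] (h : AdjFacts t p f Y) (e : X ≃* Y) :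
    AdjFacts t p f X := by
  have key : ∀ N : ℕ, (∃ x : X, orderOf x = N) ↔ ∃ y : Y, orderOf y = N := by
    intro N
    constructor
    · rintro ⟨x, hx⟩
      exact ⟨e x, by rw [MulEquiv.orderOf_eq, hx]⟩
    · rintro ⟨y, hy⟩
      exact ⟨e.symm y, by rw [MulEquiv.orderOf_eq, hy]⟩
  refine ⟨?_, ?_, ?_⟩
  · intro r hr hr2 hrp h3
    rw [Nat.card_congr e.toEquiv]
    exact h.dvd r hr hr2 hrp h3
  · intro r s hr hs hr2 hs2 hrs hrp hsp h3 h3' hm hm'
    rw [key]
    exact h.adj r s hr hs hr2 hs2 hrs hrp hsp h3 h3' hm hm'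
  · intro r hr hr2 hrp h3 hm
    rw [key]
    exact h.adjp r hr hr2 hrp h3 hm

/-- the class for the signed cardinality -/
noncomputable def cl (e : Bool) (q r : ℕ) : ℕ := orderOf ((xv e q : ℤ) : ZMod r)

section

variable {e : Bool} {n q p f : ℕ} {F : Type*} [Field F] [Fintype F] {X : Type*} [Group X]

theorem dvd_AA_cl (hq : 1 ≤ q) {r i : ℕ} (h : cl e q r ∣ i) : r ∣ AA e i q := by
  rw [dvd_AA_iff hq]
  exact orderOf_dvd_iff_pow_eq_one.1 h

theorem not_dvd_of_cl {r : ℕ} (hr : r.Prime) (h : 3 ≤ cl e q r) : ¬ r ∣ q :=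
  not_dvd_q (k := cl e q r) hr rfl (by omega)

theorem coprime_one (hq : 1 ≤ q) {r : ℕ} (hr : r.Prime) (h : 2 ≤ cl e q r) : Nat.Coprime r (AA e 1 q) := by
  rw [Nat.Prime.coprime_iff_not_dvd hr]
  exact not_dvd_AA_one hq rfl h

theorem lin_dvd [Finite X] (h : IsL X e n q F) (hF : Fintype.card F = q ^ (cond e 0 1 + 1)) (hn : 3 ≤ n) {r : ℕ}
    (hr : r.Prime) (h3 : 3 ≤ cl e q r) : r ∣ Nat.card X ↔ cl e q r ≤ n := by
  have hL := h.lin (E := AlgebraicClosure F) hF hn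
  have hq2 : 2 ≤ q := two_le_of_card hF
  have hrq : ¬ r ∣ q := not_dvd_of_cl hr h3
  constructor
  · intro hd
    have := Fact.mk hr
    exact (hL.ord_le hF (by omega) hr hrq (exists_prime_orderOf_dvd_card' r hd)).2
  · intro hle
    obtain ⟨g, hg⟩ := h.exists_tor_le hF hn (i := cl e q r) (N := r) (by omega) hle hr.pos
      (coprime_one (by omega) hr (by omega)) (dvd_AA_cl (by omega) dvd_rfl)
    rw [← hg]
    exact orderOf_dvd_natCard g

theorem wL_eq {r : ℕ} (hq : 1 ≤ q) (hr : r.Prime) (h3 : 3 ≤ cl true q r) : Cfsg.Agent.H72.AdjPSL.wL q r = cl true q r := by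
  have e1 : Cfsg.Agent.H72.AdjOrth.ee q r = cl true q r := by
    rw [Cfsg.Agent.H72.AdjOrth.ee, cl, xv]
    simp
  rw [Cfsg.Agent.H72.AdjPSL.wL, if_neg, e1]
  rintro (h | h)
  · exact not_dvd_of_cl hr h3 h
  · rw [← Cfsg.Agent.H72.AdjPSL.ee_eq_one_iff hq, e1] at h
    omega

theorem wU_eq {r : ℕ} (hr : r.Prime) (h3 : 3 ≤ cl false q r) : Cfsg.Agent.H72.AdjPSU.wU q r = cl false q r := by
  have e1 : Cfsg.Agent.H72.AdjPSU.nu q r = cl false q r := by
    rw [Cfsg.Agent.H72.AdjPSU.nu, cl, xv]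
    simp
  rw [Cfsg.Agent.H72.AdjPSU.wU, if_neg, e1]
  rintro (h | h)
  · exact not_dvd_of_cl hr h3 h
  · rw [← e1, Cfsg.Agent.H72.AdjPSU.nu_eq_one h] at h3
    omega

/-- block adjacency -/
theorem lin_blk (h : IsL X e n q F) (hF : Fintype.card F = q ^ (cond e 0 1 + 1)) (hn : 3 ≤ n) {r s : ℕ} (hr : r.Prime)
    (hs : s.Prime) (hrs : r ≠ s) (h3 : 3 ≤ cl e q r)
    (hc : (3 ≤ cl e q s ∧ cl e q r + cl e q s ≤ n) ∨ (s ∣ q ∧ cl e q r + 2 ≤ n)) : ∃ x : X, orderOf x = r * s := by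
  have hq2 : 2 ≤ q := two_le_of_card hF
  cases e with
  | true =>
    have hF' : Fintype.card F = q := by simpa using hF
    obtain ⟨E⟩ := h
    have h1 : Cfsg.Agent.H72.AdjPSL.wL (Fintype.card F) r + Cfsg.Agent.H72.AdjPSL.wL (Fintype.card F) s ≤ n := by
      rw [hF', wL_eq (by omega) hr h3]
      rcases hc with ⟨h4, h5⟩ | ⟨h4, h5⟩
      · rw [wL_eq (by omega) hs h4]
        exact h5
      · rw [Cfsg.Agent.H72.AdjPSL.wL, if_pos (Or.inl h4)]
        exact h5
    obtain ⟨z, hz⟩ := Cfsg.Agent.H72.AdjPSL.adj_of_wL (F := F) (n := n) hr hs hrs h1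
    exact ⟨E.symm z, by rw [MulEquiv.orderOf_eq, hz]⟩
  | false =>
    have hF' : Fintype.card F = q ^ 2 := by simpa using hF
    obtain ⟨E⟩ := h
    have h1 : Cfsg.Agent.H72.AdjPSU.wU q r + Cfsg.Agent.H72.AdjPSU.wU q s ≤ n := by
      rw [wU_eq hr h3]
      rcases hc with ⟨h4, h5⟩ | ⟨h4, h5⟩
      · rw [wU_eq hs h4]
        exact h5
      · rw [Cfsg.Agent.H72.AdjPSU.wU, if_pos (Or.inl h4)]
        exact h5
    obtain ⟨z, hz⟩ := Cfsg.Agent.H72.AdjPSU.adj_of_wU (F := F) (n := n) hF' hn hr hs hrs h1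
    exact ⟨E.symm z, by rw [MulEquiv.orderOf_eq, hz]⟩

theorem lin_adj (h : IsL X e n q F) (hF : Fintype.card F = q ^ (cond e 0 1 + 1)) (hn : 3 ≤ n) {r s : ℕ}
    (hr : r.Prime) (hs : s.Prime) (hrs : r ≠ s) (h3 : 3 ≤ cl e q r) (h3' : 3 ≤ cl e q s) (hle : cl e q r ≤ n)
    (hle' : cl e q s ≤ n) :
    (∃ x : X, orderOf x = r * s) ↔ ¬ (n < cl e q r + cl e q s ∧ ¬ cl e q r ∣ cl e q s ∧ ¬ cl e q s ∣ cl e q r) := by
  have hL := h.lin (E := AlgebraicClosure F) hF hn
  have hq2 : 2 ≤ q := two_le_of_card hF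
  have hco : Nat.Coprime r s := (Nat.coprime_primes hr hs).2 hrs
  constructor
  · rintro hg ⟨h1, h2, h4⟩
    refine hL.not_adj hF (by omega) hr hs rfl rfl (by rw [cl] at h3; omega) (by rw [cl] at h3'; omega) h1 ?_ hg
    change n < Nat.lcm (cl e q r) (cl e q s)
    set k := cl e q r
    set l := cl e q s
    obtain ⟨a, ha⟩ := Nat.dvd_lcm_left k l
    obtain ⟨b, hb⟩ := Nat.dvd_lcm_right k l
    have hpos : 0 < Nat.lcm k l := Nat.lcm_pos (by omega) (by omega)
    have ha2 : 2 ≤ a := by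
      by_contra hlt
      rcases (by omega : a = 0 ∨ a = 1) with rfl | rfl
      · rw [mul_zero] at ha; omega
      · rw [mul_one] at ha
        apply h4
        rw [← ha]
        exact Nat.dvd_lcm_right k l
    have hb2 : 2 ≤ b := by
      by_contra hlt
      rcases (by omega : b = 0 ∨ b = 1) with rfl | rfl
      · rw [mul_zero] at hb; omega
      · rw [mul_one] at hb
        apply h2
        rw [← hb]
        exact Nat.dvd_lcm_left k l
    have e1 : k * 2 ≤ k * a := Nat.mul_le_mul_left k ha2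
    have e2 : l * 2 ≤ l * b := Nat.mul_le_mul_left l hb2
    omega
  · intro hna
    have hco1 : Nat.Coprime (r * s) (AA e 1 q) :=
      Nat.Coprime.mul_left (coprime_one (by omega) hr (by omega)) (coprime_one (by omega) hs (by omega))
    by_cases h1 : cl e q r + cl e q s ≤ n
    · exact lin_blk h hF hn hr hs hrs h3 (Or.inl ⟨h3', h1⟩)
    by_cases h2 : cl e q r ∣ cl e q s
    · exact h.exists_tor_le hF hn (i := cl e q s) (N := r * s) (by omega) hle' (Nat.mul_pos hr.pos hs.pos) hco1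
        (hco.mul_dvd_of_dvd_of_dvd (dvd_AA_cl (by omega) h2) (dvd_AA_cl (by omega) dvd_rfl))
    by_cases h4 : cl e q s ∣ cl e q r
    · exact h.exists_tor_le hF hn (i := cl e q r) (N := r * s) (by omega) hle (Nat.mul_pos hr.pos hs.pos) hco1
        (hco.mul_dvd_of_dvd_of_dvd (dvd_AA_cl (by omega) dvd_rfl) (dvd_AA_cl (by omega) h4))
    exact absurd ⟨by omega, h2, h4⟩ hna

theorem lin_adjp (h : IsL X e n q F) (hF : Fintype.card F = q ^ (cond e 0 1 + 1)) (hn : 3 ≤ n) (hp : p.Prime)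
    (hpq : p ∣ q) {r : ℕ} (hr : r.Prime) (h3 : 3 ≤ cl e q r) (hle : cl e q r ≤ n) :
    (∃ x : X, orderOf x = r * p) ↔ ¬ n < cl e q r + 2 := by
  have hL := h.lin (E := AlgebraicClosure F) hF hn
  have hrq : ¬ r ∣ q := not_dvd_of_cl hr h3
  constructor
  · intro hg h1
    exact hL.not_adj_char hF hp hpq hn hr (i := cl e q r) rfl (by omega) hg
  · intro h1
    refine lin_blk h hF hn hr hp ?_ h3 (Or.inr ⟨hpq, by omega⟩)
    rintro rfl
    exact hrq hpq

end

/-- **`PSL_n(q)`** -/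
theorem psl {p f n : ℕ} {X : Type u} [Group X] [Finite X] (hp : p.Prime) (h : Fam.Is p f X (.psl n)) :
    AdjFacts (.psl n) p f X := by
  obtain ⟨hn, -, F, _, _, hch, hF, ⟨E⟩⟩ := h
  have hf : 1 ≤ f := by
    rcases Nat.eq_zero_or_pos f with h0 | h0
    · rw [h0, pow_zero] at hF
      have := Fintype.one_lt_card (α := F)
      omega
    · exact h0
  have hcl : ∀ r, cls (.psl n) (p ^ f) r = cl true (p ^ f) r := fun r => rfl
  have hpq : p ∣ p ^ f := dvd_pow_self p (by omega)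
  rcases Nat.eq_or_lt_of_le hn with h2 | h2
  · subst h2
    refine ⟨?_, ?_, ?_⟩
    · intro r hr _ _ h3
      rw [hcl] at h3 ⊢
      change _ ↔ _ ≤ 2
      constructor
      · intro hd
        rw [Nat.card_congr E.toEquiv] at hd
        have h5 : cl true (p ^ f) r = Cfsg.Agent.H72.AdjOrth.ee (Fintype.card F) r := by
          rw [Cfsg.Agent.H72.AdjOrth.ee, cl, xv, hF]
          simp
        rw [h5]
        refine Cfsg.Agent.H72.AdjPSL.ee_le hr ?_ hd
        rw [hF]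
        exact not_dvd_of_cl hr h3
      · intro h4
        omega
    · intro r s _ _ _ _ _ _ _ h3 _ hm
      rw [hcl] at h3 hm
      change _ ≤ 2 at hm
      omega
    · intro r _ _ _ h3 hm
      rw [hcl] at h3 hm
      change _ ≤ 2 at hm
      omega
  · have hI : IsL X true n (p ^ f) F := ⟨E⟩
    have hF' : Fintype.card F = (p ^ f) ^ (cond true 0 1 + 1) := by simpa using hF
    refine ⟨?_, ?_, ?_⟩
    · intro r hr _ _ h3
      exact lin_dvd hI hF' (by omega) hr h3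
    · intro r s hr hs _ _ hrs _ _ h3 h3' hm hm'
      exact lin_adj hI hF' (by omega) hr hs hrs h3 h3' hm hm'
    · intro r hr _ _ h3 hm
      exact lin_adjp hI hF' (by omega) hp hpq hr h3 hm

/-- **`PSU_n(q)`** -/
theorem psu {p f n : ℕ} {X : Type u} [Group X] [Finite X] (hp : p.Prime) (h : Fam.Is p f X (.psu n)) :
    AdjFacts (.psu n) p f X := by
  obtain ⟨hn, -, F, _, _, hch, hF, ⟨E⟩⟩ := h
  have hf : 1 ≤ f := by
    rcases Nat.eq_zero_or_pos f with h0 | h0
    · rw [h0, pow_zero, one_pow] at hF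
      have := Fintype.one_lt_card (α := F)
      omega
    · exact h0
  have hpq : p ∣ p ^ f := dvd_pow_self p (by omega)
  have hI : IsL X false n (p ^ f) F := ⟨E⟩
  have hF' : Fintype.card F = (p ^ f) ^ (cond false 0 1 + 1) := by simpa using hF
  refine ⟨?_, ?_, ?_⟩
  · intro r hr _ _ h3
    exact lin_dvd hI hF' (by omega) hr h3
  · intro r s hr hs _ _ hrs _ _ h3 h3' hm hm'
    exact lin_adj hI hF' (by omega) hr hs hrs h3 h3' hm hm'
  · intro r hr _ _ h3 hm
    exact lin_adjp hI hF' (by omega) hp hpq hr h3 hm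

end Cfsg.Agent.R2.Spec.P1
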