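import Cfsg.Agent.R2.Spec.P1.OrthSign
import Cfsg.Agent.R2.Spec.P1.Siegel

/-!
# Team T3 (S3435), box P1: adjacency facts for `PΩ^±_2n(q)` (helper15)
-/

set_option autoImplicit false

namespace Cfsg.Agent.R2.Spec.P1

open Module QuadraticMap
open Cfsg Cfsg.Agent.R2.Spec Cfsg.Agent.H390 Cfsg.Agent.H390.NonAdj Cfsg.Agent.H426.LieFam
open Cfsg.Agent.LieClassical.OrthCount Cfsg.Agent.LieClassical.OmegaReindex Cfsg.Agent.LieClassical
open Cfsg.Agent.H377
open Cfsg.Agent.H72 (AdjOrth.elt_tn AdjOrth.elt_extend AdjOrth.elt_blk AdjOrth.mul_pm AdjOrth.sq_pm AdjOrth.dvd_tn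
  AdjOrth.elt_of_prime AdjOrth.elt2_two AdjOrth.card_pos')

universe u

section Exist

variable {F : Type*} [Field F] [Finite F]

theorem elt_cls {r : ℕ} (hr : r.Prime) (h3 : 3 ≤ co (Nat.card F) r) :
    Elt F (eta (co (Nat.card F) r)) (sgn (co (Nat.card F) r)) r := by
  rw [eta_eq]
  exact AdjOrth.elt_of_prime hr (not_dvd_of_co hr h3)

theorem dvd_tn_mul {q i k r : ℕ} (hq : 1 ≤ q) (hr : r.Prime) (hk : Odd k) (hi : co q r = i) (h3 : 3 ≤ co q r) :
    r ∣ Cfsg.Agent.H72.AdjOrth.tn q (i * k) := by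
  have h1 := AdjOrth.dvd_tn hq hr (not_dvd_of_co hr h3)
  rw [ee_eq, hi] at h1
  refine h1.trans ?_
  rw [Cfsg.Agent.H72.AdjOrth.tn, Cfsg.Agent.H72.AdjOrth.tn]
  by_cases he : Even i
  · rw [if_pos he, if_pos (he.mul_right k)]
    obtain ⟨j, rfl⟩ := he
    rw [show (j + j) / 2 = j by omega, show (j + j) * k / 2 = j * k by
      rw [← two_mul, mul_assoc, Nat.mul_div_cancel_left _ (by norm_num)], pow_mul]
    have := Odd.nat_add_dvd_pow_add_pow (q ^ j) 1 hk
    rwa [one_pow] at this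
  · have ho := Nat.not_even_iff_odd.1 he
    rw [if_neg he, if_neg (Nat.not_even_iff_odd.2 (ho.mul hk)), pow_mul]
    exact Nat.sub_one_dvd_pow_sub_one _ _

/-- odd multiples -/
theorem elt_oddMul {r s m : ℕ} {δ : ℤ} (hδ : δ = 1 ∨ δ = -1) (hr : r.Prime) (hs : s.Prime) (hrs : r ≠ s)
    (h3 : 3 ≤ co (Nat.card F) r) (h3' : 3 ≤ co (Nat.card F) s) (h : OddMul (co (Nat.card F) r) (co (Nat.card F) s))
    (hm : eta (co (Nat.card F) s) < m ∨ (eta (co (Nat.card F) s) = m ∧ sgn (co (Nat.card F) s) = δ)) :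
    Elt F m δ (r * s) := by
  rw [oddMul_iff] at h
  obtain ⟨k, hk, hks⟩ := h
  have h1 : r ∣ Cfsg.Agent.H72.AdjOrth.tn (Nat.card F) (co (Nat.card F) s) := by
    rw [hks]
    exact dvd_tn_mul AdjOrth.card_pos' hr hk rfl h3
  have h2 := AdjOrth.dvd_tn (q := Nat.card F) AdjOrth.card_pos' hs (not_dvd_of_co hs h3')
  rw [ee_eq] at h2
  have h4 := AdjOrth.elt_tn (F := F) (k := co (Nat.card F) s) (by omega)
    (((Nat.coprime_primes hr hs).2 hrs).mul_dvd_of_dvd_of_dvd h1 h2)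
  rw [← eta_eq] at h4
  rcases hm with hm | ⟨hm1, hm2⟩
  · exact AdjOrth.elt_extend h4 (Cfsg.Agent.H72.AdjOrth.sg_pm _) hδ hm
  · rw [hm1] at h4
    rw [← hm2]
    exact h4

/-- sums of blocks -/
theorem elt_sum {r s m : ℕ} {δ : ℤ} (hδ : δ = 1 ∨ δ = -1) (hr : r.Prime) (hs : s.Prime) (hrs : r ≠ s)
    (h3 : 3 ≤ co (Nat.card F) r) (h3' : 3 ≤ co (Nat.card F) s)
    (hm : eta (co (Nat.card F) r) + eta (co (Nat.card F) s) < m ∨
      (m = eta (co (Nat.card F) r) + eta (co (Nat.card F) s) ∧ sgn (co (Nat.card F) r) * sgn (co (Nat.card F) s) = δ)) :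
    Elt F m δ (r * s) := by
  have h1 := (elt_cls (F := F) hr h3).prod (elt_cls (F := F) hs h3')
  rw [((Nat.coprime_primes hr hs).2 hrs).lcm_eq_mul] at h1
  rcases hm with hm | ⟨hm1, hm2⟩
  · exact AdjOrth.elt_extend h1 (AdjOrth.mul_pm (sgn_pm _) (sgn_pm _)) hδ hm
  · rw [hm1, ← hm2]
    exact h1

/-- the linear torus -/
theorem elt_lin {r s m : ℕ} (hr : r.Prime) (hs : s.Prime) (hrs : r ≠ s) (hm : 1 ≤ m)
    (h1 : co (Nat.card F) r ∣ m) (h2 : co (Nat.card F) s ∣ m) : Elt F m 1 (r * s) := by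
  refine elt_tor_plus hm (((Nat.coprime_primes hr hs).2 hrs).mul_dvd_of_dvd_of_dvd ?_ ?_)
  · exact dvd_of_orderOf AdjOrth.card_pos' rfl h1
  · exact dvd_of_orderOf AdjOrth.card_pos' rfl h2

/-- the characteristic -/
theorem elt2_char {p r m : ℕ} {δ : ℤ} (hδ : δ = 1 ∨ δ = -1) (hp : p.Prime) [CharP F p] (hr : r.Prime) (hr2 : r ≠ 2)
    (h3 : 3 ≤ co (Nat.card F) r) (hm : eta (co (Nat.card F) r) + 2 ≤ m) (hrp : r ≠ p) : Elt2 F m δ (r * p) := by
  have h1 := elt_cls (F := F) hr h3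
  by_cases hp2 : p = 2
  · subst hp2
    rw [mul_comm]
    exact AdjOrth.elt2_two (hr.odd_of_ne_two hr2) h1 (one_le_eta (by omega)) (sgn_pm _) hδ hm
  · have h2 := h1.prod (elt_p (F := F) hp (n := m - eta (co (Nat.card F) r)) (by omega)
      (AdjOrth.mul_pm (sgn_pm (co (Nat.card F) r)) hδ))
    rw [((Nat.coprime_primes hr hp).2 hrp).lcm_eq_mul, ← mul_assoc, AdjOrth.sq_pm (sgn_pm _), one_mul,
      show eta (co (Nat.card F) r) + (m - eta (co (Nat.card F) r)) = m by omega] at h2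
    exact Elt.two (by omega) ((hr.odd_of_ne_two hr2).mul (hp.odd_of_ne_two hp2)) h2

end Exist

/-- the data of the even-dimensional orthogonal groups -/
structure OD (F : Type) [Field F] [Fintype F] (X : Type u) [Group X] (m : ℕ) (δ : ℤ) : Prop where
  hm : 4 ≤ m
  hδ : δ = 1 ∨ δ = -1
  ex : ∀ N, Elt2 F m δ N → ∃ g : X, orderOf g = N
  qf : ∃ (ι : Type) (_ : Fintype ι) (_ : DecidableEq ι) (Q : QuadraticForm F (ι → F)),
    Lift.Data Q ∧ Fintype.card ι = 2 * m ∧ HasSign (⇑Q) m δ ∧ Nonempty (X ≃* POmega F (⇑Q))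
  dvd : ∀ r : ℕ, r.Prime → r ≠ 2 → 3 ≤ co (Nat.card F) r → (r ∣ Nat.card X ↔
    eta (co (Nat.card F) r) < m ∨ (eta (co (Nat.card F) r) = m ∧ sgn (co (Nat.card F) r) = δ))

namespace OD

variable {F : Type} [Field F] [Fintype F] {X : Type u} [Group X] {m : ℕ} {δ : ℤ}

theorem no_elt_le (h : OD F X m δ) {r s : ℕ} (hr : r.Prime) (hs : s.Prime) (hr2 : r ≠ 2) (hs2 : s ≠ 2) (hrs : r ≠ s)
    (h3 : 3 ≤ co (Nat.card F) r) (h3' : 3 ≤ co (Nat.card F) s)
    (hle : eta (co (Nat.card F) s) ≤ eta (co (Nat.card F) r))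
    (hsum : m < eta (co (Nat.card F) s) + eta (co (Nat.card F) r) ∨
      (eta (co (Nat.card F) s) < eta (co (Nat.card F) r) ∧ m = eta (co (Nat.card F) s) + eta (co (Nat.card F) r) ∧
        sgn (co (Nat.card F) s) * sgn (co (Nat.card F) r) ≠ δ))
    (hrat : ¬ OddMul (co (Nat.card F) s) (co (Nat.card F) r)) : ¬ ∃ x : X, orderOf x = r * s := by
  rintro ⟨x, hx⟩
  obtain ⟨hm, hδ, -, ⟨ι, _, _, Q, hD, hι, hsg, ⟨E⟩⟩, -⟩ := h
  have hrF := natCast_ne_zero (F := F) hr (not_dvd_of_co hr h3)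
  have hsF := natCast_ne_zero (F := F) hs (not_dvd_of_co hs h3')
  have h1 := one_le_eta (k := co (Nat.card F) s) (by omega)
  rw [oddMul_iff] at hrat
  have hEx : orderOf (E x) = r * s := by rw [MulEquiv.orderOf_eq, hx]
  rcases hsum with hsum | ⟨hlt, hsum, hne⟩
  · exact pomega_nonadj hD hr hs hr2 hs2 hrs hrF hsF (er := co (Nat.card F) r) (es := co (Nat.card F) s) rfl rfl
      (isEta _) (isEta _) h1 hle (by omega) (by omega) (by omega) hrat (E x) hEx
  · obtain ⟨T, hT1, hT2⟩ := exists_lin_of_order hD ((hr.odd_of_ne_two hr2).mul (hs.odd_of_ne_two hs2)) ⟨E x, hEx⟩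
    exact hne (exact_sum Q hD.ND (by rw [Module.finrank_fintype_fun_eq_card, hι]) hδ hsg hr hs hr2 hs2 hrs h3 h3' hlt
      hsum hrat T hT1 hT2).symm

theorem no_elt (h : OD F X m δ) {r s : ℕ} (hr : r.Prime) (hs : s.Prime) (hr2 : r ≠ 2) (hs2 : s ≠ 2) (hrs : r ≠ s)
    (h3 : 3 ≤ co (Nat.card F) r) (h3' : 3 ≤ co (Nat.card F) s)
    (hsum : m < eta (co (Nat.card F) s) + eta (co (Nat.card F) r) ∨
      (eta (co (Nat.card F) s) ≠ eta (co (Nat.card F) r) ∧ m = eta (co (Nat.card F) s) + eta (co (Nat.card F) r) ∧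
        sgn (co (Nat.card F) s) * sgn (co (Nat.card F) r) ≠ δ))
    (h1 : ¬ OddMul (co (Nat.card F) s) (co (Nat.card F) r)) (h2 : ¬ OddMul (co (Nat.card F) r) (co (Nat.card F) s)) :
    ¬ ∃ x : X, orderOf x = r * s := by
  rcases le_total (eta (co (Nat.card F) s)) (eta (co (Nat.card F) r)) with hle | hle
  · refine h.no_elt_le hr hs hr2 hs2 hrs h3 h3' hle ?_ h1
    rcases hsum with h4 | ⟨h4, h5, h6⟩
    · exact Or.inl h4
    · exact Or.inr ⟨lt_of_le_of_ne hle h4, h5, h6⟩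
  · rw [mul_comm r s]
    refine h.no_elt_le hs hr hs2 hr2 hrs.symm h3' h3 hle ?_ h2
    rcases hsum with h4 | ⟨h4, h5, h6⟩
    · left; omega
    · right
      exact ⟨lt_of_le_of_ne hle h4.symm, by omega, by rwa [mul_comm]⟩

theorem no_elt_char (h : OD F X m δ) {p : ℕ} (hp : p.Prime) [CharP F p] {r : ℕ} (hr : r.Prime) (hr2 : r ≠ 2)
    (h3 : 3 ≤ co (Nat.card F) r) (hη : eta (co (Nat.card F) r) ≤ m) (hη' : m < eta (co (Nat.card F) r) + 2) :
    ¬ ∃ x : X, orderOf x = r * p := by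
  rintro ⟨x, hx⟩
  obtain ⟨hm, hδ, -, ⟨ι, _, _, Q, hD, hι, hsg, ⟨E⟩⟩, -⟩ := h
  have hrF := natCast_ne_zero (F := F) hr (not_dvd_of_co hr h3)
  have hEx : orderOf (E x) = r * p := by rw [MulEquiv.orderOf_eq, hx]
  have hdim : finrank F (ι → F) = 2 * m := by rw [Module.finrank_fintype_fun_eq_card, hι]
  by_cases hp2 : p = 2
  · subst hp2
    have h2 : (2 : F) = 0 := by exact_mod_cast CharP.cast_eq_zero F 2
    rw [mul_comm] at hEx
    rcases Nat.lt_or_ge (eta (co (Nat.card F) r)) m with hlt | hge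
    · refine Cfsg.Agent.H150.gen_partial_even h2 Q hD.nd hdim hD.iso hr hr2 hrF hm rfl ?_ (E x) hEx
      change (Odd (co (Nat.card F) r) ∧ m - 1 = co (Nat.card F) r) ∨
        (Even (co (Nat.card F) r) ∧ 2 * (m - 1) = co (Nat.card F) r)
      rcases eta_cases (co (Nat.card F) r) with ⟨h5, h6⟩ | ⟨h5, h6⟩
      · exact Or.inl ⟨h5, by omega⟩
      · exact Or.inr ⟨h5, by omega⟩
    · refine Cfsg.Agent.H150.gen_full_even h2 Q hD.nd hdim hD.iso hr hr2 hrF (by omega) rfl ?_ (E x) hEx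
      change (Odd (co (Nat.card F) r) ∧ m = co (Nat.card F) r) ∨
        (Even (co (Nat.card F) r) ∧ 2 * m = co (Nat.card F) r)
      rcases eta_cases (co (Nat.card F) r) with ⟨h5, h6⟩ | ⟨h5, h6⟩
      · exact Or.inl ⟨h5, by omega⟩
      · exact Or.inr ⟨h5, by omega⟩
  · obtain ⟨T, hT1, hT2⟩ := exists_lin_of_order hD ((hr.odd_of_ne_two hr2).mul (hp.odd_of_ne_two hp2)) ⟨E x, hEx⟩
    exact char_nonadj Q hD.ND (by omega) hdim hp hp2 hr hr2 h3 hη' T hT1 hT2

theorem adjp (h : OD F X m δ) {p : ℕ} (hp : p.Prime) [CharP F p] {r : ℕ} (hr : r.Prime) (hr2 : r ≠ 2)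
    (hrp : r ≠ p) (h3 : 3 ≤ co (Nat.card F) r) (hη : eta (co (Nat.card F) r) ≤ m) :
    (∃ x : X, orderOf x = r * p) ↔ ¬ m < eta (co (Nat.card F) r) + 2 := by
  constructor
  · intro hx hlt
    exact h.no_elt_char hp hr hr2 h3 hη hlt hx
  · intro hge
    exact h.ex _ (elt2_char h.hδ hp hr hr2 h3 (by omega) hrp)

end OD

section combi

theorem sgn_mul_eq_one {i j : ℕ} : sgn i * sgn j = 1 ↔ (i + j) % 2 = 0 := by
  rw [← Nat.even_iff, Nat.even_add, sgn, sgn]
  by_cases h : Even i <;> by_cases h' : Even j <;> simp [h, h']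

theorem sgn_mul_eq_neg_one {i j : ℕ} : sgn i * sgn j = -1 ↔ (i + j) % 2 = 1 := by
  have h1 := sgn_mul_eq_one (i := i) (j := j)
  rcases AdjOrth.mul_pm (sgn_pm i) (sgn_pm j) with h | h
  · have := h1.1 h
    rw [h]
    constructor
    · intro h2; norm_num at h2
    · intro h2; omega
  · rw [h] at h1 ⊢
    constructor
    · intro _
      by_contra h3
      have := h1.2 (by omega)
      norm_num at this
    · intro _; rfl

theorem eta_self_or {i j : ℕ} (h : eta i = eta j) : i = j ∨ (i = 2 * j ∧ j % 2 = 1 ∧ i % 2 = 0) ∨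
    (j = 2 * i ∧ i % 2 = 1 ∧ j % 2 = 0) := by
  rcases eta_cases i with ⟨h1, h2⟩ | ⟨h1, h2⟩ <;> rcases eta_cases j with ⟨h3, h4⟩ | ⟨h3, h4⟩ <;>
    simp only [Nat.odd_iff, Nat.even_iff] at h1 h3 <;> omega

theorem eta_eq_iff_plus {i m : ℕ} : (eta i < m ∨ (eta i = m ∧ sgn i = 1)) ↔ (eta i + 1 ≤ m ∨ (i = m ∧ m % 2 = 1)) := by
  have hs : sgn i = 1 ↔ i % 2 = 1 := by
    rw [sgn]
    rcases Nat.even_or_odd i with h | h
    · rw [if_pos h]
      constructor
      · intro h2; norm_num at h2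
      · intro h2; rw [Nat.even_iff] at h; omega
    · rw [if_neg (Nat.not_even_iff_odd.2 h)]
      exact ⟨fun _ => Nat.odd_iff.1 h, fun _ => rfl⟩
  rw [hs]
  rcases eta_cases i with ⟨h1, h2⟩ | ⟨h1, h2⟩ <;> simp only [Nat.odd_iff, Nat.even_iff] at h1 <;> omega

theorem eta_eq_iff_minus {i m : ℕ} : (eta i < m ∨ (eta i = m ∧ sgn i = -1)) ↔ (eta i + 1 ≤ m ∨ i = 2 * m) := by
  have hs : sgn i = -1 ↔ i % 2 = 0 := by
    rw [sgn]
    rcases Nat.even_or_odd i with h | h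
    · rw [if_pos h]
      exact ⟨fun _ => Nat.even_iff.1 h, fun _ => rfl⟩
    · rw [if_neg (Nat.not_even_iff_odd.2 h)]
      constructor
      · intro h2; norm_num at h2
      · intro h2; rw [Nat.odd_iff] at h; omega
  rw [hs]
  rcases eta_cases i with ⟨h1, h2⟩ | ⟨h1, h2⟩ <;> simp only [Nat.odd_iff, Nat.even_iff] at h1 <;> omega

end combi

namespace OD

variable {F : Type} [Field F] [Fintype F] {X : Type u} [Group X] {m : ℕ}

theorem exists_of_elt {δ : ℤ} (h : OD F X m δ) {r s : ℕ} (hr : r.Prime) (hs : s.Prime) (hr2 : r ≠ 2) (hs2 : s ≠ 2)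
    (he : Elt F m δ (r * s)) : ∃ x : X, orderOf x = r * s :=
  h.ex _ (Elt.two (by have := h.hm; omega) ((hr.odd_of_ne_two hr2).mul (hs.odd_of_ne_two hs2)) he)

theorem adj_plus (h : OD F X m 1) {r s : ℕ} (hr : r.Prime) (hs : s.Prime) (hr2 : r ≠ 2) (hs2 : s ≠ 2) (hrs : r ≠ s)
    (h3 : 3 ≤ co (Nat.card F) r) (h3' : 3 ≤ co (Nat.card F) s)
    (hm : mem (.oplus m) (co (Nat.card F) r)) (hm' : mem (.oplus m) (co (Nat.card F) s)) :
    (∃ x : X, orderOf x = r * s) ↔ ¬ na (.oplus m) (co (Nat.card F) r) (co (Nat.card F) s) := by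
  have hm4 := h.hm
  have h1 := eta_eq_iff_plus.2 hm
  have h2 := eta_eq_iff_plus.2 hm'
  constructor
  · rintro hx ⟨ha, hb, hc, hd, he⟩
    refine h.no_elt hr hs hr2 hs2 hrs h3 h3' ?_ hc hb hx
    rcases ha with ha | ⟨ha, hb'⟩
    · left; omega
    · right
      refine ⟨?_, by omega, ?_⟩
      · intro heq
        rcases eta_self_or heq with h5 | ⟨h5, h6, h7⟩ | ⟨h5, h6, h7⟩
        · omega
        · rcases eta_cases (co (Nat.card F) r) with ⟨h8, h9⟩ | ⟨h8, h9⟩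
          · exact he ⟨by omega, by omega, by omega⟩
          · rw [Nat.even_iff] at h8; omega
        · rcases eta_cases (co (Nat.card F) s) with ⟨h8, h9⟩ | ⟨h8, h9⟩
          · exact hd ⟨by omega, by omega, by omega⟩
          · rw [Nat.even_iff] at h8; omega
      · rw [Ne, sgn_mul_eq_one]
        omega
  · intro hna
    have hcase : OddMul (co (Nat.card F) r) (co (Nat.card F) s) ∨ OddMul (co (Nat.card F) s) (co (Nat.card F) r) ∨
        (eta (co (Nat.card F) r) + eta (co (Nat.card F) s) < m ∨ (m = eta (co (Nat.card F) r) + eta (co (Nat.card F) s) ∧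
          (co (Nat.card F) r + co (Nat.card F) s) % 2 = 0)) ∨
        (co (Nat.card F) r ∣ m ∧ co (Nat.card F) s ∣ m) := by
      by_contra hcon
      push Not at hcon
      obtain ⟨ha, hb, ⟨hc, hd⟩, he⟩ := hcon
      refine hna ⟨?_, ha, hb, ?_, ?_⟩
      · rcases Nat.lt_or_ge m (eta (co (Nat.card F) r) + eta (co (Nat.card F) s)) with h4 | h4
        · exact Or.inl h4
        · have h5 : m = eta (co (Nat.card F) r) + eta (co (Nat.card F) s) := by omega
          have := hd h5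
          exact Or.inr ⟨h5, by omega⟩
      · rintro ⟨h4, h5, -⟩
        exact he (by rw [h4]) ⟨2, by omega⟩
      · rintro ⟨h4, h5, -⟩
        exact he ⟨2, by omega⟩ (by rw [h4])
    rcases hcase with h4 | h4 | h4 | ⟨h4, h5⟩
    · exact h.exists_of_elt hr hs hr2 hs2 (elt_oddMul (Or.inl rfl) hr hs hrs h3 h3' h4 h2)
    · rw [mul_comm r s]
      exact h.exists_of_elt hs hr hs2 hr2 (elt_oddMul (Or.inl rfl) hs hr hrs.symm h3' h3 h4 h1)
    · exact h.exists_of_elt hr hs hr2 hs2 (elt_sum (Or.inl rfl) hr hs hrs h3 h3' (by rwa [sgn_mul_eq_one]))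
    · exact h.exists_of_elt hr hs hr2 hs2 (elt_lin hr hs hrs (by omega) h4 h5)

theorem adj_minus (h : OD F X m (-1)) {r s : ℕ} (hr : r.Prime) (hs : s.Prime) (hr2 : r ≠ 2) (hs2 : s ≠ 2) (hrs : r ≠ s)
    (h3 : 3 ≤ co (Nat.card F) r) (h3' : 3 ≤ co (Nat.card F) s)
    (hm : mem (.ominus m) (co (Nat.card F) r)) (hm' : mem (.ominus m) (co (Nat.card F) s)) :
    (∃ x : X, orderOf x = r * s) ↔ ¬ na (.ominus m) (co (Nat.card F) r) (co (Nat.card F) s) := by
  have hm4 := h.hm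
  have h1 := eta_eq_iff_minus.2 hm
  have h2 := eta_eq_iff_minus.2 hm'
  constructor
  · rintro hx ⟨ha, hb, hc⟩
    refine h.no_elt hr hs hr2 hs2 hrs h3 h3' ?_ hc hb hx
    rcases ha with ha | ⟨ha, hb'⟩
    · left; omega
    · right
      refine ⟨?_, by omega, ?_⟩
      · intro heq
        rcases eta_self_or heq with h5 | ⟨h5, h6, h7⟩ | ⟨h5, h6, h7⟩
        · exact hb ⟨1, rfl, by omega⟩
        · omega
        · omega
      · rw [Ne, sgn_mul_eq_neg_one]
        omega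
  · intro hna
    have hcase : OddMul (co (Nat.card F) r) (co (Nat.card F) s) ∨ OddMul (co (Nat.card F) s) (co (Nat.card F) r) ∨
        (eta (co (Nat.card F) r) + eta (co (Nat.card F) s) < m ∨ (m = eta (co (Nat.card F) r) + eta (co (Nat.card F) s) ∧
          (co (Nat.card F) r + co (Nat.card F) s) % 2 = 1)) := by
      by_contra hcon
      push Not at hcon
      obtain ⟨ha, hb, ⟨hc, hd⟩⟩ := hcon
      refine hna ⟨?_, ha, hb⟩
      rcases Nat.lt_or_ge m (eta (co (Nat.card F) r) + eta (co (Nat.card F) s)) with h4 | h4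
      · exact Or.inl h4
      · have h5 : m = eta (co (Nat.card F) r) + eta (co (Nat.card F) s) := by omega
        have := hd h5
        exact Or.inr ⟨h5, by omega⟩
    rcases hcase with h4 | h4 | h4
    · exact h.exists_of_elt hr hs hr2 hs2 (elt_oddMul (Or.inr rfl) hr hs hrs h3 h3' h4 h2)
    · rw [mul_comm r s]
      exact h.exists_of_elt hs hr hs2 hr2 (elt_oddMul (Or.inr rfl) hs hr hrs.symm h3' h3 h4 h1)
    · exact h.exists_of_elt hr hs hr2 hs2 (elt_sum (Or.inr rfl) hr hs hrs h3 h3' (by rwa [sgn_mul_eq_neg_one]))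

end OD

/-! ### the data -/

theorem od_plus {F : Type} [Field F] [Fintype F] {X : Type u} [Group X] {m : ℕ} (hm : 4 ≤ m)
    (E : X ≃* POmega F (quadFormPlus m F)) : OD F X m 1 := by
  have hcard : Fintype.card (Fin m ⊕ Fin m) = 2 * m := by simp; ring
  have hD : Lift.Data (quadPlus m F) := data_of _ quadPlus_nondegenerate (by rw [hcard]; omega)
    (quadPlus_isotropic (by omega)) (Or.inr (by rw [hcard]; omega))
  refine ⟨hm, Or.inl rfl, ?_, ⟨_, _, _, quadPlus m F, hD, hcard, ?_, ⟨?_⟩⟩, ?_⟩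
  · intro N hN
    obtain ⟨g, hg⟩ := hN.plus hm
    exact ⟨E.symm g, by rw [MulEquiv.orderOf_eq, hg]⟩
  · rw [coe_quadPlus]
    exact hasSign_quadFormPlus m
  · rw [coe_quadPlus]
    exact E
  · intro r hr hr2 h3
    rw [Nat.card_congr E.toEquiv]
    have hnd := not_dvd_of_co hr h3
    constructor
    · intro h
      have := Cfsg.Agent.H72.AdjCoc.plus_class hm hr hnd h
      rwa [← eta_eq, ee_eq] at this
    · intro h
      have hord := Cfsg.Agent.S0293.result (F := F) rfl m hm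
      refine dvd_of_mul_small hr hr2 (Nat.gcd_dvd_left _ (Fintype.card F ^ m - 1)) ?_
      rw [hord, ← Nat.card_eq_fintype_card]
      rcases h with h | ⟨h, h'⟩
      · exact dvd_mul_of_dvd_right (dvd_prod_of_co AdjOrth.card_pos' h3 (by omega)) _
      · refine dvd_mul_of_dvd_left (dvd_mul_of_dvd_right ?_ _) _
        have h4 : (Nat.card F : ZMod r) ^ m = 1 := by
          have := pow_eta_eq hr h3
          rwa [h, h', Int.cast_one] at this
        rw [← ZMod.natCast_eq_zero_iff, Nat.cast_sub (Nat.one_le_pow _ _ AdjOrth.card_pos')]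
        push_cast
        rw [h4, sub_self]

theorem od_minus {F : Type} [Field F] [Fintype F] {X : Type u} [Group X] {m : ℕ} (hm : 4 ≤ m) {a b : F}
    (hab : ∀ z₁ z₂ : F, z₁ ^ 2 + a * z₁ * z₂ + b * z₂ ^ 2 = 0 → z₁ = 0 ∧ z₂ = 0)
    (E : X ≃* POmega F (quadFormMinus (m - 1) F a b)) : OD F X m (-1) := by
  have hcard : Fintype.card ((Fin (m - 1) ⊕ Fin (m - 1)) ⊕ Fin 2) = 2 * m := by simp; omega
  have hD : Lift.Data (quadMinus (m - 1) F a b) := data_of _ (quadMinus_nondegenerate hab) (by rw [hcard]; omega)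
    (quadMinus_isotropic (by omega) a b) (Or.inr (by rw [hcard]; omega))
  refine ⟨hm, Or.inr rfl, ?_, ⟨_, _, _, quadMinus (m - 1) F a b, hD, hcard, ?_, ⟨?_⟩⟩, ?_⟩
  · intro N hN
    obtain ⟨g, hg⟩ := hN.minus hm hab
    exact ⟨E.symm g, by rw [MulEquiv.orderOf_eq, hg]⟩
  · rw [coe_quadMinus]
    have := hasSign_quadFormMinus (F := F) (m - 1) hab
    rwa [Nat.sub_add_cancel (by omega)] at this
  · rw [coe_quadMinus]
    exact E
  · intro r hr hr2 h3
    rw [Nat.card_congr E.toEquiv]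
    have hnd := not_dvd_of_co hr h3
    constructor
    · intro h
      have := Cfsg.Agent.H72.AdjCoc.minus_class hm hab hr hr2 hnd h
      rwa [← eta_eq, ee_eq] at this
    · intro h
      have hord := Cfsg.Agent.S0294.result (F := F) rfl m hm a b hab
      refine dvd_of_mul_small hr hr2 (Nat.gcd_dvd_left _ (Fintype.card F ^ m + 1)) ?_
      rw [hord, ← Nat.card_eq_fintype_card]
      rcases h with h | ⟨h, h'⟩
      · exact dvd_mul_of_dvd_right (dvd_prod_of_co AdjOrth.card_pos' h3 (by omega)) _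
      · refine dvd_mul_of_dvd_left (dvd_mul_of_dvd_right ?_ _) _
        have h4 : (Nat.card F : ZMod r) ^ m = -1 := by
          have := pow_eta_eq hr h3
          rwa [h, h', Int.cast_neg, Int.cast_one] at this
        rw [← ZMod.natCast_eq_zero_iff]
        push_cast
        rw [h4, neg_add_cancel]

/-- **`PΩ^+_2m(q)`** -/
theorem oplus {p f m : ℕ} {X : Type u} [Group X] (hp : p.Prime) (h : Fam.Is p f X (.oplus m)) :
    AdjFacts (.oplus m) p f X := by
  obtain ⟨hm, F, _, _, hch, hF, ⟨E⟩⟩ := h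
  have hcl : ∀ r, cls (.oplus m) (p ^ f) r = co (Nat.card F) r := fun r => by
    rw [cls_eq_co (by intro n; exact fun h => by cases h), Nat.card_eq_fintype_card, hF]
  have hod := od_plus hm E
  refine ⟨?_, ?_, ?_⟩
  · intro r hr hr2 _ h3
    rw [hcl] at h3 ⊢
    rw [hod.dvd r hr hr2 h3]
    exact eta_eq_iff_plus
  · intro r s hr hs hr2 hs2 hrs hrp hsp h3 h3' hm hm'
    rw [hcl] at h3 h3' hm hm'
    rw [hcl, hcl]
    exact hod.adj_plus hr hs hr2 hs2 hrs h3 h3' hm hm'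
  · intro r hr hr2 hrp h3 hm
    rw [hcl] at h3 hm
    rw [hcl]
    refine hod.adjp hp hr hr2 (by rintro rfl; exact hrp dvd_rfl) h3 ?_
    rcases eta_eq_iff_plus.2 hm with h | ⟨h, -⟩ <;> omega

/-- **`PΩ^-_2m(q)`** -/
theorem ominus {p f m : ℕ} {X : Type u} [Group X] (hp : p.Prime) (h : Fam.Is p f X (.ominus m)) :
    AdjFacts (.ominus m) p f X := by
  obtain ⟨hm, F, _, _, hch, a, b, hF, hab, ⟨E⟩⟩ := h
  have hcl : ∀ r, cls (.ominus m) (p ^ f) r = co (Nat.card F) r := fun r => by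
    rw [cls_eq_co (by intro n; exact fun h => by cases h), Nat.card_eq_fintype_card, hF]
  have hod := od_minus hm hab E
  refine ⟨?_, ?_, ?_⟩
  · intro r hr hr2 _ h3
    rw [hcl] at h3 ⊢
    rw [hod.dvd r hr hr2 h3]
    exact eta_eq_iff_minus
  · intro r s hr hs hr2 hs2 hrs hrp hsp h3 h3' hm hm'
    rw [hcl] at h3 h3' hm hm'
    rw [hcl, hcl]
    exact hod.adj_minus hr hs hr2 hs2 hrs h3 h3' hm hm'
  · intro r hr hr2 hrp h3 hm
    rw [hcl] at h3 hm
    rw [hcl]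
    refine hod.adjp hp hr hr2 (by rintro rfl; exact hrp dvd_rfl) h3 ?_
    rcases eta_eq_iff_minus.2 hm with h | ⟨h, -⟩ <;> omega

end Cfsg.Agent.R2.Spec.P1
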