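import Cfsg.Agent.R2.Spec.P1.Sp
import Cfsg.Agent.H390.Nonadj2
import Cfsg.Agent.H150.FarOrthEven

/-!
# Team T3 (S3435), box P1: signs of subspaces and exact sums (helper15)
-/

set_option autoImplicit false

namespace Cfsg.Agent.R2.Spec.P1

open Module QuadraticMap
open Cfsg Cfsg.Agent.R2.Spec Cfsg.Agent.H390 Cfsg.Agent.H390.NonAdj Cfsg.Agent.H390.Dec
open Cfsg.Agent.LieClassical.OrthCount Cfsg.Agent.LieClassical.OmegaReindex Cfsg.Agent.LieClassical
open Cfsg.Agent.H377 (HasSign)
open Cfsg.Agent.H150 (ND isCompl_fix exists_hasSign card_of_hasSign' range_inv fpf_range restrict_pow_eq_one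
  eq_one_of_restrict ortho_fix polar_isom)

/-- the sign of the class `k` -/
def sgn (k : ℕ) : ℤ := if Even k then -1 else 1

theorem sgn_eq (k : ℕ) : sgn k = Cfsg.Agent.H72.AdjOrth.sg k := rfl

theorem sgn_pm (k : ℕ) : sgn k = 1 ∨ sgn k = -1 := Cfsg.Agent.H72.AdjOrth.sg_pm k

/-- `q ^ η = sgn` modulo `r` -/
theorem pow_eta_eq {q r : ℕ} (hr : r.Prime) (h3 : 3 ≤ co q r) : (q : ZMod r) ^ eta (co q r) = (sgn (co q r) : ℤ) := by
  rcases eta_cases (co q r) with ⟨ho, h⟩ | ⟨he, h⟩
  · rw [h, sgn, if_neg (Nat.not_even_iff_odd.2 ho), Int.cast_one]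
    exact pow_orderOf_eq_one _
  · rw [sgn, if_pos he, Int.cast_neg, Int.cast_one]
    exact pow_eq_neg_one hr (one_le_eta (by omega)) h.symm

section

variable {F : Type*} [Field F] [Finite F] {V : Type*} [AddCommGroup V] [Module F V] [FiniteDimensional F V] [Finite V]

/-- a space with a fixed-point-free isometry of prime order `r` of the least possible dimension -/
theorem sign_of_fpf (Q : QuadraticForm F V) (hQ : ND Q) {r : ℕ} (hr : r.Prime) (hr2 : r ≠ 2)
    (h3 : 3 ≤ co (Nat.card F) r) (hdim : finrank F V = 2 * eta (co (Nat.card F) r)) (x : V →ₗ[F] V) (hx : x ^ r = 1)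
    (hxQ : ∀ v, Q (x v) = Q v) (hfpf : ∀ v, x v = v → v = 0) :
    HasSign (⇑Q) (eta (co (Nat.card F) r)) (sgn (co (Nat.card F) r)) := by
  have := Fact.mk hr
  have hη := one_le_eta (k := co (Nat.card F) r) (by omega)
  obtain ⟨ε, hε, hs⟩ := exists_hasSign hη hdim Q hQ
  have hN := card_of_hasSign' hdim hs (one_ne_zero (α := F))
  -- `r` divides the number of the vectors of norm one
  have hσ : ∀ (j : ℕ) (v : {v : V // Q v = 1}),
      (((fun v : {v : V // Q v = 1} => (⟨x v, by rw [hxQ]; exact v.2⟩ : {v : V // Q v = 1}))^[j] v :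
        {v : V // Q v = 1}) : V) = (x ^ j) v := by
    intro j
    induction j with
    | zero => intro v; rfl
    | succ j ih =>
      intro v
      rw [Function.iterate_succ_apply, ih, pow_succ, Module.End.mul_apply]
  have h1 := modEq_fixed hr (fun v : {v : V // Q v = 1} => (⟨x v, by rw [hxQ]; exact v.2⟩ : {v : V // Q v = 1}))
    (fun v => Subtype.ext (by rw [hσ, hx]; rfl))
  have h2 : Nat.card {a : {v : V // Q v = 1} //
      (fun v : {v : V // Q v = 1} => (⟨x v, by rw [hxQ]; exact v.2⟩ : {v : V // Q v = 1})) a = a} = 0 := by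
    rw [Nat.card_eq_zero]
    left
    refine ⟨fun a => ?_⟩
    have h3 : x (a.1 : V) = a.1 := congrArg Subtype.val a.2
    have h4 := hfpf _ h3
    have h5 := a.1.2
    rw [h4, QuadraticMap.map_zero] at h5
    exact zero_ne_one h5
  rw [h2] at h1
  have h4 : r ∣ Nat.card {v : V // Q v = 1} := (Nat.modEq_zero_iff_dvd).1 h1
  have h5 : ((Nat.card {v : V // Q v = 1} : ℕ) : ZMod r) = 0 := (ZMod.natCast_eq_zero_iff _ _).2 h4
  have h6 := congrArg (Int.cast : ℤ → ZMod r) hN
  push_cast at h6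
  rw [h5, mul_zero, mul_comm 2, pow_mul] at h6
  have hpe := pow_eta_eq hr h3
  have hε2 : ((ε : ℤ) : ZMod r) = ((sgn (co (Nat.card F) r) : ℤ) : ZMod r) := by
    rw [hpe] at h6
    rcases sgn_pm (co (Nat.card F) r) with h7 | h7
    · rw [h7] at h6 ⊢
      push_cast at h6 ⊢
      linear_combination h6
    · rw [h7] at h6 ⊢
      push_cast at h6 ⊢
      linear_combination -h6
  have hne : ((1 : ℤ) : ZMod r) ≠ ((-1 : ℤ) : ZMod r) := by
    intro h
    have h8 : ((2 : ℕ) : ZMod r) = 0 := by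
      push_cast at h ⊢
      linear_combination h
    have h9 := (ZMod.natCast_eq_zero_iff 2 r).1 h8
    exact hr2 ((Nat.prime_dvd_prime_iff_eq hr Nat.prime_two).1 h9)
  have hεε : ε = sgn (co (Nat.card F) r) := by
    rcases hε with h | h <;> rcases sgn_pm (co (Nat.card F) r) with h' | h' <;> rw [h, h'] at hε2
    · rw [h, h']
    · exact absurd hε2 hne
    · exact absurd hε2.symm hne
    · rw [h, h']
  rw [← hεε]
  exact hs

/-- the sign of an orthogonal sum -/
theorem sign_of_isCompl (Q : QuadraticForm F V) {C M : Submodule F V} (h : IsCompl C M)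
    (horth : ∀ c ∈ C, ∀ m ∈ M, QuadraticMap.polar Q c m = 0) {a b m : ℕ} {ε ε' δ : ℤ} (hδ : δ = 1 ∨ δ = -1)
    (hε : ε = 1 ∨ ε = -1) (hε' : ε' = 1 ∨ ε' = -1)
    (h1 : HasSign (⇑(Q.comp C.subtype)) a ε) (h2 : HasSign (⇑(Q.comp M.subtype)) b ε') (h3 : HasSign (⇑Q) m δ) :
    δ = ε * ε' := by
  have hs' := (h1.prod h2).congr (Submodule.prodEquivOfIsCompl C M h).toEquiv (Q' := ⇑Q) (by
    intro p
    show Q ((p.1 : V) + (p.2 : V)) = Q p.1 + Q p.2
    have := horth p.1 p.1.2 p.2 p.2.2
    rw [QuadraticMap.polar] at this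
    linear_combination this)
  have hδδ : ε * ε' = 1 ∨ ε * ε' = -1 := by
    rcases hε with h | h <;> rcases hε' with h' | h' <;> rw [h, h'] <;> norm_num
  exact (HasSign.sign_eq h3 hs' hδ hδδ).1

end

section

variable {F : Type*} [Field F] [Fintype F] {V : Type*} [AddCommGroup V] [Module F V] [FiniteDimensional F V] [Finite V]

/-- **exact sums**: the sign is the product of the signs -/
theorem exact_sum (Q : QuadraticForm F V) (hQ : ND Q) {m : ℕ} (hdim : finrank F V = 2 * m) {δ : ℤ}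
    (hδ : δ = 1 ∨ δ = -1) (hs : HasSign (⇑Q) m δ) {r s : ℕ} (hr : r.Prime) (hsp : s.Prime) (hr2 : r ≠ 2) (hs2 : s ≠ 2)
    (hrs : r ≠ s) (h3 : 3 ≤ co (Nat.card F) r) (h3' : 3 ≤ co (Nat.card F) s)
    (hlt : eta (co (Nat.card F) s) < eta (co (Nat.card F) r))
    (hsum : m = eta (co (Nat.card F) s) + eta (co (Nat.card F) r))
    (hrat : ¬ ∃ t : ℕ, Odd t ∧ co (Nat.card F) r = co (Nat.card F) s * t)
    (T : V →ₗ[F] V) (hTQ : ∀ v, Q (T v) = Q v) (hT : ∀ j : ℕ, T ^ j = 1 ↔ r * s ∣ j) :
    δ = sgn (co (Nat.card F) s) * sgn (co (Nat.card F) r) := by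
  obtain ⟨h1, h2, h3r, h4⟩ := split_prime hr hsp hT
  have hrF := natCast_ne_zero (F := F) hr (not_dvd_of_co hr h3)
  have hsF := natCast_ne_zero (F := F) hsp (not_dvd_of_co hsp h3')
  have hcomm : Commute (T ^ s) (T ^ r) := (Commute.refl T).pow_pow _ _
  have hηs1 := one_le_eta (k := co (Nat.card F) s) (by omega)
  have hd := finrank_range_eq Q hQ hr hr2 hrF h1 h2 (quad_pow hTQ s) rfl (isEta (co (Nat.card F) r)) (by omega)
  have hηr3 : 3 ≤ eta (co (Nat.card F) r) := by
    rcases eta_cases (co (Nat.card F) s) with ⟨_, h⟩ | ⟨_, h⟩ <;> omega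
  by_cases htriv : ∀ v ∈ LinearMap.range (T ^ s - 1), (T ^ r) v = v
  · set x := T ^ s with hx
    set y := T ^ r with hy
    have hle1 : LinearMap.range (x - 1) ≤ LinearMap.ker (y - 1) := by
      intro v hv
      rw [LinearMap.mem_ker, LinearMap.sub_apply, Module.End.one_apply, htriv v hv, sub_self]
    have h5 := Submodule.finrank_mono hle1
    have h6 := Submodule.finrank_add_eq_of_isCompl (isCompl_fix hsF y h3r)
    have h7 := Dec.dvd_finrank Q hQ hsp hs2 hsF y h3r (quad_pow hTQ r) (isEta (co (Nat.card F) s))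
    have h8 : 0 < finrank F (LinearMap.range (y - 1)) := by
      rw [Module.finrank_pos_iff]
      apply Submodule.nontrivial_iff_ne_bot.2
      intro h
      rw [LinearMap.range_eq_bot, sub_eq_zero] at h
      exact h4 h
    have h9 := Nat.le_of_dvd h8 h7
    have hK : LinearMap.range (x - 1) = LinearMap.ker (y - 1) :=
      Submodule.eq_of_le_of_finrank_eq hle1 (by omega)
    have hcompl := isCompl_fix hrF x h1
    have hsumx := Submodule.finrank_add_eq_of_isCompl hcompl
    have hxy : ∀ v, x (y v) = y (x v) := fun v => LinearMap.congr_fun hcomm.eq v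
    have hyC := (range_inv hxy).2
    have hxM := (range_inv (x := x) (y := x) (fun v => rfl)).1
    obtain ⟨hCnd, hMnd, -, -, hfpf, -⟩ := dec Q hQ (hr.odd_of_ne_two hr2) hrF x h1 (quad_pow hTQ s) hxM
    have hyfpf : ∀ v : LinearMap.ker (x - 1), y.restrict hyC v = v → v = 0 := by
      intro v hv
      have hv1 : y (v : V) = v := congrArg Subtype.val hv
      have hv2 : (v : V) ∈ LinearMap.range (x - 1) := by
        rw [hK, LinearMap.mem_ker, LinearMap.sub_apply, Module.End.one_apply, hv1, sub_self]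
      have hv3 : (v : V) ∈ LinearMap.ker (x - 1) ⊓ LinearMap.range (x - 1) := ⟨v.2, hv2⟩
      rw [hcompl.inf_eq_bot] at hv3
      exact Subtype.ext ((Submodule.mem_bot F).1 hv3)
    have hsC := sign_of_fpf (Q.comp (LinearMap.ker (x - 1)).subtype) hCnd hsp hs2 h3' (by omega) (y.restrict hyC)
      (restrict_pow_eq_one hyC h3r) (fun v => quad_pow hTQ r v) hyfpf
    have hsM := sign_of_fpf (Q.comp (LinearMap.range (x - 1)).subtype) hMnd hr hr2 h3 hd (x.restrict hxM)
      (restrict_pow_eq_one hxM h1) (fun v => quad_pow hTQ s v) hfpf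
    refine sign_of_isCompl Q hcompl ?_ hδ (sgn_pm _) (sgn_pm _) hsC hsM hs
    intro c hc m hm
    refine ortho_fix (QuadraticMap.polarBilin Q) x (fun v w => polar_isom Q x (quad_pow hTQ s) v w) ?_ hm
    rwa [LinearMap.mem_ker, LinearMap.sub_apply, Module.End.one_apply, sub_eq_zero] at hc
  · push Not at htriv
    exfalso
    obtain ⟨g, hg⟩ := Dec.exists_psp_of_range Q hQ hr hr2 hrF hsp hs2 hrs (T ^ s) (T ^ r) hcomm h1 h3r
      (quad_pow hTQ s) (quad_pow hTQ r) htriv hd
    exact psp_nonadj (by omega) (by omega) hr hsp hr2 hs2 hrs hrF hsF rfl rfl (isEta (co (Nat.card F) r))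
      (isEta (co (Nat.card F) s)) hlt.le (by omega) hrat g hg

theorem isNilpotent_sub_one {p : ℕ} (hp : p.Prime) [CharP F p] {y : V →ₗ[F] V} (hy : y ^ p = 1) :
    IsNilpotent (y - 1) := by
  have := Fact.mk hp
  refine ⟨p, ?_⟩
  rcases subsingleton_or_nontrivial V with h | h
  · exact LinearMap.ext fun v => Subsingleton.elim _ _
  · have hc : CharP (Module.End F V) p := charP_of_injective_algebraMap (algebraMap F (Module.End F V)).injective p
    have h1 : (y - 1) ^ p = y ^ p - 1 ^ p := sub_pow_char_of_commute p (Commute.one_right y)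
    rw [h1, hy, one_pow, sub_self]

/-- the characteristic, odd: full and codimension two -/
theorem char_nonadj (Q : QuadraticForm F V) (hQ : ND Q) {m p : ℕ} (hm : 3 ≤ m) (hdim : finrank F V = 2 * m)
    (hp : p.Prime) (hp2 : p ≠ 2) [CharP F p] {r : ℕ} (hr : r.Prime) (hr2 : r ≠ 2) (h3 : 3 ≤ co (Nat.card F) r)
    (hη : m < eta (co (Nat.card F) r) + 2)
    (T : V →ₗ[F] V) (hTQ : ∀ v, Q (T v) = Q v) (hT : ∀ j : ℕ, T ^ j = 1 ↔ r * p ∣ j) : False := by
  obtain ⟨h1, h2, h3r, h4⟩ := split_prime hr hp hT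
  have hrF := natCast_ne_zero (F := F) hr (not_dvd_of_co hr h3)
  have hcomm : Commute (T ^ p) (T ^ r) := (Commute.refl T).pow_pow _ _
  have hd := finrank_range_eq Q hQ hr hr2 hrF h1 h2 (quad_pow hTQ p) rfl (isEta (co (Nat.card F) r)) (by omega)
  have hle := Submodule.finrank_le (LinearMap.range (T ^ p - 1))
  have h20 : (2 : F) ≠ 0 := by
    intro h20
    have h6 : ((2 : ℕ) : F) = 0 := by exact_mod_cast h20
    rw [CharP.cast_eq_zero_iff F p] at h6
    exact hp2 ((Nat.prime_dvd_prime_iff_eq hp Nat.prime_two).1 h6)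
  by_cases htriv : ∀ v ∈ LinearMap.range (T ^ p - 1), (T ^ r) v = v
  · set x := T ^ p with hx
    set y := T ^ r with hy
    have hxy : ∀ v, x (y v) = y (x v) := fun v => LinearMap.congr_fun hcomm.eq v
    have hyC := (range_inv hxy).2
    have hxM := (range_inv (x := x) (y := x) (fun v => rfl)).1
    have hcompl := isCompl_fix hrF x h1
    have hsum := Submodule.finrank_add_eq_of_isCompl hcompl
    obtain ⟨hCnd, -, -, -, -, -⟩ := dec Q hQ (hr.odd_of_ne_two hr2) hrF x h1 (quad_pow hTQ p) hxM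
    apply h4
    rcases Nat.lt_or_ge (eta (co (Nat.card F) r)) m with hlt | hge
    · have hU2 : finrank F (LinearMap.ker (x - 1)) = 2 := by omega
      have hyU1 := uni_two h20 _ hCnd hU2 (y.restrict hyC) (isNilpotent_sub_one hp (restrict_pow_eq_one hyC h3r))
        (fun v => quad_pow hTQ r v)
      refine eq_one_of_restrict hcompl ?_ htriv
      intro v hv
      exact congrArg Subtype.val (LinearMap.congr_fun hyU1 ⟨v, hv⟩)
    · have htop : LinearMap.range (x - 1) = ⊤ := Submodule.eq_top_of_finrank_eq (by omega)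
      ext v
      exact htriv v (by rw [htop]; trivial)
  · push Not at htriv
    have hηr3 : 2 ≤ eta (co (Nat.card F) r) := by omega
    have := unip_range Q hQ hr hr2 hrF (T ^ p) (T ^ r) hcomm h1 (isNilpotent_sub_one hp h3r) (quad_pow hTQ p)
      (quad_pow hTQ r) htriv hηr3 hd (isEta (co (Nat.card F) r))
    omega

end

end Cfsg.Agent.R2.Spec.P1
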