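import Cfsg.Agent.R2.Spec.P1.TopEig

/-!
# Team T3 (S3435), box P1b: blocks (helper15)
-/

set_option autoImplicit false
set_option linter.unusedSectionVars false

namespace Cfsg.Agent.R2.Spec.P1.Eig

open Cfsg.Agent.H160.QRoots

/-- `q ^ m - δ` -/
def AN (δ : ℤ) (m q : ℕ) : ℕ := if δ = 1 then q ^ m - 1 else q ^ m + 1

theorem AN_one {m q : ℕ} : AN 1 m q = q ^ m - 1 := if_pos rfl

theorem AN_neg {m q : ℕ} : AN (-1) m q = q ^ m + 1 := if_neg (by decide)

theorem AN_even {δ : ℤ} {m q : ℕ} (hq : q % 2 = 1) : 2 * (AN δ m q / 2) = AN δ m q := by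
  have h1 : q ^ m % 2 = 1 := Nat.odd_iff.1 ((Nat.odd_iff.2 hq).pow)
  rw [AN]
  split_ifs <;> omega

variable {K : Type*} [Field K] [DecidableEq K] {q : ℕ}

/-- a block -/
structure Blk (q d : ℕ) (δ : ℤ) (μ : K) : Prop where
  min : IsMin q μ d
  fr : (δ = 1 ∧ μ ^ (q ^ d) = μ) ∨ (δ = -1 ∧ μ ^ (q ^ d) = μ⁻¹)

theorem Blk.pm {d : ℕ} {δ : ℤ} {μ : K} (h : Blk q d δ μ) : δ = 1 ∨ δ = -1 := by
  rcases h.fr with ⟨h, -⟩ | ⟨h, -⟩
  · exact Or.inl h
  · exact Or.inr h

theorem Blk.pow {d : ℕ} {δ : ℤ} {μ : K} (h : Blk q d δ μ) (hq : 1 ≤ q) : μ ^ AN δ d q = 1 := by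
  have h0 := h.min.ne0
  rcases h.fr with ⟨rfl, h1⟩ | ⟨rfl, h1⟩
  · rw [AN_one]
    have h2 : μ ^ (q ^ d - 1) * μ = μ := by
      rw [← pow_succ, Nat.sub_add_cancel (Nat.one_le_pow _ _ hq), h1]
    exact mul_right_cancel₀ h0 (by rw [h2, one_mul])
  · rw [AN_neg, pow_succ, h1, inv_mul_cancel₀ h0]

/-- the half power is `±1` -/
theorem half_sq {μ : K} {N : ℕ} (h : μ ^ N = 1) (hN : 2 * (N / 2) = N) : μ ^ (N / 2) = 1 ∨ μ ^ (N / 2) = -1 := by
  have h1 : μ ^ (N / 2) * μ ^ (N / 2) = 1 := by rw [← pow_add, ← two_mul, hN, h]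
  exact mul_self_eq_one_iff.1 h1

theorem Blk.psi (hq : Function.Injective (fun x : K => x ^ q)) (hadd : ∀ x y : K, (x + y) ^ q = x ^ q + y ^ q)
    {e : ℕ} (he : q = 2 * e + 1) {d : ℕ} {δ : ℤ} {μ : K} (h : Blk q d δ μ) :
    Eig.psi (orb q μ d).val ^ e = μ ^ (AN δ d q / 2) := by
  have h1 := psi_orb hq hadd he h.min
  have h2 := half_sq (h.pow (by omega)) (AN_even (δ := δ) (m := d) (q := q) (by omega))
  have h3 : Eig.psi (orb q μ d).val ^ e * μ ^ (AN δ d q / 2) = 1 := by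
    rcases h.fr with ⟨rfl, h4⟩ | ⟨rfl, h4⟩
    · rw [AN_one]; exact h1.1 h4
    · rw [AN_neg]; exact h1.2 h4
  rcases h2 with h2 | h2
  · rw [h2, mul_one] at h3; rw [h2, h3]
  · rw [h2] at h3; rw [h2]; linear_combination -h3

theorem Blk.phi (hq : Function.Injective (fun x : K => x ^ q)) (hsub : ∀ x y : K, (x - y) ^ q = x ^ q - y ^ q)
    {e : ℕ} (he : q = 2 * e + 1) {d : ℕ} {δ : ℤ} {μ : K} (h : Blk q d δ μ) :
    Cfsg.Agent.H160.QRoots.phi (orb q μ d).val ^ e = (-1) ^ (d * e) * (δ : K) := by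
  have h1 := phi_orb hq hsub he h.min
  rcases h.fr with ⟨rfl, h4⟩ | ⟨rfl, h4⟩
  · rw [h1.1 h4]; push_cast; ring
  · rw [h1.2 h4]; push_cast; ring

/-- powers of the elements of the orbit -/
theorem pow_of_mem_orb {μ x : K} {d N : ℕ} {z : K} (hx : x ∈ orb q μ d) (h : μ ^ N = z) (hz : z = 1 ∨ z = -1)
    (hq : q % 2 = 1) : x ^ N = z := by
  have hz2 : z⁻¹ = z := by rcases hz with rfl | rfl <;> norm_num
  have hzq : ∀ i, z ^ (q ^ i) = z := by
    intro i
    have ho : Odd (q ^ i) := (Nat.odd_iff.2 hq).pow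
    rcases hz with rfl | rfl
    · exact one_pow _
    · exact ho.neg_one_pow
  obtain ⟨i, -, rfl | rfl⟩ := mem_orb.1 hx
  · rw [← pow_mul, mul_comm, pow_mul, h, hzq]
  · rw [inv_pow, ← pow_mul, mul_comm, pow_mul, h, hzq, hz2]

theorem IsMin.ne_pm {μ : K} {d : ℕ} (h : IsMin q μ d) : μ ≠ 1 ∧ μ ≠ -1 := by
  constructor
  · intro h1; apply h.ne1; rw [h1, inv_one]
  · intro h1; apply h.ne1; rw [h1]; norm_num

theorem orb_ne_pm (hq : Function.Injective (fun x : K => x ^ q)) {μ : K} {d : ℕ} (h : IsMin q μ d) {x : K}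
    (hx : x ∈ orb q μ d) : x ≠ x⁻¹ := by
  obtain ⟨i, -, rfl | rfl⟩ := mem_orb.1 hx
  · exact ne_inv hq h i
  · rw [inv_inv]; exact (ne_inv hq h i).symm

/-- a pair is a block -/
theorem blk_pair {μ : K} (h0 : μ ≠ 0) (hne : μ ≠ μ⁻¹) (hf : μ ^ q = μ ∨ μ ^ q = μ⁻¹) :
    ∃ δ : ℤ, Blk q 1 δ μ ∧ (orb q μ 1).val = {μ, μ⁻¹} := by
  have hmin : IsMin q μ 1 := ⟨one_pos, by rw [pow_one]; exact hf, fun i hi hi1 => by omega, h0, hne⟩
  have ho : orb q μ 1 = {μ, μ⁻¹} := by
    ext x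
    rw [mem_orb, Finset.mem_insert, Finset.mem_singleton]
    constructor
    · rintro ⟨i, hi, h⟩
      have : i = 0 := by omega
      subst this
      simpa using h
    · intro h
      exact ⟨0, one_pos, by simpa using h⟩
  have hov : (orb q μ 1).val = {μ, μ⁻¹} := by
    rw [ho, Finset.insert_val_of_notMem (by rw [Finset.mem_singleton]; exact hne)]
    rfl
  rcases hf with hf | hf
  · exact ⟨1, ⟨hmin, Or.inl ⟨rfl, by rw [pow_one]; exact hf⟩⟩, hov⟩
  · exact ⟨-1, ⟨hmin, Or.inr ⟨rfl, by rw [pow_one]; exact hf⟩⟩, hov⟩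

/-- **The conclusion on the multiset, with a rest of two elements.** -/
theorem rest_two_rel (h2K : (2 : K) ≠ 0) (hq : Function.Injective (fun x : K => x ^ q))
    (hadd : ∀ x y : K, (x + y) ^ q = x ^ q + y ^ q)
    (hsub : ∀ x y : K, (x - y) ^ q = x ^ q - y ^ q) {e : ℕ} (he : q = 2 * e + 1) (h2e : (2 : K) ^ (2 * e) = 1)
    {R R' : Multiset K} {d : ℕ} {δ ε : ℤ} {x : K} (hx : Blk q d δ x)
    (hR : R = (orb q x d).val + R') (hR' : ED q R') (hc : R'.card = 2) (hp : R'.prod = 1) {n : ℕ} (hn : n = d + 1)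
    (hε : ε = 1 ∨ ε = -1)
    -- the class
    (hdc : (∀ y ∈ R, y ≠ y⁻¹) → Cfsg.Agent.H160.QRoots.phi R ^ e = (-1) ^ (n * e) * (ε : K))
    -- the spinor norm
    (hsp : (-1 : K) ∉ R → Eig.psi R ^ e = 1)
    (hsm : (1 : K) ∉ R → (R.map (fun x => 1 - x)).prod ^ e = (-1) ^ (n * e) * (ε : K)) :
    ∃ μ : K, μ ≠ 0 ∧ R' = {μ, μ⁻¹} ∧ μ ^ AN (δ * ε) 1 q = 1 ∧ x ^ (AN δ d q / 2) = μ ^ (AN (δ * ε) 1 q / 2) := by
  obtain ⟨μ, h0, hRμ, hf⟩ := hR'.rest_two hc hp
  have hδ := hx.pm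
  have hpsi := hx.psi hq hadd he
  have hphi := hx.phi hq hsub he
  have hmem : ∀ y, y ∈ R ↔ y ∈ orb q x d ∨ y = μ ∨ y = μ⁻¹ := by
    intro y
    rw [hR, Multiset.mem_add, hRμ, Multiset.insert_eq_cons, Multiset.mem_cons, Multiset.mem_singleton]
    rfl
  have h1e : ((-1 : K) ^ e) * (-1) ^ e = 1 := by rw [← mul_pow]; norm_num
  have hpm1 : (-1 : K) ^ e = 1 ∨ (-1 : K) ^ e = -1 := mul_self_eq_one_iff.1 h1e
  have hs1 : ((-1 : K) ^ (d * e)) * (-1) ^ (d * e) = 1 := by rw [← mul_pow]; norm_num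
  have hne' : (-1 : K) ^ (n * e) = (-1) ^ (d * e) * (-1) ^ e := by rw [hn, add_mul, one_mul, pow_add]
  have hδK : (δ : K) * δ = 1 := by rcases hδ with h | h <;> rw [h] <;> norm_num
  refine ⟨μ, h0, hRμ, ?_⟩
  by_cases hμ : μ = μ⁻¹
  · -- `μ = ±1`
    have h1 : μ * μ = 1 := by
      nth_rewrite 2 [hμ]
      exact mul_inv_cancel₀ h0
    rcases mul_self_eq_one_iff.1 h1 with rfl | rfl
    · refine ⟨one_pow _, ?_⟩
      rw [one_pow, ← hpsi]
      have h3 : (-1 : K) ∉ R := by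
        rw [hmem]
        rintro (h3 | h3 | h3)
        · exact orb_ne_pm hq hx.min h3 (by norm_num)
        · apply h2K; linear_combination -h3
        · apply h2K; rw [inv_one] at h3; linear_combination -h3
      have h4 := hsp h3
      rw [hR, psi_add, mul_pow, hRμ] at h4
      have h5 : Eig.psi ({1, (1 : K)⁻¹} : Multiset K) ^ e = 1 := by
        rw [Eig.psi, Multiset.insert_eq_cons, Multiset.map_cons, Multiset.map_singleton, Multiset.prod_cons,
          Multiset.prod_singleton, inv_one, one_add_one_eq_two, ← pow_two, ← pow_mul]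
        exact h2e
      rw [h5, mul_one] at h4
      exact h4
    · have hB : AN (δ * ε) 1 q = 2 * (AN (δ * ε) 1 q / 2) := (AN_even (by omega)).symm
      refine ⟨by rw [hB, pow_mul]; norm_num, ?_⟩
      have h3 : (1 : K) ∉ R := by
        rw [hmem]
        rintro (h3 | h3 | h3)
        · exact orb_ne_pm hq hx.min h3 (by norm_num)
        · apply h2K; linear_combination h3
        · apply h2K
          have h6 : (-1 : K)⁻¹ = -1 := by norm_num
          rw [h6] at h3; linear_combination h3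
      have h4 := hsm h3
      have h5 : ((orb q x d).val.map (fun x => 1 - x)).prod ^ e = (-1) ^ (n * e) * (ε : K) := by
        rw [hR, Multiset.map_add, Multiset.prod_add, mul_pow, hRμ] at h4
        have h6 : ((({-1, (-1 : K)⁻¹} : Multiset K).map (fun x => 1 - x)).prod) ^ e = 1 := by
          rw [Multiset.insert_eq_cons, Multiset.map_cons, Multiset.map_singleton, Multiset.prod_cons,
            Multiset.prod_singleton, show (-1 : K)⁻¹ = -1 by norm_num, sub_neg_eq_add, one_add_one_eq_two, ← pow_two,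
            ← pow_mul]
          exact h2e
        rw [h6, mul_one] at h4
        exact h4
      have h7 : Cfsg.Agent.H160.QRoots.phi (orb q x d).val =
          ((orb q x d).val.map (fun x => 1 - x)).prod * Eig.psi (orb q x d).val := by
        have h8 : ((orb q x d).val.map (fun x => (-1 : K) - x)).prod = Eig.psi (orb q x d).val := by
          have h9 : (orb q x d).val.map (fun x => (-1 : K) - x) =
              (orb q x d).val.map (fun x => (-1 : K) * (1 + x)) := by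
            refine Multiset.map_congr rfl fun y _ => by ring
          rw [h9, Multiset.prod_map_mul, Multiset.map_const', Multiset.prod_replicate, Finset.card_val,
            card_orb hq hx.min, pow_mul, neg_one_sq, one_pow, one_mul, Eig.psi]
        rw [Cfsg.Agent.H160.QRoots.phi, Multiset.prod_map_mul, h8]
      have h8 : (-1 : K) ^ (d * e) * (δ : K) = (-1) ^ (n * e) * (ε : K) * x ^ (AN δ d q / 2) := by
        rw [← hphi, h7, mul_pow, h5, hpsi]
      have hεK : (ε : K) * ε = 1 := by rcases hε with h | h <;> rw [h] <;> norm_num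
      have h9 : x ^ (AN δ d q / 2) = (-1) ^ e * ((δ : K) * ε) := by
        rw [hne'] at h8
        calc x ^ (AN δ d q / 2) = ((-1 : K) ^ (d * e) * (-1) ^ (d * e)) * (((-1 : K) ^ e) * (-1) ^ e) *
              ((ε : K) * ε) * x ^ (AN δ d q / 2) := by rw [hs1, h1e, hεK]; ring
          _ = (-1 : K) ^ (d * e) * (-1) ^ e * ε * ((-1) ^ (d * e) * (-1) ^ e * (ε : K) * x ^ (AN δ d q / 2)) := by ring
          _ = (-1 : K) ^ (d * e) * (-1) ^ e * ε * ((-1 : K) ^ (d * e) * (δ : K)) := by rw [← h8]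
          _ = ((-1 : K) ^ (d * e) * (-1) ^ (d * e)) * ((-1) ^ e * ((δ : K) * ε)) := by ring
          _ = _ := by rw [hs1, one_mul]
      rw [h9]
      rcases hδ with h | h <;> rcases hε with h' | h' <;> rw [h, h'] <;> norm_num [AN_one, AN_neg] <;>
        rw [he]
      · rw [show (2 * e + 1 - 1) / 2 = e by omega]
      · rw [show (2 * e + 1 + 1) / 2 = e + 1 by omega, pow_succ]; ring
      · rw [show (2 * e + 1 + 1) / 2 = e + 1 by omega, pow_succ]; ring
      · rw [show (2 * e + 1 - 1) / 2 = e by omega]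
  · -- `μ ≠ ±1`
    obtain ⟨δ', hb, hbv⟩ := blk_pair h0 hμ hf
    have hbp := hb.psi hq hadd he
    have hbf := hb.phi hq hsub he
    rw [hbv] at hbp hbf
    have hpmR : ∀ y ∈ R, y ≠ y⁻¹ := by
      intro y hy
      rw [hmem] at hy
      rcases hy with hy | rfl | rfl
      · exact orb_ne_pm hq hx.min hy
      · exact hμ
      · rw [inv_inv]; exact fun h => hμ h.symm
    have h3 := hdc hpmR
    rw [hR, phi_add, mul_pow, hRμ, hbf, hphi, hne', one_mul] at h3
    have hδ' : δ' = δ * ε := by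
      have h4 : (δ : K) * δ' = ε := by
        calc (δ : K) * δ' = ((-1 : K) ^ (d * e) * (-1) ^ (d * e)) * (((-1 : K) ^ e) * (-1) ^ e) * ((δ : K) * δ') := by
              rw [hs1, h1e]; ring
          _ = (-1 : K) ^ (d * e) * (-1) ^ e * ((-1) ^ (d * e) * (δ : K) * ((-1) ^ e * (δ' : K))) := by ring
          _ = (-1 : K) ^ (d * e) * (-1) ^ e * ((-1) ^ (d * e) * (-1) ^ e * (ε : K)) := by rw [h3]
          _ = ((-1 : K) ^ (d * e) * (-1) ^ (d * e)) * (((-1 : K) ^ e) * (-1) ^ e) * ε := by ring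
          _ = _ := by rw [hs1, h1e]; ring
      have h1ne : (1 : K) ≠ -1 := fun h => h2K (by linear_combination h)
      rcases hδ with h | h <;> rcases hb.pm with h' | h' <;> rcases hε with h'' | h'' <;> rw [h, h', h''] at h4 ⊢ <;>
        norm_num at h4 ⊢
      all_goals first
        | exact h1ne h4
        | exact h1ne h4.symm
    subst hδ'
    refine ⟨hb.pow (by omega), ?_⟩
    have h5 : (-1 : K) ∉ R := fun h => hpmR _ h (by norm_num)
    have h6 := hsp h5
    rw [hR, psi_add, mul_pow, hRμ, hbp, hpsi] at h6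
    rcases half_sq (hb.pow (by omega)) (AN_even (δ := δ * ε) (m := 1) (q := q) (by omega)) with h7 | h7
    · rw [h7, mul_one] at h6; rw [h6, h7]
    · rw [h7] at h6; rw [h7]; linear_combination -h6

end Cfsg.Agent.R2.Spec.P1.Eig
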