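import Mathlib
import Cfsg.Agent.H160.QRoots

/-!
# Team T3 (S3435), box P1b: eigenvalues of isometries with an element of a large class (helper15)
-/

set_option autoImplicit false
set_option linter.unusedSectionVars false

namespace Cfsg.Agent.R2.Spec.P1.Eig

open Cfsg.Agent.H160.QRoots

variable {K : Type*} [Field K] [DecidableEq K] {q : ℕ}

/-- multisets stable under `x ↦ x ^ q` and inversion -/
structure ED (q : ℕ) (R : Multiset K) : Prop where
  frob : ∀ x, R.count (x ^ q) = R.count x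
  inv : ∀ x, R.count x⁻¹ = R.count x
  ne0 : ∀ x ∈ R, x ≠ 0

variable {R : Multiset K}

theorem ED.iter (h : ED q R) (x : K) (i : ℕ) : R.count (x ^ (q ^ i)) = R.count x := by
  induction i with
  | zero => simp
  | succ i ih => rw [pow_succ, pow_mul, h.frob, ih]

theorem ED.toInv (hq : Function.Injective (fun x : K => x ^ q)) (h : ED q R) :
    Inv q (R.filter (fun x => x ≠ x⁻¹)) where
  frob x := by
    have h1 : x ^ q ≠ (x ^ q)⁻¹ ↔ x ≠ x⁻¹ := by
      rw [← inv_pow]
      exact not_congr hq.eq_iff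
    by_cases hx : x ≠ x⁻¹
    · rw [Multiset.count_filter_of_pos (p := fun x => x ≠ x⁻¹) (h1.2 hx),
        Multiset.count_filter_of_pos (p := fun x => x ≠ x⁻¹) hx, h.frob]
    · rw [Multiset.count_filter_of_neg (p := fun x => x ≠ x⁻¹) (fun h2 => hx (h1.1 h2)),
        Multiset.count_filter_of_neg (p := fun x => x ≠ x⁻¹) hx]
  inv x := by
    have h1 : x⁻¹ ≠ (x⁻¹)⁻¹ ↔ x ≠ x⁻¹ := by
      rw [inv_inv]
      exact ne_comm
    by_cases hx : x ≠ x⁻¹
    · rw [Multiset.count_filter_of_pos (p := fun x => x ≠ x⁻¹) (h1.2 hx),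
        Multiset.count_filter_of_pos (p := fun x => x ≠ x⁻¹) hx, h.inv]
    · rw [Multiset.count_filter_of_neg (p := fun x => x ≠ x⁻¹) (fun h2 => hx (h1.1 h2)),
        Multiset.count_filter_of_neg (p := fun x => x ≠ x⁻¹) hx]
  ne0 x hx := h.ne0 x (Multiset.mem_of_mem_filter hx)
  ne1 x hx := (Multiset.mem_filter.1 hx).2

theorem ED.count_orb (h : ED q R) {μ x : K} {d : ℕ} (hx : x ∈ orb q μ d) : R.count x = R.count μ := by
  obtain ⟨i, _, rfl | rfl⟩ := mem_orb.1 hx
  · exact h.iter μ i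
  · rw [h.inv, h.iter μ i]

/-- removing an orbit -/
theorem ED.filter (hq : Function.Injective (fun x : K => x ^ q)) (h : ED q R) {μ : K} {d : ℕ} (hd : IsMin q μ d) :
    ED q (R.filter (fun x => x ∉ orb q μ d)) where
  frob x := by
    by_cases hx : x ∈ orb q μ d
    · rw [Multiset.count_filter_of_neg (p := fun x => x ∉ orb q μ d) (by rw [frob_mem_orb hq hd]; exact not_not.2 hx),
        Multiset.count_filter_of_neg (p := fun x => x ∉ orb q μ d) (not_not.2 hx)]
    · rw [Multiset.count_filter_of_pos (p := fun x => x ∉ orb q μ d) (by rw [frob_mem_orb hq hd]; exact hx),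
        Multiset.count_filter_of_pos (p := fun x => x ∉ orb q μ d) hx, h.frob]
  inv x := by
    by_cases hx : x ∈ orb q μ d
    · rw [Multiset.count_filter_of_neg (p := fun x => x ∉ orb q μ d) (by rw [inv_mem_orb]; exact not_not.2 hx),
        Multiset.count_filter_of_neg (p := fun x => x ∉ orb q μ d) (not_not.2 hx)]
    · rw [Multiset.count_filter_of_pos (p := fun x => x ∉ orb q μ d) (by rw [inv_mem_orb]; exact hx),
        Multiset.count_filter_of_pos (p := fun x => x ∉ orb q μ d) hx, h.inv]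
  ne0 x hx := h.ne0 x (Multiset.mem_of_mem_filter hx)

theorem ED.filter_mem (h : ED q R) (μ : K) (d : ℕ) :
    R.filter (fun x => x ∈ orb q μ d) = R.count μ • (orb q μ d).val := by
  ext x
  rw [Multiset.count_nsmul]
  by_cases hx : x ∈ orb q μ d
  · rw [Multiset.count_filter_of_pos hx, h.count_orb hx, Multiset.count_eq_one_of_mem (orb q μ d).nodup hx,
      mul_one]
  · rw [Multiset.count_filter_of_neg hx, Multiset.count_eq_zero_of_notMem (s := (orb q μ d).val) hx, mul_zero]

/-- **Removing an orbit.** -/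
theorem ED.peel (hq : Function.Injective (fun x : K => x ^ q)) (h : ED q R) {μ : K} {d : ℕ} (hd : IsMin q μ d) :
    ∃ R', R = R.count μ • (orb q μ d).val + R' ∧ ED q R' ∧ R.card = R.count μ * (2 * d) + R'.card := by
  refine ⟨R.filter (fun x => x ∉ orb q μ d), ?_, h.filter hq hd, ?_⟩
  · rw [← h.filter_mem μ d, Multiset.filter_add_not]
  · have h1 := congrArg Multiset.card (Multiset.filter_add_not (fun x => x ∈ orb q μ d) R)
    rw [h.filter_mem μ d, Multiset.card_add, Multiset.card_nsmul, Finset.card_val, card_orb hq hd] at h1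
    exact h1.symm

theorem zmod_two_cases : ∀ y : ZMod 2, y = 0 ∨ y = 1 := by decide

theorem orderOf_eq_prime_of {ζ : K} {r : ℕ} (hr : r.Prime) (h1 : ζ ≠ 1) (hζ : ζ ^ r = 1) : orderOf ζ = r := by
  rcases (Nat.dvd_prime hr).1 (orderOf_dvd_of_pow_eq_one hζ) with h | h
  · exact absurd (orderOf_eq_one_iff.1 h) h1
  · exact h

/-- **The large block.** -/
theorem ED.block (hq : Function.Injective (fun x : K => x ^ q)) (hq1 : 1 ≤ q) (h : ED q R) {m r i k : ℕ} {x : K}
    (hx : x ∈ R) (hr : r.Prime) (h1 : x ^ k ≠ 1) (hxr : (x ^ k) ^ r = 1) (hi : orderOf (q : ZMod r) = i)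
    (h3 : 3 ≤ i) (him : i = 2 * m ∨ (i = m ∧ Odd m)) (hc : R.card < 4 * m) :
    IsMin q x m ∧ (i = 2 * m → x ^ (q ^ m) = x⁻¹) ∧ (i = m → x ^ (q ^ m) = x) ∧
      ∃ R', R = (orb q x m).val + R' ∧ ED q R' ∧ R.card = 2 * m + R'.card := by
  have hrf := Fact.mk hr
  have hord := orderOf_eq_prime_of hr h1 hxr
  have hx0 := h.ne0 x hx
  have hζ0 : x ^ k ≠ 0 := pow_ne_zero _ hx0
  -- `x ^ (q ^ a) = x`
  have hA1 : ∀ a, x ^ (q ^ a) = x → i ∣ a := by
    intro a ha
    have h4 : (x ^ k) ^ (q ^ a) = x ^ k := by rw [← pow_mul, mul_comm, pow_mul, ha]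
    have h5 : (x ^ k) ^ (q ^ a - 1) = 1 := by
      have h6 : (x ^ k) ^ (q ^ a - 1) * x ^ k = x ^ k := by
        rw [← pow_succ, Nat.sub_add_cancel (Nat.one_le_pow _ _ hq1), h4]
      exact mul_right_cancel₀ hζ0 (by rw [h6, one_mul])
    have h6 := orderOf_dvd_of_pow_eq_one h5
    rw [hord, ← ZMod.natCast_eq_zero_iff, Nat.cast_sub (Nat.one_le_pow _ _ hq1)] at h6
    push_cast at h6
    rw [← hi]
    exact orderOf_dvd_of_pow_eq_one (sub_eq_zero.1 h6)
  have hA2 : ∀ a, x ^ (q ^ a) = x⁻¹ → i ∣ 2 * a ∧ ¬ i ∣ a := by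
    intro a ha
    have h4 : (x ^ k) ^ (q ^ a + 1) = 1 := by
      rw [← pow_mul, mul_comm, pow_mul, pow_succ, ha, inv_mul_cancel₀ hx0, one_pow]
    have h6 := orderOf_dvd_of_pow_eq_one h4
    rw [hord, ← ZMod.natCast_eq_zero_iff] at h6
    push_cast at h6
    have h7 : (q : ZMod r) ^ a = -1 := by linear_combination h6
    constructor
    · rw [← hi]
      apply orderOf_dvd_of_pow_eq_one
      rw [mul_comm, pow_mul, h7]
      ring
    · intro h8
      rw [← hi, orderOf_dvd_iff_pow_eq_one, h7] at h8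
      have h9 : ((2 : ℕ) : ZMod r) = 0 := by
        push_cast
        linear_combination -h8
      rw [ZMod.natCast_eq_zero_iff] at h9
      have h10 := (Nat.prime_dvd_prime_iff_eq hr Nat.prime_two).1 h9
      subst h10
      -- `i ≤ 1`
      have h11 : (q : ZMod 2) = 0 ∨ (q : ZMod 2) = 1 := zmod_two_cases _
      rcases h11 with h11 | h11
      · rw [h11, orderOf_zero] at hi
        omega
      · rw [h11, orderOf_one] at hi
        omega
  have hxx : x ≠ x⁻¹ := by
    intro h4
    exact (hA2 0 (by rw [pow_zero, pow_one]; exact h4)).2 (dvd_zero _)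
  obtain ⟨d, hd⟩ := exists_isMin hq (h.toInv hq) (Multiset.mem_filter.2 ⟨hx, hxx⟩)
  obtain ⟨R', hR, hR', hcard⟩ := h.peel hq hd
  have hcnt : 1 ≤ R.count x := Multiset.one_le_count_iff_mem.2 hx
  have h2d : 2 * d ≤ R.count x * (2 * d) := Nat.le_mul_of_pos_left _ (by omega)
  have hdpos := hd.pos
  have hm0 : 0 < m := by omega
  have hdm : d = m := by
    rcases hd.eq with h4 | h4
    · have h5 := hA1 d h4
      rcases him with h6 | ⟨h6, -⟩
      · exfalso
        have := Nat.le_of_dvd hdpos h5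
        omega
      · rw [h6] at h5
        obtain ⟨c, rfl⟩ := h5
        have : c ≠ 0 := by rintro rfl; omega
        have : c < 2 := by
          by_contra hcc
          have : m * 2 ≤ m * c := Nat.mul_le_mul_left m (by omega)
          omega
        have : c = 1 := by omega
        rw [this, mul_one]
    · obtain ⟨h5, h5'⟩ := hA2 d h4
      rcases him with h6 | ⟨h6, h7⟩
      · rw [h6] at h5
        obtain ⟨c, hc'⟩ := h5
        have hcd : d = m * c := by
          have : 2 * d = 2 * (m * c) := by rw [hc']; ring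
          omega
        have : c ≠ 0 := by rintro rfl; omega
        have : c < 2 := by
          by_contra hcc
          have : m * 2 ≤ m * c := Nat.mul_le_mul_left m (by omega)
          omega
        have : c = 1 := by omega
        rw [hcd, this, mul_one]
      · exfalso
        apply h5'
        rw [h6] at h5 ⊢
        exact (Nat.coprime_two_right.2 h7).dvd_of_dvd_mul_left h5
  subst hdm
  have hc1 : R.count x = 1 := by
    by_contra hne
    have : 2 * (2 * d) ≤ R.count x * (2 * d) := Nat.mul_le_mul_right _ (by omega)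
    omega
  refine ⟨hd, ?_, ?_, R', ?_, hR', ?_⟩
  · intro h6
    rcases hd.eq with h4 | h4
    · exfalso
      have := Nat.le_of_dvd hdpos (hA1 d h4)
      omega
    · exact h4
  · intro h6
    rcases hd.eq with h4 | h4
    · exact h4
    · exfalso
      exact (hA2 d h4).2 (by rw [h6])
  · rw [hc1, one_smul] at hR
    exact hR
  · rw [hc1, one_mul] at hcard
    exact hcard

theorem prod_orb_val (hq : Function.Injective (fun x : K => x ^ q)) {μ : K} {d : ℕ} (h : IsMin q μ d) :
    (orb q μ d).val.prod = 1 := by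
  have h1 : (orb q μ d).val.prod = ∏ x ∈ orb q μ d, x := by
    rw [Finset.prod_eq_multiset_prod, Multiset.map_id']
  rw [h1, prod_orb hq (fun x => x) h]
  exact Finset.prod_eq_one fun i _ => mul_inv_cancel₀ (pow_ne_zero _ h.ne0)

/-- the rest: one element -/
theorem ED.rest_one {R' : Multiset K} (hc : R'.card = 1) (hp : R'.prod = 1) : R' = {1} := by
  obtain ⟨a, rfl⟩ := Multiset.card_eq_one.1 hc
  rw [Multiset.prod_singleton] at hp
  rw [hp]

/-- the rest: two elements -/
theorem ED.rest_two {R' : Multiset K} (h : ED q R') (hc : R'.card = 2) (hp : R'.prod = 1) :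
    ∃ μ : K, μ ≠ 0 ∧ R' = {μ, μ⁻¹} ∧ (μ ^ q = μ ∨ μ ^ q = μ⁻¹) := by
  obtain ⟨a, b, rfl⟩ := Multiset.card_eq_two.1 hc
  rw [Multiset.insert_eq_cons, Multiset.prod_cons, Multiset.prod_singleton] at hp
  have ha0 : a ≠ 0 := by
    rintro rfl
    rw [zero_mul] at hp
    exact zero_ne_one hp
  have hb : b = a⁻¹ := eq_inv_of_mul_eq_one_right hp
  subst hb
  refine ⟨a, ha0, rfl, ?_⟩
  have h1 : a ^ q ∈ ({a, a⁻¹} : Multiset K) := by
    rw [← Multiset.one_le_count_iff_mem, h.frob, Multiset.one_le_count_iff_mem]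
    exact Multiset.mem_cons_self _ _
  rw [Multiset.insert_eq_cons, Multiset.mem_cons, Multiset.mem_singleton] at h1
  exact h1

/-! ### The product of the `1 + x` -/

/-- the product of the `1 + x` -/
def psi (R : Multiset K) : K := (R.map (fun x => 1 + x)).prod

omit [DecidableEq K] in
theorem psi_add (R S : Multiset K) : psi (R + S) = psi R * psi S := by
  simp only [psi, Multiset.map_add, Multiset.prod_add]

/-- the value on an orbit, `2 * e + 1 = q` -/
theorem psi_orb (hq : Function.Injective (fun x : K => x ^ q)) (hadd : ∀ x y : K, (x + y) ^ q = x ^ q + y ^ q)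
    {e : ℕ} (he : q = 2 * e + 1) {μ : K} {d : ℕ} (hd : IsMin q μ d) :
    (μ ^ (q ^ d) = μ → psi (orb q μ d).val ^ e * μ ^ ((q ^ d - 1) / 2) = 1) ∧
      (μ ^ (q ^ d) = μ⁻¹ → psi (orb q μ d).val ^ e * μ ^ ((q ^ d + 1) / 2) = 1) := by
  have hne : ∀ i : ℕ, μ ^ (q ^ i) ≠ 0 := fun i => pow_ne_zero _ hd.ne0
  have hκ : ∀ i : ℕ, 1 + μ ^ (q ^ i) ≠ 0 := by
    intro i h1
    have h2 : μ ^ (q ^ i) = -1 := by linear_combination h1
    apply ne_inv hq hd i
    rw [h2]
    norm_num
  have h1 : psi (orb q μ d).val = ∏ i ∈ Finset.range d, ((1 + μ ^ (q ^ i)) ^ 2 / μ ^ (q ^ i)) := by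
    show ∏ x ∈ orb q μ d, (1 + x) = _
    rw [prod_orb hq _ hd]
    refine Finset.prod_congr rfl fun i _ => ?_
    have := hne i
    generalize μ ^ (q ^ i) = y at this
    field_simp
    ring
  have h2 : ∀ i : ℕ, (1 + μ ^ (q ^ i)) ^ q = 1 + μ ^ (q ^ (i + 1)) := by
    intro i
    rw [hadd, one_pow, ← pow_mul, ← pow_succ]
  have hsum : ∀ n : ℕ, ∏ i ∈ Finset.range n, (μ ^ (q ^ i)) ^ e = μ ^ ((q ^ n - 1) / 2) := by
    intro n
    induction n with
    | zero => simp
    | succ n ih =>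
      rw [Finset.prod_range_succ, ih, ← pow_mul, ← pow_add]
      congr 1
      have h5 : 1 ≤ q ^ n := Nat.one_le_pow _ _ (by omega)
      have h6 : q ^ n % 2 = 1 := by
        rw [he]
        have : Odd ((2 * e + 1) ^ n) := Odd.pow ⟨e, rfl⟩
        exact Nat.odd_iff.1 this
      have h7 : q ^ (n + 1) = 2 * (q ^ n * e) + q ^ n := by
        rw [pow_succ]
        calc q ^ n * q = q ^ n * (2 * e + 1) := by rw [← he]
          _ = _ := by ring
      omega
  have h3 : psi (orb q μ d).val ^ e * μ ^ ((q ^ d - 1) / 2) =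
      ∏ i ∈ Finset.range d, ((1 + μ ^ (q ^ (i + 1))) / (1 + μ ^ (q ^ i))) := by
    rw [h1, ← Finset.prod_pow, ← hsum, ← Finset.prod_mul_distrib]
    refine Finset.prod_congr rfl fun i _ => ?_
    have h4 : (1 + μ ^ (q ^ i)) ^ q = (1 + μ ^ (q ^ i)) ^ (2 * e) * (1 + μ ^ (q ^ i)) := by
      rw [← pow_succ, ← he]
    rw [div_pow, div_mul_cancel₀ _ (pow_ne_zero _ (hne i)), ← pow_mul, ← h2 i, h4, mul_div_assoc,
      div_self (hκ i), mul_one]
  have h6 : ∀ n : ℕ, ∏ i ∈ Finset.range n, ((1 + μ ^ (q ^ (i + 1))) / (1 + μ ^ (q ^ i))) =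
      (1 + μ ^ (q ^ n)) / (1 + μ ^ (q ^ 0)) := by
    intro n
    induction n with
    | zero => rw [Finset.prod_range_zero, div_self (hκ 0)]
    | succ n ih => rw [Finset.prod_range_succ, ih, div_mul_div_comm, mul_comm (1 + μ ^ (q ^ n)), mul_div_mul_right _ _ (hκ n)]
  rw [h6, pow_zero, pow_one] at h3
  have h0 : 1 + μ ≠ 0 := by simpa using hκ 0
  have hodd : q ^ d % 2 = 1 := by
    rw [he]
    have : Odd ((2 * e + 1) ^ d) := Odd.pow ⟨e, rfl⟩
    exact Nat.odd_iff.1 this
  constructor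
  · intro h
    rw [h3, h, div_self h0]
  · intro h
    have h5 : (q ^ d + 1) / 2 = (q ^ d - 1) / 2 + 1 := by omega
    rw [h5, pow_succ, ← mul_assoc, h3, h]
    have := hd.ne0
    field_simp
    ring

omit [DecidableEq K] in
/-- the value on a pair -/
theorem psi_pair (hadd : ∀ x y : K, (x + y) ^ q = x ^ q + y ^ q) {e : ℕ} (he : q = 2 * e + 1) {μ : K}
    (h0 : μ ≠ 0) (hne : μ ≠ -1) :
    (μ ^ q = μ → psi ({μ, μ⁻¹} : Multiset K) ^ e * μ ^ ((q - 1) / 2) = 1) ∧
      (μ ^ q = μ⁻¹ → psi ({μ, μ⁻¹} : Multiset K) ^ e * μ ^ ((q + 1) / 2) = 1) := by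
  have hκ : 1 + μ ≠ 0 := fun h => hne (by linear_combination h)
  have h1 : psi ({μ, μ⁻¹} : Multiset K) = (1 + μ) ^ 2 / μ := by
    rw [psi, Multiset.insert_eq_cons, Multiset.map_cons, Multiset.map_singleton, Multiset.prod_cons,
      Multiset.prod_singleton]
    field_simp
    ring
  have h3 : psi ({μ, μ⁻¹} : Multiset K) ^ e * μ ^ e = (1 + μ ^ q) / (1 + μ) := by
    rw [h1, div_pow, div_mul_cancel₀ _ (pow_ne_zero _ h0), ← pow_mul, eq_div_iff hκ, ← pow_succ, ← he, hadd, one_pow]
  have he1 : (q - 1) / 2 = e := by omega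
  have he2 : (q + 1) / 2 = e + 1 := by omega
  constructor
  · intro h
    rw [he1, h3, h, div_self hκ]
  · intro h
    rw [he2, pow_succ, ← mul_assoc, h3, h]
    field_simp
    ring

end Cfsg.Agent.R2.Spec.P1.Eig
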