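import Cfsg.Agent.R2.Spec.P1.TopTorX

/-!
# Team T3 (S3435), box P1b: the exact top tori of `PΩ^±_2n(q)`, `q` odd (helper15)
-/

set_option autoImplicit false
set_option linter.unusedSectionVars false

namespace Cfsg.Agent.R2.Spec.P1

open QuadraticMap Module Polynomial Cfsg Cfsg.Agent.H426.LieFam Cfsg.Agent.R2.Spec
open Cfsg.Agent.H160.QRoots Cfsg.Agent.H160.QChar Cfsg.Agent.R2.Spec.P1.Eig
open Cfsg.Agent.LieClassical.OrthCore (Nondeg)
open Cfsg.Agent.LieClassical.OrthForms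
open Cfsg.Agent.H160.QSpin Cfsg.Agent.H160.QDisc Cfsg.Agent.H160.QSemi Cfsg.Agent.H160.QFinal

universe u

section Num

theorem AN_cast {δ : ℤ} {m q : ℕ} (hδ : δ = 1 ∨ δ = -1) (hq : 1 ≤ q) : ((AN δ m q : ℕ) : ℤ) = (q : ℤ) ^ m - δ := by
  rcases hδ with rfl | rfl
  · rw [AN_one, Nat.cast_sub (Nat.one_le_pow _ _ hq)]
    push_cast
    ring
  · rw [AN_neg]
    push_cast
    ring

theorem AN_half {δ : ℤ} {m q : ℕ} (hδ : δ = 1 ∨ δ = -1) (hq : q % 2 = 1) :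
    2 * ((AN δ m q / 2 : ℕ) : ℤ) = (q : ℤ) ^ m - δ := by
  rw [← AN_cast hδ (by omega)]
  exact_mod_cast AN_even (δ := δ) (m := m) hq

/-- the quotient is odd -/
theorem tc_div {q m : ℕ} {δ : ℤ} (hδ : δ = 1 ∨ δ = -1) (hq : q % 2 = 1) (hq3 : 3 ≤ q) (hm : Odd m) :
    TC (AN δ m q / 2) (AN δ 1 q / 2) (AN δ m q / 2) := by
  left
  have ha := AN_half (m := m) hδ hq
  have hb := AN_half (m := 1) hδ hq
  have hq1 : 1 ≤ q := by omega
  rw [pow_one] at hb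
  obtain ⟨a, hA⟩ : ∃ a, AN δ m q / 2 = a := ⟨_, rfl⟩
  obtain ⟨b, hB⟩ : ∃ b, AN δ 1 q / 2 = b := ⟨_, rfl⟩
  rw [hA] at ha
  rw [hB] at hb
  rw [hA, hB]
  have hδm : δ ^ m = δ := by
    rcases hδ with rfl | rfl
    · exact one_pow _
    · exact hm.neg_one_pow
  have h1 := (Commute.all (q : ℤ) δ).geom_sum₂_mul m
  rw [hδm, ← ha, ← hb] at h1
  obtain ⟨c, hc⟩ : ∃ c, (∑ i ∈ Finset.range m, (q : ℤ) ^ i * δ ^ (m - 1 - i)) = c := ⟨_, rfl⟩
  have hodd : Odd c := by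
    rw [← hc, ← ZMod.intCast_eq_one_iff_odd]
    have h2 : ∀ i ∈ Finset.range m, (((q : ℤ) ^ i * δ ^ (m - 1 - i) : ℤ) : ZMod 2) = 1 := by
      intro i _
      rw [ZMod.intCast_eq_one_iff_odd]
      refine Odd.mul (Odd.pow ?_) (Odd.pow ?_)
      · exact_mod_cast Nat.odd_iff.2 hq
      · rcases hδ with rfl | rfl <;> decide
    rw [Int.cast_sum, Finset.sum_congr rfl h2, Finset.sum_const, Finset.card_range, nsmul_one]
    rw [ZMod.natCast_eq_one_iff_odd]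
    exact hm
  rw [hc] at h1
  have hb0 : (0 : ℤ) < b := by
    have : (3 : ℤ) ≤ q := by exact_mod_cast hq3
    rcases hδ with rfl | rfl <;> omega
  have h2 : (a : ℤ) = b * c := by linarith
  have hc0 : 0 ≤ c := by
    by_contra hcon
    have h3 : (b : ℤ) * c < 0 := mul_neg_of_pos_of_neg hb0 (by omega)
    omega
  obtain ⟨k, rfl⟩ := Int.eq_ofNat_of_zero_le hc0
  exact ⟨k, by exact_mod_cast hodd, by exact_mod_cast h2, rfl⟩

/-- the coprime case -/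
theorem tc_cop {q m N : ℕ} {δ ε : ℤ} (hδ : δ = 1 ∨ δ = -1) (hε : ε = 1 ∨ ε = -1) (hq : q % 2 = 1)
    (hs : (δ * ε) ^ m = -δ) (hN : (N : ℤ) = (q : ℤ) ^ (m + 1) - ε) :
    TC (AN δ m q / 2) (AN (δ * ε) 1 q / 2) (AN δ m q * AN (δ * ε) 1 q / Nat.gcd 4 N) := by
  have hδε : δ * ε = 1 ∨ δ * ε = -1 := by
    rcases hδ with h | h <;> rcases hε with h' | h' <;> rw [h, h'] <;> norm_num
  have ha := AN_half (m := m) hδ hq
  have hb := AN_half (m := 1) hδε hq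
  have hevA := AN_even (δ := δ) (m := m) hq
  have hevB := AN_even (δ := δ * ε) (m := 1) hq
  rw [pow_one] at hb
  obtain ⟨a, hA⟩ : ∃ a, AN δ m q / 2 = a := ⟨_, rfl⟩
  obtain ⟨b, hB⟩ : ∃ b, AN (δ * ε) 1 q / 2 = b := ⟨_, rfl⟩
  rw [hA] at ha hevA
  rw [hB] at hb hevB
  rw [hA, hB, ← hevA, ← hevB]
  have hδ2 : δ * δ = 1 := by rcases hδ with h | h <;> rw [h] <;> norm_num
  have hε2 : ε * ε = 1 := by rcases hε with h | h <;> rw [h] <;> norm_num
  -- coprimality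
  have hcop : Nat.Coprime a b := by
    have h1 : (q : ℤ) - δ * ε ∣ (q : ℤ) ^ m - (δ * ε) ^ m := sub_dvd_pow_sub_pow _ _ _
    rw [← hb, hs] at h1
    have h2 : ((q : ℤ) ^ m - -δ) = 2 * (a + δ) := by linear_combination -ha
    rw [h2] at h1
    have h3 : (b : ℤ) ∣ a + δ := Int.dvd_of_mul_dvd_mul_left (by norm_num : (2 : ℤ) ≠ 0) h1
    have h4 : ((Nat.gcd a b : ℕ) : ℤ) ∣ δ := by
      have h5 : ((Nat.gcd a b : ℕ) : ℤ) ∣ a + δ := (Int.natCast_dvd_natCast.2 (Nat.gcd_dvd_right a b)).trans h3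
      exact (Int.dvd_iff_dvd_of_dvd_add h5).1 (Int.natCast_dvd_natCast.2 (Nat.gcd_dvd_left a b))
    have h6 : ((Nat.gcd a b : ℕ) : ℤ) ∣ 1 := by
      rcases hδ with h | h
      · rwa [h] at h4
      · rw [h] at h4; exact (dvd_neg.1 h4)
    exact Nat.dvd_one.1 (by exact_mod_cast h6)
  -- the gcd
  have hN4 : (N : ℤ) = 4 * (a * b) + 2 * (δ * (a * ε + b)) := by
    have h1 : (q : ℤ) ^ m = 2 * a + δ := by linear_combination -ha
    have h2 : (q : ℤ) = 2 * b + δ * ε := by linear_combination -hb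
    rw [hN, pow_succ, h1, h2]
    linear_combination (ε * hδ2)
  have hpar : ((a : ℤ) * ε + b) % 2 = ((a : ℤ) + b) % 2 := by
    rcases hε with h | h <;> rw [h] <;> omega
  have hN2 : 4 ∣ N ↔ (a + b) % 2 = 0 := by
    rcases hδ with h | h <;> rw [h] at hN4 <;> omega
  have hNe : 2 ∣ N := by omega
  have hnot : ¬ (a % 2 = 0 ∧ b % 2 = 0) := by
    rintro ⟨h6, h7⟩
    have h8 : 2 ∣ Nat.gcd a b := Nat.dvd_gcd (Nat.dvd_of_mod_eq_zero h6) (Nat.dvd_of_mod_eq_zero h7)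
    rw [hcop] at h8
    omega
  right
  by_cases h4 : 4 ∣ N
  · left
    have h5 := hN2.1 h4
    refine ⟨hcop, Nat.odd_iff.2 (by omega), Nat.odd_iff.2 (by omega), ?_⟩
    rw [Nat.gcd_eq_left h4, show 2 * a * (2 * b) = 4 * (a * b) by ring, Nat.mul_div_cancel_left _ (by norm_num)]
  · right
    refine ⟨hcop, ?_, ?_⟩
    · rintro ⟨h5, h6⟩
      rw [Nat.odd_iff] at h5 h6
      exact h4 (hN2.2 (by omega))
    · have h5 : Nat.gcd 4 N ∣ 4 := Nat.gcd_dvd_left _ _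
      have h6 : 2 ∣ Nat.gcd 4 N := Nat.dvd_gcd (by norm_num) hNe
      have h7 := Nat.le_of_dvd (by norm_num) h5
      have h8 : Nat.gcd 4 N ≠ 4 := fun h => h4 (h ▸ Nat.gcd_dvd_right _ _)
      have h9 : Nat.gcd 4 N = 2 := by
        interval_cases Nat.gcd 4 N <;> omega
      rw [h9, show 2 * a * (2 * b) = 2 * (2 * (a * b)) by ring, Nat.mul_div_cancel_left _ (by norm_num)]

end Num

section Frm

variable {F : Type*} [Field F] [Fintype F] [DecidableEq F]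

theorem dc_plus' (m : ℕ) : dc (plusForm m F) = quadraticChar F (-1) ^ m := by
  have he : IsIso (hyp F m) (plusForm m F) (LinearEquiv.sumArrowLequivProdArrow (Fin m) (Fin m) F F).symm := by
    rintro ⟨x, y⟩
    rw [coe_plusForm, quadFormPlus_apply]
    rfl
  rw [dc_iso he, dc_hyp]

theorem dc_minus' (h2 : (2 : F) ≠ 0) (m : ℕ) {a b : F}
    (hab : ∀ z₁ z₂ : F, z₁ ^ 2 + a * z₁ * z₂ + b * z₂ ^ 2 = 0 → z₁ = 0 ∧ z₂ = 0) :
    dc (minusForm m F a b) = - quadraticChar F (-1) ^ (m + 1) := by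
  let e : (((Fin m → F) × (Fin m → F)) × (Fin 2 → F)) ≃ₗ[F] ((Fin m ⊕ Fin m) ⊕ Fin 2 → F) :=
    ((LinearEquiv.sumArrowLequivProdArrow (Fin m) (Fin m) F F).symm.prodCongr (LinearEquiv.refl F _)).trans
      (LinearEquiv.sumArrowLequivProdArrow (Fin m ⊕ Fin m) (Fin 2) F F).symm
  have he : IsIso ((hyp F m).prod (binF a b)) (minusForm m F a b) e := by
    rintro ⟨⟨x, y⟩, z⟩
    rw [coe_minusForm, quadFormMinus_apply, QuadraticMap.prod_apply, binF_apply]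
    rfl
  rw [dc_iso he, dc_prod, dc_hyp, dc_binF]
  have h3 : quadraticChar F (4 * b - a ^ 2) = quadraticChar F (-1) * quadraticChar F (a ^ 2 - 4 * b) := by
    rw [← map_mul]
    congr 1
    ring
  rw [h3, minus_disc h2 hab]
  ring

theorem dc_plusK (h2 : (2 : F) ≠ 0) {e : ℕ} (he : Fintype.card F = 2 * e + 1) (m : ℕ) :
    ((dc (plusForm m F) : ℤ) : AlgebraicClosure F) = (-1) ^ (m * e) * ((1 : ℤ) : AlgebraicClosure F) := by
  rw [dc_plus', Int.cast_pow, qc_eq h2 he, map_neg, map_one, ← pow_mul, mul_comm e m, Int.cast_one, mul_one]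

theorem dc_minusK (h2 : (2 : F) ≠ 0) {e : ℕ} (he : Fintype.card F = 2 * e + 1) (m : ℕ) {a b : F}
    (hab : ∀ z₁ z₂ : F, z₁ ^ 2 + a * z₁ * z₂ + b * z₂ ^ 2 = 0 → z₁ = 0 ∧ z₂ = 0) :
    ((dc (minusForm m F a b) : ℤ) : AlgebraicClosure F) =
      (-1) ^ ((m + 1) * e) * ((-1 : ℤ) : AlgebraicClosure F) := by
  rw [dc_minus' h2 m hab, Int.cast_neg, Int.cast_pow, qc_eq h2 he, map_neg, map_one, ← pow_mul, mul_comm e (m + 1),
    Int.cast_neg, Int.cast_one, mul_neg_one]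

end Frm

/-- the exponents of the classes of a hyperplane -/
theorem ttor_plus {q n i : ℕ} (hn : 4 ≤ n) (hq : q % 2 = 1) (hq3 : 3 ≤ q) {δ : ℤ}
    (hi : (i = 2 * (n - 1) ∧ δ = -1) ∨ (i = n - 1 ∧ Odd (n - 1) ∧ δ = 1)) :
    TC (AN δ (n - 1) q / 2) (AN (δ * 1) 1 q / 2) (ttor (.oplus n) q i) := by
  have hg : Nat.gcd 2 (q - 1) = 2 := Nat.gcd_eq_left ⟨(q - 1) / 2, by omega⟩
  rcases hi with ⟨h1, rfl⟩ | ⟨h1, h2, rfl⟩
  · rcases Nat.even_or_odd (n - 1) with h3 | h3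
    · have h4 : n % 2 = 1 := by rw [Nat.even_iff] at h3; omega
      have h5 : ttor (.oplus n) q i = AN (-1) (n - 1) q * AN (-1 * 1) 1 q / Nat.gcd 4 (q ^ n - 1) := by
        rw [ttor, if_neg (by omega), if_neg (by omega), if_neg (by omega), AN_neg, mul_one, AN_neg, pow_one]
      rw [h5]
      refine tc_cop (Or.inr rfl) (Or.inl rfl) hq ?_ ?_
      · rw [mul_one, h3.neg_one_pow, neg_neg]
      · rw [Nat.sub_add_cancel (by omega), Nat.cast_sub (Nat.one_le_pow _ _ (by omega))]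
        push_cast
        ring
    · have h4 : n % 2 = 0 := by rw [Nat.odd_iff] at h3; omega
      have h5 : ttor (.oplus n) q i = AN (-1) (n - 1) q / 2 := by
        rw [ttor, if_neg (by omega), if_neg (by omega), if_pos h4, AN_neg, hg]
      rw [h5, mul_one]
      exact tc_div (Or.inr rfl) hq hq3 h3
  · have h5 : ttor (.oplus n) q i = AN 1 (n - 1) q / 2 := by
      rw [ttor, if_neg (by omega), if_pos h1, AN_one, hg]
    rw [h5, mul_one]
    exact tc_div (Or.inl rfl) hq hq3 h2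

theorem ttor_minus {q n i : ℕ} (hn : 4 ≤ n) (hq : q % 2 = 1) {δ : ℤ}
    (hi : (i = 2 * (n - 1) ∧ δ = -1) ∨ (i = n - 1 ∧ Odd (n - 1) ∧ δ = 1)) :
    TC (AN δ (n - 1) q / 2) (AN (δ * -1) 1 q / 2) (ttor (.ominus n) q i) := by
  rcases hi with ⟨h1, rfl⟩ | ⟨h1, h2, rfl⟩
  · have h5 : ttor (.ominus n) q i = AN (-1) (n - 1) q * AN (-1 * -1) 1 q / Nat.gcd 4 (q ^ n + 1) := by
      rw [ttor, if_neg (by omega), if_neg (by omega), AN_neg, show (-1 : ℤ) * -1 = 1 by norm_num, AN_one, pow_one]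
    rw [h5]
    refine tc_cop (Or.inr rfl) (Or.inr rfl) hq ?_ ?_
    · norm_num
    · rw [Nat.sub_add_cancel (by omega)]
      push_cast
      ring
  · have h5 : ttor (.ominus n) q i = AN 1 (n - 1) q * AN (1 * -1) 1 q / Nat.gcd 4 (q ^ n + 1) := by
      rw [ttor, if_neg (by omega), if_pos h1, AN_one, show (1 : ℤ) * -1 = -1 by norm_num, AN_neg, pow_one]
    rw [h5]
    refine tc_cop (Or.inl rfl) (Or.inr rfl) hq ?_ ?_
    · rw [one_mul, h2.neg_one_pow]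
    · rw [Nat.sub_add_cancel (by omega)]
      push_cast
      ring

end Cfsg.Agent.R2.Spec.P1
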