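import Cfsg.Agent.R2.Spec.P1.TopDef
import Cfsg.Agent.R2.Spec.X7.Top

/-!
# Team T3 (S3435), box P1b: the exact top tori of `PSL_n(q)`, `PSU_n(q)` (helper15)
-/

set_option autoImplicit false

namespace Cfsg.Agent.R2.Spec.P1

open Finset Function Cfsg Cfsg.Agent.H426.LieFam Cfsg.Agent.R2.Spec Cfsg.Agent.R2.Spec.X7
open Cfsg.Agent.H437.Win (pow_scalar scalar_of_map roots_ne_zero count_stable sg' sg'_injective)

universe u

/-- an element whose order is divisible by a prime of the class `n - 1` -/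
theorem sub_mat {F : Type*} [Field F] {K : Type*} [Field K] [IsAlgClosed K] [Algebra F K] {s : ℤ} {p t n : ℕ}
    [Fact p.Prime] [CharP K p] (ht : (s - 1).natAbs = t) (hn : 4 ≤ n)
    (A : Matrix (Fin n) (Fin n) F) (hdetA : A.det = 1) (hinj : Injective (zp s : K → K))
    [DecidableEq K]
    (hcs : ∀ x, (A.map (algebraMap F K)).charpoly.roots.count (zp s x) = (A.map (algebraMap F K)).charpoly.roots.count x)
    {r : ℕ} (hr : r.Prime) (hrp : r ≠ p) (hra : ∀ a, 1 ≤ a → a ≤ n → r ∣ ua s a → a = n - 1)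
    (hA : ∀ E, (∃ z : F, A ^ E = z • (1 : Matrix (Fin n) (Fin n) F)) → r ∣ E) :
    ∃ E, (∃ z : F, A ^ E = z • (1 : Matrix (Fin n) (Fin n) F)) ∧ E * Nat.gcd n t = ua s (n - 1) := by
  set Y : Matrix (Fin n) (Fin n) K := A.map (algebraMap F K) with hY
  have hdet : Y.det = 1 := by
    rw [hY, show A.map (algebraMap F K) = (algebraMap F K).mapMatrix A from rfl, ← RingHom.map_det, hdetA, map_one]
  set Λ := Y.charpoly.roots.toFinset with hΛ
  have hmem : ∀ x, x ∈ Λ ↔ 1 ≤ Y.charpoly.roots.count x := by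
    intro x
    rw [hΛ, Multiset.mem_toFinset, Multiset.one_le_count_iff_mem]
  have hst : Stab s Λ := by
    refine ⟨fun x hx => roots_ne_zero hdet (Multiset.mem_toFinset.1 hx), fun x hx => ?_⟩
    rw [hmem] at hx ⊢
    rw [hcs]
    exact hx
  have hsum : ∑ x ∈ Λ, Y.charpoly.roots.count x = n := by
    rw [hΛ, Multiset.toFinset_sum_count_eq, ← (IsAlgClosed.splits Y.charpoly).natDegree_eq_card_roots,
      Matrix.charpoly_natDegree_eq_dim, Fintype.card_fin]
  have hprod : ∏ x ∈ Λ, x ^ Y.charpoly.roots.count x = 1 := by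
    rw [hΛ, ← Finset.prod_multiset_count, ← Matrix.det_eq_prod_roots_charpoly, hdet]
  have key : ∀ k j : ℕ, (∃ z, ∀ x ∈ Λ, x ^ k = z) → (∀ x ∈ Λ, Y.charpoly.roots.count x ≤ p ^ j) →
      ∃ z : F, A ^ (k * p ^ j) = z • (1 : Matrix (Fin n) (Fin n) F) := by
    rintro k j ⟨z, hz⟩ hc
    exact scalar_of_map A (by omega) (pow_scalar Y (k := k) (s := j) (z := z)
      (fun x hx => hz x (Multiset.mem_toFinset.2 hx)) (fun x hx => hc x (Multiset.mem_toFinset.2 hx)))
  have hp := (Fact.out : p.Prime)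
  have hcount : ∀ x ∈ Λ, Y.charpoly.roots.count x ≤ n := by
    intro x hx
    exact (Finset.single_le_sum (f := fun x => Y.charpoly.roots.count x) (fun _ _ => Nat.zero_le _) hx).trans hsum.le
  have hcard : Λ.card ≤ n := by
    refine le_trans ?_ hsum.le
    rw [Finset.card_eq_sum_ones]
    exact Finset.sum_le_sum fun x hx => (hmem x).1 hx
  have hper_le : ∀ x ∈ Λ, minimalPeriod (zp s) x ≤ n := by
    intro x hx
    rw [← card_orb]
    exact (Finset.card_le_card (hst.orb_subset hx)).trans hcard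
  -- an eigenvalue of period `n - 1`
  obtain ⟨x, hx, hper⟩ : ∃ x ∈ Λ, minimalPeriod (zp s) x = n - 1 := by
    by_contra hcon
    push Not at hcon
    have h1 : ∀ x ∈ Λ, x ^ (∏ a ∈ (Finset.Icc 1 n).erase (n - 1), ua s a) = 1 := by
      intro x hx
      have h2 := pow_orb (hst.ne x hx) (hst.self_mem_orb hinj hx)
      obtain ⟨k, hk⟩ := Finset.dvd_prod_of_mem (fun a => ua s a)
        (Finset.mem_erase.2 ⟨hcon x hx, Finset.mem_Icc.2 ⟨hst.period hinj hx, hper_le x hx⟩⟩)
      rw [hk, pow_mul, h2, one_pow]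
    have h2 := hA _ (key _ n ⟨1, h1⟩ fun x hx => (hcount x hx).trans (Nat.lt_pow_self hp.one_lt).le)
    rcases (hr.dvd_mul).1 h2 with h3 | h3
    · obtain ⟨a, ha, h4⟩ := (Prime.dvd_finsetProd_iff (Nat.prime_iff.1 hr) _).1 h3
      rw [Finset.mem_erase, Finset.mem_Icc] at ha
      exact ha.1 (hra a ha.2.1 ha.2.2 h4)
    · exact hrp ((Nat.prime_dvd_prime_iff_eq hr hp).1 (hr.dvd_of_dvd_pow h3))
  have hsub := hst.orb_subset hx
  have hx0 := hst.ne x hx
  have horb : (orb s x).card = n - 1 := by rw [card_orb, hper]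
  have hcx : ∀ y ∈ orb s x, Y.charpoly.roots.count y = Y.charpoly.roots.count x := by
    intro y hy
    obtain ⟨i, -, rfl⟩ := mem_orb.1 hy
    clear hy
    induction i with
    | zero => rfl
    | succ i ih => rw [Function.iterate_succ_apply', hcs, ih]
  have hsplit : ∑ y ∈ orb s x, Y.charpoly.roots.count y + ∑ y ∈ Λ \ orb s x, Y.charpoly.roots.count y = n := by
    rw [add_comm, Finset.sum_sdiff hsub, hsum]
  rw [Finset.sum_congr rfl hcx, Finset.sum_const, horb, smul_eq_mul] at hsplit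
  have hc1 := (hmem x).1 hx
  have hcx1 : Y.charpoly.roots.count x = 1 := by
    by_contra hne
    have : 2 * (n - 1) ≤ (n - 1) * Y.charpoly.roots.count x := by
      rw [mul_comm]
      exact Nat.mul_le_mul_left _ (by omega)
    omega
  rw [hcx1, mul_one] at hsplit
  have hrest : ∑ y ∈ Λ \ orb s x, Y.charpoly.roots.count y = 1 := by omega
  obtain ⟨y, hy⟩ : (Λ \ orb s x).Nonempty := by
    by_contra hcon
    rw [Finset.not_nonempty_iff_eq_empty] at hcon
    rw [hcon, Finset.sum_empty] at hrest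
    omega
  have hΛy : Λ \ orb s x = {y} := by
    rw [Finset.eq_singleton_iff_unique_mem]
    refine ⟨hy, fun z hz => ?_⟩
    by_contra hne
    have h1 : ({z, y} : Finset K) ⊆ Λ \ orb s x := by
      intro w hw
      rw [Finset.mem_insert, Finset.mem_singleton] at hw
      rcases hw with rfl | rfl
      · exact hz
      · exact hy
    have h2 := Finset.sum_le_sum_of_subset (f := fun w => Y.charpoly.roots.count w) h1
    rw [Finset.sum_pair hne, hrest] at h2
    have h3 := (hmem z).1 (Finset.mem_sdiff.1 hz).1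
    have h4 := (hmem y).1 (Finset.mem_sdiff.1 hy).1
    omega
  have hcy : Y.charpoly.roots.count y = 1 := by
    rw [hΛy, Finset.sum_singleton] at hrest
    exact hrest
  have hy0 := hst.ne y (Finset.mem_sdiff.1 hy).1
  -- the exponent
  set c := Nat.gcd n t with hc
  obtain ⟨d, hd⟩ := Nat.gcd_dvd_right n t
  have hcn : c ∣ n := Nat.gcd_dvd_left _ _
  have hcs1 : (c : ℤ) ∣ s - 1 := Int.natCast_dvd.2 (by rw [ht]; exact Nat.gcd_dvd_right _ _)
  obtain ⟨e', he'⟩ : (c : ℤ) ∣ 1 + es s (n - 1) := by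
    have h1 := hcs1.trans (es_modEq s (n - 1))
    have h2 : (c : ℤ) ∣ n := by exact_mod_cast hcn
    have h3 := dvd_add h1 h2
    have h4 : es s (n - 1) - ((n - 1 : ℕ) : ℤ) + n = 1 + es s (n - 1) := by
      rw [Nat.cast_sub (by omega)]; push_cast; ring
    rwa [h4] at h3
  have hN1 : ua s (n - 1) = (es s (n - 1)).natAbs * (c * d) := by rw [ua_eq, ht, ← hd]
  have hxN : x ^ ua s (n - 1) = 1 := by
    have h1 := pow_orb hx0 (hst.self_mem_orb hinj hx)
    rwa [hper] at h1
  have hyx : y = x ^ (-es s (n - 1)) := by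
    have h1 : (∏ z ∈ orb s x, z ^ Y.charpoly.roots.count z) * ∏ z ∈ Λ \ orb s x, z ^ Y.charpoly.roots.count z = 1 := by
      rw [mul_comm, Finset.prod_sdiff hsub, hprod]
    have h2 : ∏ z ∈ orb s x, z ^ Y.charpoly.roots.count z = x ^ es s (n - 1) := by
      rw [← hper, ← prod_orb hx0]
      refine Finset.prod_congr rfl fun z hz => ?_
      rw [hcx z hz, hcx1, pow_one]
    rw [h2, hΛy, Finset.prod_singleton, hcy, pow_one] at h1
    rw [zpow_neg]
    exact eq_inv_of_mul_eq_one_right h1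
  have hzN : ∀ k : ℤ, x ^ ((ua s (n - 1) : ℤ) * k) = 1 := by
    intro k
    rw [zpow_mul, zpow_natCast, hxN, one_zpow]
  refine ⟨(es s (n - 1)).natAbs * d, ?_, ?_⟩
  · have h4 := key ((es s (n - 1)).natAbs * d) 0 ⟨x ^ ((es s (n - 1)).natAbs * d), ?_⟩ ?_
    · rw [pow_zero, mul_one] at h4
      exact h4
    · intro w hw
      by_cases hwo : w ∈ orb s x
      · obtain ⟨i, -, rfl⟩ := mem_orb.1 hwo
        have h5 := iter_zpow_eq (s := s) hx0 (W := (((es s (n - 1)).natAbs * d : ℕ) : ℤ)) ?_ i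
        · rw [zpow_natCast, zpow_natCast] at h5
          exact h5
        · rw [← zpow_mul]
          rcases Int.natAbs_eq (s - 1) with h6 | h6
          · rw [h6, ht, show (((es s (n - 1)).natAbs * d : ℕ) : ℤ) * (t : ℤ) = (ua s (n - 1) : ℤ) * d by
              rw [hN1, ← hd]; push_cast; ring]
            exact hzN _
          · rw [h6, ht, show (((es s (n - 1)).natAbs * d : ℕ) : ℤ) * (-(t : ℤ)) = (ua s (n - 1) : ℤ) * (-d) by
              rw [hN1, ← hd]; push_cast; ring]
            exact hzN _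
      · have hwy : w = y := by
          have : w ∈ Λ \ orb s x := Finset.mem_sdiff.2 ⟨hw, hwo⟩
          rw [hΛy, Finset.mem_singleton] at this
          exact this
        rw [hwy, hyx]
        have h6 : x ^ (((es s (n - 1)).natAbs * d : ℕ) : ℤ) =
            (x ^ (-es s (n - 1))) ^ (((es s (n - 1)).natAbs * d : ℕ) : ℤ) := by
          rw [← zpow_mul]
          have h7 : (((es s (n - 1)).natAbs * d : ℕ) : ℤ) = -es s (n - 1) * (((es s (n - 1)).natAbs * d : ℕ) : ℤ) +
              (ua s (n - 1) : ℤ) * e' := by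
            rw [hN1]
            push_cast
            linear_combination (|es s (n - 1)| * (d : ℤ)) * he'
          rw [h7, zpow_add₀ hx0, hzN, mul_one, ← h7]
        rw [zpow_natCast, zpow_natCast] at h6
        exact h6.symm
    · intro w hw
      rw [pow_zero]
      by_cases hwo : w ∈ orb s x
      · rw [hcx w hwo, hcx1]
      · have : w ∈ Λ \ orb s x := Finset.mem_sdiff.2 ⟨hw, hwo⟩
        rw [hΛy, Finset.mem_singleton] at this
        rw [this, hcy]
  · rw [hN1]; ring

/-- the matrix of an element -/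
def HasMat (F K : Type*) [Field F] [Field K] [Algebra F K] (s : ℤ) (n N : ℕ) : Prop :=
  Injective (zp s : K → K) ∧ ∃ A : Matrix (Fin n) (Fin n) F, A.det = 1 ∧
    (∀ [DecidableEq K] (x : K), (A.map (algebraMap F K)).charpoly.roots.count (zp s x) =
      (A.map (algebraMap F K)).charpoly.roots.count x) ∧
    ∀ E, (∃ z : F, A ^ E = z • (1 : Matrix (Fin n) (Fin n) F)) → N ∣ E

section

variable {F : Type*} [Field F] [Fintype F] {p f q n : ℕ} [Fact p.Prime] [CharP F p]

theorem hasMat_psl (hq : q = p ^ f) (hF : Fintype.card F = q) (g : Matrix.ProjectiveSpecialLinearGroup (Fin n) F) :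
    HasMat F (AlgebraicClosure F) (q : ℤ) n (orderOf g) := by
  classical
  obtain ⟨g, rfl⟩ := QuotientGroup.mk_surjective g
  set A : Matrix (Fin n) (Fin n) F := ((g : Matrix.SpecialLinearGroup (Fin n) F) : Matrix (Fin n) (Fin n) F) with hA
  let K := AlgebraicClosure F
  have hCP : CharP K p := charP_of_injective_algebraMap (algebraMap F K).injective p
  have hdetA : A.det = 1 := g.2
  have hzp : (zp (q : ℤ) : K → K) = fun x => x ^ q := by
    funext x
    rw [zp, zpow_natCast]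
  have hinj : Injective (zp (q : ℤ) : K → K) := by
    rw [hzp]
    intro x y hxy
    apply (iterateFrobenius K p f).injective
    rw [iterateFrobenius_def, iterateFrobenius_def, ← hq]
    exact hxy
  refine ⟨hinj, A, hdetA, ?_, ?_⟩
  · intro _ x
    set Y : Matrix (Fin n) (Fin n) K := A.map (algebraMap F K) with hY
    have h1 : (Y.map (iterateFrobenius K p f)).charpoly.roots = Y.charpoly.roots.map (iterateFrobenius K p f) := by
      rw [Matrix.charpoly_map]
      exact (IsAlgClosed.splits Y.charpoly).roots_map _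
    have h2 : Y.map (iterateFrobenius K p f) = Y := by
      ext i j
      rw [hY, Matrix.map_apply, Matrix.map_apply, iterateFrobenius_def, ← map_pow, ← hq, ← hF, FiniteField.pow_card]
    rw [h2] at h1
    have h3 : Multiset.count (iterateFrobenius K p f x) (Y.charpoly.roots.map (iterateFrobenius K p f)) =
        Y.charpoly.roots.count x := Multiset.count_map_eq_count' _ _ (iterateFrobenius K p f).injective x
    rw [← h1, iterateFrobenius_def, ← hq] at h3
    rw [hzp]
    exact h3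
  · rintro E ⟨z, hz⟩
    apply orderOf_dvd_of_pow_eq_one
    have h4 : g ^ E ∈ Subgroup.center (Matrix.SpecialLinearGroup (Fin n) F) := by
      rw [Subgroup.mem_center_iff]
      intro h
      apply Subtype.ext
      show (h : Matrix (Fin n) (Fin n) F) * ((g ^ E : Matrix.SpecialLinearGroup (Fin n) F) : Matrix (Fin n) (Fin n) F) =
        ((g ^ E : Matrix.SpecialLinearGroup (Fin n) F) : Matrix (Fin n) (Fin n) F) * (h : Matrix (Fin n) (Fin n) F)
      rw [Matrix.SpecialLinearGroup.coe_pow, ← hA, hz, Matrix.mul_smul, Matrix.smul_mul, Matrix.mul_one, Matrix.one_mul]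
    rw [← QuotientGroup.mk_pow]
    exact (QuotientGroup.eq_one_iff _).2 h4

omit [Fintype F] in
theorem hasMat_psu (hq : q = p ^ f) (g : PSU n F q) : HasMat F (AlgebraicClosure F) (-(q : ℤ)) n (orderOf g) := by
  classical
  have hp := (Fact.out : p.Prime)
  obtain ⟨g, rfl⟩ := QuotientGroup.mk_surjective g
  set A : Matrix (Fin n) (Fin n) F := ((g : Matrix.SpecialLinearGroup (Fin n) F) : Matrix (Fin n) (Fin n) F) with hA
  let K := AlgebraicClosure F
  have hCP : CharP K p := charP_of_injective_algebraMap (algebraMap F K).injective p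
  set Y : Matrix (Fin n) (Fin n) K := A.map (algebraMap F K) with hY
  have hdetA : A.det = 1 := (g : Matrix.SpecialLinearGroup (Fin n) F).2
  have hdet : Y.det = 1 := by
    rw [hY, show A.map (algebraMap F K) = (algebraMap F K).mapMatrix A from rfl, ← RingHom.map_det, hdetA, map_one]
  have hY1 : (Y.map (iterateFrobenius K p f)).charpoly = (Y⁻¹).charpoly := by
    have h1 := H149.PGU.charpoly_unitary hq g.2
    rw [← hA] at h1
    have h2 : Y.map (iterateFrobenius K p f) = (A.map (iterateFrobenius F p f)).map (algebraMap F K) := by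
      ext i j
      simp [hY, Matrix.map_apply, iterateFrobenius_def]
    have h3 : Y⁻¹ = (A⁻¹).map (algebraMap F K) := by
      apply Matrix.inv_eq_right_inv
      rw [hY, ← Matrix.map_mul, Matrix.mul_nonsing_inv _ (by rw [hdetA]; exact isUnit_one), Matrix.map_one _ (map_zero _) (map_one _)]
    rw [h2, h3, Matrix.charpoly_map, h1, Matrix.charpoly_map]
  have hzp : (zp (-(q : ℤ)) : K → K) = sg' q := by
    funext x
    rw [zp, zpow_neg, zpow_natCast, sg']
  have hinj : Injective (zp (-(q : ℤ)) : K → K) := by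
    rw [hzp]
    exact sg'_injective hq
  refine ⟨hinj, A, hdetA, ?_, ?_⟩
  · intro _ x
    rw [hzp]
    exact count_stable hq hdet hY1 x
  · rintro E ⟨z, hz⟩
    apply orderOf_dvd_of_pow_eq_one
    rw [← QuotientGroup.mk_pow, QuotientGroup.eq_one_iff, Subgroup.mem_center_iff]
    intro h
    apply Subtype.ext
    apply Subtype.ext
    show ((h : Matrix.SpecialLinearGroup (Fin n) F) : Matrix (Fin n) (Fin n) F) * A ^ E =
      A ^ E * ((h : Matrix.SpecialLinearGroup (Fin n) F) : Matrix (Fin n) (Fin n) F)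
    rw [hz, Matrix.mul_smul, Matrix.smul_mul, Matrix.mul_one, Matrix.one_mul]

end

/-- divisibility of `|s^a - 1|` by a prime of the class `i` -/
theorem dvd_ua_iff {s : ℤ} {r a : ℕ} : r ∣ ua s a ↔ orderOf ((s : ℤ) : ZMod r) ∣ a := by
  rw [ua, ← Int.natCast_dvd, ← ZMod.intCast_zmod_eq_zero_iff_dvd, orderOf_dvd_iff_pow_eq_one]
  push_cast
  exact sub_eq_zero

/-- **The upper bounds.** -/
theorem HasMat.ub {F : Type*} [Field F] [Fintype F] {s : ℤ} {p n N r : ℕ} [Fact p.Prime] [CharP F p]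
    (h : HasMat F (AlgebraicClosure F) s n N) {q t L : ℕ} (P : Par s q t L) (hr : r.Prime) (hrp : r ≠ p)
    (hrN : r ∣ N) (h3 : 3 ≤ orderOf ((s : ℤ) : ZMod r)) :
    (orderOf ((s : ℤ) : ZMod r) = n → ∃ E, N ∣ E ∧ E * (Nat.gcd n t * t) = ua s n) ∧
    (orderOf ((s : ℤ) : ZMod r) + 1 = n → ∃ E, N ∣ E ∧ E * Nat.gcd n t = ua s (n - 1)) := by
  classical
  have hCP : CharP (AlgebraicClosure F) p := charP_of_injective_algebraMap (algebraMap F (AlgebraicClosure F)).injective p
  obtain ⟨hinj, A, hdet, hcs, hA⟩ := h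
  constructor
  · intro ho
    obtain ⟨E, hz, hE⟩ := top_mat P (by omega) A hdet hinj hcs hr hrp (fun a ha1 ha2 hd => by
      rw [dvd_ua_iff, ho] at hd
      have := Nat.le_of_dvd ha1 hd
      omega) (fun E hE => hrN.trans (hA E hE))
    exact ⟨E, hA E hz, hE⟩
  · intro ho
    obtain ⟨E, hz, hE⟩ := sub_mat P.ht (by omega) A hdet hinj hcs hr hrp (fun a ha1 ha2 hd => by
      rw [dvd_ua_iff] at hd
      obtain ⟨k, hk⟩ := hd
      rcases k with _ | _ | k
      · omega
      · omega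
      · have : orderOf ((s : ℤ) : ZMod r) * 2 ≤ orderOf ((s : ℤ) : ZMod r) * (k + 1 + 1) :=
          Nat.mul_le_mul_left _ (by omega)
        omega) (fun E hE => hrN.trans (hA E hE))
    exact ⟨E, hA E hz, hE⟩

/-- powers -/
theorem exists_of_dvd {X : Type*} [Group X] [Finite X] {x : X} {N : ℕ} (h : N ∣ orderOf x) : ∃ y : X, orderOf y = N := by
  obtain ⟨k, hk⟩ := h
  have hpos := orderOf_pos x
  have hN : N ≠ 0 := by
    rintro rfl
    rw [zero_mul] at hk
    omega
  have hk0 : k ≠ 0 := by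
    rintro rfl
    rw [mul_zero] at hk
    omega
  refine ⟨x ^ k, ?_⟩
  rw [orderOf_pow_of_dvd hk0 (by rw [hk]; exact dvd_mul_left _ _), hk, Nat.mul_div_cancel _ (Nat.pos_of_ne_zero hk0)]

theorem gcd_mul_dvd_ua' {s : ℤ} {n t : ℕ} (ht : (s - 1).natAbs = t) : Nat.gcd n t * t ∣ ua s n := by
  rw [ua_eq, ht]
  apply Nat.mul_dvd_mul_right
  apply Int.natCast_dvd.1
  have h1 : ((Nat.gcd n t : ℕ) : ℤ) ∣ s - 1 := Int.natCast_dvd.2 (by rw [ht]; exact Nat.gcd_dvd_right _ _)
  have h2 := h1.trans (es_modEq s n)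
  have h3 : ((Nat.gcd n t : ℕ) : ℤ) ∣ n := by exact_mod_cast Nat.gcd_dvd_left n t
  have h4 := dvd_add h2 h3
  rwa [sub_add_cancel] at h4

theorem div_eq_of_mul {E a b : ℕ} (hb : 0 < b) (h : E * b = a) : a / b = E := by
  rw [← h, Nat.mul_div_cancel _ hb]

/-- **`PSL_n(q)`** -/
theorem top_facts_psl {p f n : ℕ} {X : Type u} [Group X] [Finite X] (hp : p.Prime) (hp2 : p ≠ 2)
    (h : Fam.Is p f X (.psl n)) : TopFacts (.psl n) p f X := by
  have hfp := Fact.mk hp
  obtain ⟨hn, -, F, _, _, hch, hF, ⟨e⟩⟩ := h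
  have hf : f ≠ 0 := by
    rintro rfl
    have := Fintype.one_lt_card (α := F)
    rw [hF] at this
    simp at this
  obtain ⟨q, hq⟩ : ∃ q, q = p ^ f := ⟨_, rfl⟩
  rw [← hq] at hF
  have hq3 : 3 ≤ q := by
    have h1 := Nat.le_self_pow hf p
    have h2 := hp.two_le
    omega
  have P := par_plus hq3
  have hg0 : 0 < Nat.gcd n (q - 1) := Nat.gcd_pos_of_pos_left _ (by omega)
  have hgt0 : 0 < Nat.gcd n (q - 1) * (q - 1) := Nat.mul_pos hg0 (by omega)
  have hgt0' : 0 < (q - 1) * Nat.gcd n (q - 1) := Nat.mul_pos (by omega) hg0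
  refine ⟨?_, ?_⟩
  · rintro i ⟨hi3, hi⟩
    rw [← hq]
    rcases hi with rfl | hi
    · obtain ⟨x, hx⟩ := Cfsg.Agent.H360.Iso.exists_top (F := F) (n := i) (by omega)
      rw [Nat.card_eq_fintype_card, hF, mul_assoc] at hx
      obtain ⟨E, hE⟩   := gcd_mul_dvd_ua' (s := (q : ℤ)) (n := i) P.ht
      rw [ua_plus (by omega)] at hE
      have h1 : ttor (.psl i) q i = E := by
        rw [ttor, if_pos rfl]
        exact div_eq_of_mul hgt0' (by rw [hE]; ring)
      rw [hE, mul_comm] at hx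
      obtain ⟨y, hy⟩ := exists_of_dvd (Nat.dvd_of_mul_dvd_mul_right hgt0 hx)
      exact ⟨e.symm y, by rw [h1, ← hy, MulEquiv.orderOf_eq]⟩
    · obtain ⟨m, rfl⟩ : ∃ m, n = m + 1 := ⟨n - 1, by omega⟩
      have him : i = m := by omega
      subst him
      obtain ⟨x, hx⟩ := Cfsg.Agent.H360.Iso.exists_sub (F := F) (m := i) (by omega)
      rw [Nat.card_eq_fintype_card, hF] at hx
      have hd : Nat.gcd (i + 1) (q - 1) ∣ q ^ i - 1 :=
        (Nat.gcd_dvd_right _ _).trans (Nat.sub_one_dvd_pow_sub_one q i)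
      obtain ⟨E, hE⟩ := hd
      have h1 : ttor (.psl (i + 1)) q i = E := by
        rw [ttor, if_neg (by omega), Nat.add_sub_cancel]
        exact div_eq_of_mul hg0 (by rw [hE]; ring)
      rw [hE, mul_comm] at hx
      obtain ⟨y, hy⟩ := exists_of_dvd (Nat.dvd_of_mul_dvd_mul_right hg0 hx)
      exact ⟨e.symm y, by rw [h1, ← hy, MulEquiv.orderOf_eq]⟩
  · intro r hr hrp hi x hx
    rw [← hq] at hi ⊢
    obtain ⟨hi3, hi⟩ := hi
    have hrp' : r ≠ p := fun h => hrp (by rw [h])
    rw [← MulEquiv.orderOf_eq e x] at hx ⊢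
    have hM := (hasMat_psl hq hF (e x)).ub P hr hrp' hx hi3
    change cls (.psl n) q r = n ∨ cls (.psl n) q r + 1 = n at hi
    rcases hi with hi | hi
    · obtain ⟨E, h1, h2⟩ := hM.1 hi
      rw [ua_plus (by omega)] at h2
      rw [ttor, if_pos hi, div_eq_of_mul (E := E) hgt0' (by rw [← h2]; ring)]
      exact h1
    · obtain ⟨E, h1, h2⟩ := hM.2 hi
      rw [ua_plus (by omega)] at h2
      rw [ttor, if_neg (by omega), div_eq_of_mul hg0 h2]
      exact h1

/-- **`PSU_n(q)`** -/
theorem top_facts_psu {p f n : ℕ} {X : Type u} [Group X] [Finite X] (hp : p.Prime) (hp2 : p ≠ 2)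
    (h : Fam.Is p f X (.psu n)) : TopFacts (.psu n) p f X := by
  have hfp := Fact.mk hp
  obtain ⟨hn, -, F, _, _, hch, hF, ⟨e0⟩⟩ := h
  have e : X ≃* PSU n F (p ^ f) := e0
  clear e0
  have hf : f ≠ 0 := by
    rintro rfl
    have := Fintype.one_lt_card (α := F)
    rw [hF] at this
    simp at this
  generalize hq : p ^ f = q at hF e
  replace hq := hq.symm
  have hq3 : 3 ≤ q := by
    have h1 := Nat.le_self_pow hf p
    have h2 := hp.two_le
    omega
  have P := par_minus hq3
  have hg0 : 0 < Nat.gcd n (q + 1) := Nat.gcd_pos_of_pos_left _ (by omega)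
  have hgt0 : 0 < Nat.gcd n (q + 1) * (q + 1) := Nat.mul_pos hg0 (by omega)
  have hgt0' : 0 < (q + 1) * Nat.gcd n (q + 1) := Nat.mul_pos (by omega) hg0
  have hN : ∀ m : ℕ, ua (-(q : ℤ)) m = if m % 2 = 0 then q ^ m - 1 else q ^ m + 1 := by
    intro m
    split_ifs with hm
    · exact ua_minus_even (by omega) (Nat.even_iff.2 hm)
    · exact ua_minus_odd (Nat.odd_iff.2 (by omega))
  have hph : ∀ m : ℕ, 1 ≤ m → Cfsg.Agent.H948.UProd.ph q (m - 1) = ua (-(q : ℤ)) m := by
    intro m hm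
    rw [hN, Cfsg.Agent.H948.UProd.ph, Nat.sub_add_cancel hm]
    by_cases h2 : m % 2 = 0
    · rw [if_pos h2, if_neg (by rw [Nat.even_iff]; omega)]
    · rw [if_neg h2, if_pos (by rw [Nat.even_iff]; omega)]
  have hN1 : ua (-(q : ℤ)) (n - 1) = if n % 2 = 0 then q ^ (n - 1) + 1 else q ^ (n - 1) - 1 := by
    rw [hN]
    by_cases h2 : n % 2 = 0
    · rw [if_pos h2, if_neg (by omega)]
    · rw [if_neg h2, if_pos (by omega)]
  refine ⟨?_, ?_⟩
  · rintro i ⟨hi3, hi⟩
    rw [← hq]
    rcases hi with rfl | hi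
    · obtain ⟨x, hx⟩ := Cfsg.Agent.H360.Iso.exists_topU (F := F) hF hn
      rw [hph _ (by omega), mul_assoc] at hx
      obtain ⟨E, hE⟩ := gcd_mul_dvd_ua' (s := -(q : ℤ)) (n := i) P.ht
      have h1 : ttor (.psu i) q i = E := by
        rw [ttor, if_pos rfl, ← hN]
        exact div_eq_of_mul hgt0' (by rw [hE]; ring)
      rw [hE, mul_comm] at hx
      obtain ⟨y, hy⟩ := exists_of_dvd (Nat.dvd_of_mul_dvd_mul_right hgt0 hx)
      exact ⟨e.symm y, by rw [h1, ← hy, MulEquiv.orderOf_eq]⟩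
    · obtain ⟨x, hx⟩ := Cfsg.Agent.H360.Iso.exists_subU (F := F) hF hn
      rw [show n - 2 = n - 1 - 1 by omega, hph _ (by omega)] at hx
      obtain ⟨E, hE⟩ := (Nat.gcd_dvd_right n (q + 1)).trans (P.dvd (n - 1))
      have h1 : ttor (.psu n) q i = E := by
        rw [ttor, if_neg (by omega), ← hN1]
        exact div_eq_of_mul hg0 (by rw [hE]; ring)
      rw [hE, mul_comm] at hx
      obtain ⟨y, hy⟩ := exists_of_dvd (Nat.dvd_of_mul_dvd_mul_right hg0 hx)
      exact ⟨e.symm y, by rw [h1, ← hy, MulEquiv.orderOf_eq]⟩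
  · intro r hr hrp hi x hx
    rw [← hq] at hi ⊢
    obtain ⟨hi3, hi⟩ := hi
    have hrp' : r ≠ p := fun h => hrp (by rw [h])
    rw [← MulEquiv.orderOf_eq e x] at hx ⊢
    have hM := (hasMat_psu hq (e x)).ub P hr hrp' hx hi3
    change cls (.psu n) q r = n ∨ cls (.psu n) q r + 1 = n at hi
    rcases hi with hi | hi
    · obtain ⟨E, h1, h2⟩ := hM.1 hi
      rw [hN] at h2
      rw [ttor, if_pos hi, div_eq_of_mul (E := E) hgt0' (by rw [← h2]; ring)]
      exact h1
    · obtain ⟨E, h1, h2⟩ := hM.2 hi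
      rw [hN1] at h2
      rw [ttor, if_neg (by omega), div_eq_of_mul hg0 h2]
      exact h1

end Cfsg.Agent.R2.Spec.P1
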