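import Cfsg.Agent.R2.Spec.P1.TopLin

/-!
# Team T3 (S3435), box P1b: the exact top tori of `PSL_n(q)`, `PSU_n(q)`, every `q` (helper15)
-/

set_option autoImplicit false

namespace Cfsg.Agent.R2.Spec.P1

open Finset Function Cfsg Cfsg.Agent.H426.LieFam Cfsg.Agent.R2.Spec Cfsg.Agent.R2.Spec.X7
open Cfsg.Agent.H437.Win (pow_scalar scalar_of_map roots_ne_zero count_stable sg' sg'_injective)

universe u

theorem dvd_ua_all {s : ℤ} {t : ℕ} (ht : (s - 1).natAbs = t) (m : ℕ) : t ∣ ua s m := by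
  rw [ua_eq, ht]
  exact dvd_mul_left _ _

/-- an element whose order is divisible by a prime of the class `n` -/
theorem top_mat_all {F : Type*} [Field F] {K : Type*} [Field K] [IsAlgClosed K] [Algebra F K] {s : ℤ} {p t n : ℕ}
    [Fact p.Prime] [CharP K p] (ht : (s - 1).natAbs = t) (hn : 1 ≤ n)
    (A : Matrix (Fin n) (Fin n) F) (hdetA : A.det = 1) (hinj : Injective (zp s : K → K))
    [DecidableEq K]
    (hcs : ∀ x, (A.map (algebraMap F K)).charpoly.roots.count (zp s x) = (A.map (algebraMap F K)).charpoly.roots.count x)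
    {r : ℕ} (hr : r.Prime) (hrp : r ≠ p) (hra : ∀ a, 1 ≤ a → a < n → ¬ r ∣ ua s a)
    (hA : ∀ E, (∃ z : F, A ^ E = z • (1 : Matrix (Fin n) (Fin n) F)) → r ∣ E) :
    ∃ E, (∃ z : F, A ^ E = z • (1 : Matrix (Fin n) (Fin n) F)) ∧ E * (Nat.gcd n t * t) = ua s n := by
  set Y : Matrix (Fin n) (Fin n) K := A.map (algebraMap F K) with hY
  have hdet : Y.det = 1 := by
    rw [hY, show A.map (algebraMap F K) = (algebraMap F K).mapMatrix A from rfl, ← RingHom.map_det, hdetA, map_one]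
  set Λ := Y.charpoly.roots.toFinset with hΛ
  have hmem : ∀ x, x ∈ Λ ↔ 1 ≤ Y.charpoly.roots.count x := by
    intro x
    rw [hΛ, Multiset.mem_toFinset, Multiset.one_le_count_iff_mem]
  have hst : Stab s Λ := by
    refine ⟨fun x hx => roots_ne_zero hdet (Multiset.mem_toFinset.1 hx), fun x hx => ?_⟩
    rw [hmem] at hx ⊢
    rw [hcs]
    exact hx
  have hsum : ∑ x ∈ Λ, Y.charpoly.roots.count x = n := by
    rw [hΛ, Multiset.toFinset_sum_count_eq, ← (IsAlgClosed.splits Y.charpoly).natDegree_eq_card_roots,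
      Matrix.charpoly_natDegree_eq_dim, Fintype.card_fin]
  have hprod : ∏ x ∈ Λ, x ^ Y.charpoly.roots.count x = 1 := by
    rw [hΛ, ← Finset.prod_multiset_count, ← Matrix.det_eq_prod_roots_charpoly, hdet]
  have key : ∀ k j : ℕ, (∃ z, ∀ x ∈ Λ, x ^ k = z) → (∀ x ∈ Λ, Y.charpoly.roots.count x ≤ p ^ j) →
      ∃ z : F, A ^ (k * p ^ j) = z • (1 : Matrix (Fin n) (Fin n) F) := by
    rintro k j ⟨z, hz⟩ hc
    exact scalar_of_map A hn (pow_scalar Y (k := k) (s := j) (z := z)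
      (fun x hx => hz x (Multiset.mem_toFinset.2 hx)) (fun x hx => hc x (Multiset.mem_toFinset.2 hx)))
  have hp := (Fact.out : p.Prime)
  have hcount : ∀ x ∈ Λ, Y.charpoly.roots.count x ≤ n := by
    intro x hx
    exact (Finset.single_le_sum (f := fun x => Y.charpoly.roots.count x) (fun _ _ => Nat.zero_le _) hx).trans hsum.le
  -- an eigenvalue of period `n`
  obtain ⟨x, hx, hxn⟩ : ∃ x ∈ Λ, n ≤ minimalPeriod (zp s) x := by
    by_contra hcon
    push Not at hcon
    have h1 : ∀ x ∈ Λ, x ^ (∏ a ∈ Finset.Ico 1 n, ua s a) = 1 := by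
      intro x hx
      have h2 := pow_orb (hst.ne x hx) (hst.self_mem_orb hinj hx)
      obtain ⟨k, hk⟩ := Finset.dvd_prod_of_mem (fun a => ua s a)
        (Finset.mem_Ico.2 ⟨hst.period hinj hx, hcon x hx⟩)
      rw [hk, pow_mul, h2, one_pow]
    have h2 := hA _ (key _ n ⟨1, h1⟩ fun x hx => (hcount x hx).trans (Nat.lt_pow_self hp.one_lt).le)
    rcases (hr.dvd_mul).1 h2 with h3 | h3
    · obtain ⟨a, ha, h4⟩ := (Prime.dvd_finsetProd_iff (Nat.prime_iff.1 hr) _).1 h3
      rw [Finset.mem_Ico] at ha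
      exact hra a ha.1 ha.2 h4
    · exact hrp ((Nat.prime_dvd_prime_iff_eq hr hp).1 (hr.dvd_of_dvd_pow h3))
  have hcard : Λ.card ≤ n := by
    refine le_trans ?_ hsum.le
    rw [Finset.card_eq_sum_ones]
    exact Finset.sum_le_sum fun x hx => (hmem x).1 hx
  have hsub := hst.orb_subset hx
  have horb : (orb s x).card ≤ Λ.card := Finset.card_le_card hsub
  rw [card_orb] at horb
  have hper : minimalPeriod (zp s) x = n := le_antisymm (horb.trans hcard) hxn
  have hΛx : Λ = orb s x := (Finset.eq_of_subset_of_card_le hsub (by rw [card_orb, hper]; exact hcard)).symm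
  have hcardn : Λ.card = n := by rw [hΛx, card_orb, hper]
  have hm : ∀ y ∈ Λ, Y.charpoly.roots.count y = 1 := by
    have h1 : ∑ x ∈ Λ, 1 = ∑ x ∈ Λ, Y.charpoly.roots.count x := by
      rw [hsum, ← Finset.card_eq_sum_ones, hcardn]
    intro y hy
    exact ((Finset.sum_eq_sum_iff_of_le (fun x hx => (hmem x).1 hx)).1 h1 y hy).symm
  have hx0 := hst.ne x hx
  have hcn : Nat.gcd n t ∣ n := Nat.gcd_dvd_left _ _
  obtain ⟨d, hd⟩ := Nat.gcd_dvd_right n t
  set c := Nat.gcd n t with hc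
  obtain ⟨d', hd'⟩ : ∃ d' : ℤ, s - 1 = c * d' := by
    have h1 : ((s - 1).natAbs : ℤ) = (c * d : ℕ) := by rw [ht, ← hd]
    rcases Int.natAbs_eq (s - 1) with h2 | h2
    · refine ⟨d, ?_⟩
      rw [h2, h1]; push_cast; ring
    · refine ⟨-d, ?_⟩
      rw [h2, h1]; push_cast; ring
  have hdvd : ∀ X : ℤ, (s - 1) ∣ X - n → (c : ℤ) ∣ X := by
    intro X hX
    have h1 : (c : ℤ) ∣ X - n := (Dvd.intro _ hd'.symm).trans hX
    have h2 : (c : ℤ) ∣ n := by exact_mod_cast hcn
    have := dvd_add h1 h2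
    rwa [sub_add_cancel] at this
  obtain ⟨e, he⟩ := hdvd (es s n) (es_modEq s n)
  have h1 : x ^ es s n = 1 := by
    have hpo := prod_orb (s := s) hx0
    rw [hper, ← hΛx] at hpo
    rw [← hpo, ← hprod]
    apply Finset.prod_congr rfl
    intro z hz
    rw [hm z hz, pow_one]
  have h2 : (x ^ e) ^ (s - 1) = 1 := by
    rw [← zpow_mul, hd', ← mul_assoc, mul_comm e, ← he, zpow_mul, h1, one_zpow]
  have h3 : ∀ t ∈ Λ, t ^ e = x ^ e := by
    intro t ht
    rw [hΛx] at ht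
    obtain ⟨i, -, rfl⟩ := mem_orb.1 ht
    exact iter_zpow_eq hx0 h2 i
  have h4 := key e.natAbs 0 (pow_natAbs_of_zpow h3) (fun t ht => by rw [hm t ht]; simp)
  rw [pow_zero, mul_one] at h4
  refine ⟨e.natAbs, h4, ?_⟩
  rw [ua_eq, he, Int.natAbs_mul, Int.natAbs_natCast, ht]
  ring

/-- **The upper bounds.** -/
theorem HasMat.ub_all {F : Type*} [Field F] [Fintype F] {s : ℤ} {p n N r : ℕ} [Fact p.Prime] [CharP F p]
    (h : HasMat F (AlgebraicClosure F) s n N) {t : ℕ} (ht : (s - 1).natAbs = t) (hr : r.Prime) (hrp : r ≠ p)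
    (hrN : r ∣ N) (h3 : 3 ≤ orderOf ((s : ℤ) : ZMod r)) :
    (orderOf ((s : ℤ) : ZMod r) = n → ∃ E, N ∣ E ∧ E * (Nat.gcd n t * t) = ua s n) ∧
    (orderOf ((s : ℤ) : ZMod r) + 1 = n → ∃ E, N ∣ E ∧ E * Nat.gcd n t = ua s (n - 1)) := by
  classical
  have hCP : CharP (AlgebraicClosure F) p := charP_of_injective_algebraMap (algebraMap F (AlgebraicClosure F)).injective p
  obtain ⟨hinj, A, hdet, hcs, hA⟩ := h
  constructor
  · intro ho
    obtain ⟨E, hz, hE⟩ := top_mat_all ht (by omega) A hdet hinj hcs hr hrp (fun a ha1 ha2 hd => by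
      rw [dvd_ua_iff, ho] at hd
      have := Nat.le_of_dvd ha1 hd
      omega) (fun E hE => hrN.trans (hA E hE))
    exact ⟨E, hA E hz, hE⟩
  · intro ho
    obtain ⟨E, hz, hE⟩ := sub_mat ht (by omega) A hdet hinj hcs hr hrp (fun a ha1 ha2 hd => by
      rw [dvd_ua_iff] at hd
      obtain ⟨k, hk⟩ := hd
      rcases k with _ | _ | k
      · omega
      · omega
      · have : orderOf ((s : ℤ) : ZMod r) * 2 ≤ orderOf ((s : ℤ) : ZMod r) * (k + 1 + 1) :=
          Nat.mul_le_mul_left _ (by omega)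
        omega) (fun E hE => hrN.trans (hA E hE))
    exact ⟨E, hA E hz, hE⟩

/-- **`PSL_n(q)`** -/
theorem top_facts_psl_all {p f n : ℕ} {X : Type u} [Group X] [Finite X] (hp : p.Prime)
    (h : Fam.Is p f X (.psl n)) : TopFacts (.psl n) p f X := by
  have hfp := Fact.mk hp
  obtain ⟨hn, -, F, _, _, hch, hF, ⟨e⟩⟩ := h
  have hf : f ≠ 0 := by
    rintro rfl
    have := Fintype.one_lt_card (α := F)
    rw [hF] at this
    simp at this
  obtain ⟨q, hq⟩ : ∃ q, q = p ^ f := ⟨_, rfl⟩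
  rw [← hq] at hF
  have hq2 : 2 ≤ q := by
    have h1 := Nat.le_self_pow hf p
    have h2 := hp.two_le
    omega
  have ht : ((q : ℤ) - 1).natAbs = q - 1 := by
    have := ua_plus (q := q) (by omega) 1
    rwa [ua, pow_one, pow_one] at this
  have hg0 : 0 < Nat.gcd n (q - 1) := Nat.gcd_pos_of_pos_left _ (by omega)
  have hgt0 : 0 < Nat.gcd n (q - 1) * (q - 1) := Nat.mul_pos hg0 (by omega)
  have hgt0' : 0 < (q - 1) * Nat.gcd n (q - 1) := Nat.mul_pos (by omega) hg0
  refine ⟨?_, ?_⟩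
  · rintro i ⟨hi3, hi⟩
    rw [← hq]
    rcases hi with rfl | hi
    · obtain ⟨x, hx⟩ := Cfsg.Agent.H360.Iso.exists_top (F := F) (n := i) (by omega)
      rw [Nat.card_eq_fintype_card, hF, mul_assoc] at hx
      obtain ⟨E, hE⟩   := gcd_mul_dvd_ua' (s := (q : ℤ)) (n := i) ht
      rw [ua_plus (by omega)] at hE
      have h1 : ttor (.psl i) q i = E := by
        rw [ttor, if_pos rfl]
        exact div_eq_of_mul hgt0' (by rw [hE]; ring)
      rw [hE, mul_comm] at hx
      obtain ⟨y, hy⟩ := exists_of_dvd (Nat.dvd_of_mul_dvd_mul_right hgt0 hx)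
      exact ⟨e.symm y, by rw [h1, ← hy, MulEquiv.orderOf_eq]⟩
    · obtain ⟨m, rfl⟩ : ∃ m, n = m + 1 := ⟨n - 1, by omega⟩
      have him : i = m := by omega
      subst him
      obtain ⟨x, hx⟩ := Cfsg.Agent.H360.Iso.exists_sub (F := F) (m := i) (by omega)
      rw [Nat.card_eq_fintype_card, hF] at hx
      have hd : Nat.gcd (i + 1) (q - 1) ∣ q ^ i - 1 :=
        (Nat.gcd_dvd_right _ _).trans (Nat.sub_one_dvd_pow_sub_one q i)
      obtain ⟨E, hE⟩ := hd
      have h1 : ttor (.psl (i + 1)) q i = E := by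
        rw [ttor, if_neg (by omega), Nat.add_sub_cancel]
        exact div_eq_of_mul hg0 (by rw [hE]; ring)
      rw [hE, mul_comm] at hx
      obtain ⟨y, hy⟩ := exists_of_dvd (Nat.dvd_of_mul_dvd_mul_right hg0 hx)
      exact ⟨e.symm y, by rw [h1, ← hy, MulEquiv.orderOf_eq]⟩
  · intro r hr hrp hi x hx
    rw [← hq] at hi ⊢
    obtain ⟨hi3, hi⟩ := hi
    have hrp' : r ≠ p := fun h => hrp (by rw [h])
    rw [← MulEquiv.orderOf_eq e x] at hx ⊢
    have hM := (hasMat_psl hq hF (e x)).ub_all ht hr hrp' hx hi3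
    change cls (.psl n) q r = n ∨ cls (.psl n) q r + 1 = n at hi
    rcases hi with hi | hi
    · obtain ⟨E, h1, h2⟩ := hM.1 hi
      rw [ua_plus (by omega)] at h2
      rw [ttor, if_pos hi, div_eq_of_mul (E := E) hgt0' (by rw [← h2]; ring)]
      exact h1
    · obtain ⟨E, h1, h2⟩ := hM.2 hi
      rw [ua_plus (by omega)] at h2
      rw [ttor, if_neg (by omega), div_eq_of_mul hg0 h2]
      exact h1

/-- **`PSU_n(q)`** -/
theorem top_facts_psu_all {p f n : ℕ} {X : Type u} [Group X] [Finite X] (hp : p.Prime)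
    (h : Fam.Is p f X (.psu n)) : TopFacts (.psu n) p f X := by
  have hfp := Fact.mk hp
  obtain ⟨hn, -, F, _, _, hch, hF, ⟨e0⟩⟩ := h
  have e : X ≃* PSU n F (p ^ f) := e0
  clear e0
  have hf : f ≠ 0 := by
    rintro rfl
    have := Fintype.one_lt_card (α := F)
    rw [hF] at this
    simp at this
  generalize hq : p ^ f = q at hF e
  replace hq := hq.symm
  have hq2 : 2 ≤ q := by
    have h1 := Nat.le_self_pow hf p
    have h2 := hp.two_le
    omega
  have ht : (-(q : ℤ) - 1).natAbs = q + 1 := by omega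
  have hg0 : 0 < Nat.gcd n (q + 1) := Nat.gcd_pos_of_pos_left _ (by omega)
  have hgt0 : 0 < Nat.gcd n (q + 1) * (q + 1) := Nat.mul_pos hg0 (by omega)
  have hgt0' : 0 < (q + 1) * Nat.gcd n (q + 1) := Nat.mul_pos (by omega) hg0
  have hN : ∀ m : ℕ, ua (-(q : ℤ)) m = if m % 2 = 0 then q ^ m - 1 else q ^ m + 1 := by
    intro m
    split_ifs with hm
    · exact ua_minus_even (by omega) (Nat.even_iff.2 hm)
    · exact ua_minus_odd (Nat.odd_iff.2 (by omega))
  have hph : ∀ m : ℕ, 1 ≤ m → Cfsg.Agent.H948.UProd.ph q (m - 1) = ua (-(q : ℤ)) m := by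
    intro m hm
    rw [hN, Cfsg.Agent.H948.UProd.ph, Nat.sub_add_cancel hm]
    by_cases h2 : m % 2 = 0
    · rw [if_pos h2, if_neg (by rw [Nat.even_iff]; omega)]
    · rw [if_neg h2, if_pos (by rw [Nat.even_iff]; omega)]
  have hN1 : ua (-(q : ℤ)) (n - 1) = if n % 2 = 0 then q ^ (n - 1) + 1 else q ^ (n - 1) - 1 := by
    rw [hN]
    by_cases h2 : n % 2 = 0
    · rw [if_pos h2, if_neg (by omega)]
    · rw [if_neg h2, if_pos (by omega)]
  refine ⟨?_, ?_⟩
  · rintro i ⟨hi3, hi⟩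
    rw [← hq]
    rcases hi with rfl | hi
    · obtain ⟨x, hx⟩ := Cfsg.Agent.H360.Iso.exists_topU (F := F) hF hn
      rw [hph _ (by omega), mul_assoc] at hx
      obtain ⟨E, hE⟩ := gcd_mul_dvd_ua' (s := -(q : ℤ)) (n := i) ht
      have h1 : ttor (.psu i) q i = E := by
        rw [ttor, if_pos rfl, ← hN]
        exact div_eq_of_mul hgt0' (by rw [hE]; ring)
      rw [hE, mul_comm] at hx
      obtain ⟨y, hy⟩ := exists_of_dvd (Nat.dvd_of_mul_dvd_mul_right hgt0 hx)
      exact ⟨e.symm y, by rw [h1, ← hy, MulEquiv.orderOf_eq]⟩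
    · obtain ⟨x, hx⟩ := Cfsg.Agent.H360.Iso.exists_subU (F := F) hF hn
      rw [show n - 2 = n - 1 - 1 by omega, hph _ (by omega)] at hx
      obtain ⟨E, hE⟩ := (Nat.gcd_dvd_right n (q + 1)).trans (dvd_ua_all ht (n - 1))
      have h1 : ttor (.psu n) q i = E := by
        rw [ttor, if_neg (by omega), ← hN1]
        exact div_eq_of_mul hg0 (by rw [hE]; ring)
      rw [hE, mul_comm] at hx
      obtain ⟨y, hy⟩ := exists_of_dvd (Nat.dvd_of_mul_dvd_mul_right hg0 hx)
      exact ⟨e.symm y, by rw [h1, ← hy, MulEquiv.orderOf_eq]⟩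
  · intro r hr hrp hi x hx
    rw [← hq] at hi ⊢
    obtain ⟨hi3, hi⟩ := hi
    have hrp' : r ≠ p := fun h => hrp (by rw [h])
    rw [← MulEquiv.orderOf_eq e x] at hx ⊢
    have hM := (hasMat_psu hq (e x)).ub_all ht hr hrp' hx hi3
    change cls (.psu n) q r = n ∨ cls (.psu n) q r + 1 = n at hi
    rcases hi with hi | hi
    · obtain ⟨E, h1, h2⟩ := hM.1 hi
      rw [hN] at h2
      rw [ttor, if_pos hi, div_eq_of_mul (E := E) hgt0' (by rw [← h2]; ring)]
      exact h1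
    · obtain ⟨E, h1, h2⟩ := hM.2 hi
      rw [hN1] at h2
      rw [ttor, if_neg (by omega), div_eq_of_mul hg0 h2]
      exact h1

end Cfsg.Agent.R2.Spec.P1
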