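import Cfsg.Agent.R2.Spec.P1.TopGeo
import Cfsg.Agent.R2.Spec.P1.TopDef

/-!
# Team T3 (S3435), box P1b: orders of the elements, `PΩ` (helper15)
-/

set_option autoImplicit false
set_option linter.unusedSectionVars false

namespace Cfsg.Agent.R2.Spec.P1.Eig

open QuadraticMap Module Polynomial Cfsg
open Cfsg.Agent.LieClassical.OrthCore Cfsg.Agent.LieClassical.OrthFinite Cfsg.Agent.LieClassical.OrthForms
  Cfsg.Agent.H160.QSpin Cfsg.Agent.H160.QDisc Cfsg.Agent.H160.QSplit Cfsg.Agent.H160.QFinal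
open Cfsg.Agent.H160.QRoots Cfsg.Agent.H160.QChar

section

variable {F V : Type*} [Field F] [AddCommGroup V] [Module F V] [FiniteDimensional F V]

theorem pow_of_rts {f : Module.End F V} {N : ℕ} (h : f ^ N = 1) {x : AlgebraicClosure F} (hx : x ∈ rts f) :
    x ^ N = 1 := by
  classical
  let b := finBasis F V
  set M := LinearMap.toMatrix b b f with hM
  set Y : Matrix (Fin (finrank F V)) (Fin (finrank F V)) (AlgebraicClosure F) :=
    (algebraMap F (AlgebraicClosure F)).mapMatrix M with hY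
  have h1 : Y.charpoly.roots = rts f := by
    rw [hY, RingHom.mapMatrix_apply, Matrix.charpoly_map, hM, LinearMap.charpoly_toMatrix]
    rfl
  have hpos : 0 < finrank F V := by
    rw [← card_rts f]
    exact Multiset.card_pos_iff_exists_mem.2 ⟨x, hx⟩
  have hne : Nonempty (Fin (finrank F V)) := ⟨⟨0, hpos⟩⟩
  have hYN : Y ^ N = 1 := by
    rw [hY, ← map_pow, hM, LinearMap.toMatrix_pow, h, LinearMap.toMatrix_one, map_one]
  rw [← h1, mem_roots (Matrix.charpoly_monic Y).ne_zero] at hx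
  have h2 := Matrix.mem_spectrum_iff_isRoot_charpoly.2 hx
  have h3 := spectrum.pow_mem_pow Y N h2
  rw [hYN, spectrum.one_eq] at h3
  exact h3

/-- **An eigenvalue of order divisible by `r`.** -/
theorem exists_eig {p : ℕ} [hp : Fact p.Prime] [CharP F p] {f : Module.End F V} {N r : ℕ} (hN : 0 < N)
    (hf : f ^ N = 1) (hmin : ∀ k, f ^ k = 1 → N ∣ k) (hr : r.Prime) (hrp : r ≠ p) (hrN : r ∣ N) :
    ∃ x ∈ rts f, ∃ k, x ^ k ≠ 1 ∧ (x ^ k) ^ r = 1 := by
  classical
  obtain ⟨k, hk⟩ := hrN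
  by_contra hcon
  push Not at hcon
  have h1 : ∀ x ∈ rts f, x ^ k = 1 := by
    intro x hx
    by_contra h2
    refine hcon x hx k h2 ?_
    rw [← pow_mul, mul_comm, ← hk]
    exact pow_of_rts hf hx
  have h2 : f ^ (k * p ^ finrank F V) = 1 := by
    refine pow_eq_one_of_bd (M := finrank F V) (N := k) (c := finrank F V) ⟨?_, h1⟩ (Nat.lt_pow_self hp.out.one_lt).le
    intro x
    refine (Multiset.count_le_card _ _).trans ?_
    rw [card_rts]
  have h3 := hmin _ h2
  have hk0 : 0 < k := by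
    rcases Nat.eq_zero_or_pos k with h | h
    · rw [h, mul_zero] at hk; omega
    · exact h
  rw [hk, mul_comm r k] at h3
  have h4 := Nat.dvd_of_mul_dvd_mul_left hk0 h3
  exact hrp ((Nat.prime_dvd_prime_iff_eq hr hp.out).1 (hr.dvd_of_dvd_pow h4))

end

section POm

variable {F : Type*} [Field F] [Finite F] {ι : Type} [Fintype ι] [DecidableEq ι]

theorem lin_apply (Q : QuadraticForm F (ι → F)) (g : Cfsg.Omega F ⇑Q) (v : ι → F) :
    lin Q g v = (((g : Cfsg.isometryGroup F ⇑Q) : Matrix.GeneralLinearGroup ι F) : Matrix ι ι F).mulVec v := rfl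

/-- lifting an element of `PΩ` -/
theorem lift_pomega (h2 : (2 : F) ≠ 0) {Q : QuadraticForm F (ι → F)} (hQ : Nondeg Q) (hd : 5 ≤ Fintype.card ι)
    (x : POmega F ⇑Q) : ∃ g : (ι → F) ≃ₗ[F] (ι → F), El Q 1 g ∧
      (∀ k, (∃ c : F, en g ^ k = c • (1 : Module.End F (ι → F))) → x ^ k = 1) ∧ orderOf x ∣ orderOf g := by
  obtain ⟨g, rfl⟩ := QuotientGroup.mk_surjective x
  refine ⟨lin Q g, el_lin h2 hQ hd g, ?_, ?_⟩
  · rintro k ⟨c, hc⟩
    rw [← QuotientGroup.mk_pow, QuotientGroup.eq_one_iff, Subgroup.mem_center_iff]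
    intro h
    apply lin_injective Q
    rw [map_mul, map_mul, map_pow]
    apply en_inj
    rw [en_mul, en_mul, en_pow, hc, mul_smul_comm, mul_one, smul_mul_assoc, one_mul]
  · rw [orderOf_lin]
    exact orderOf_map_dvd (QuotientGroup.mk' _) g

/-- elements of `PΩ` from isometries -/
theorem exists_pomega (h2 : (2 : F) ≠ 0) {Q : QuadraticForm F (ι → F)} (hQ : Nondeg Q) (hd : 5 ≤ Fintype.card ι)
    {g : (ι → F) ≃ₗ[F] (ι → F)} (hg : El Q 1 g) :
    ∃ x : POmega F ⇑Q, ∀ k, x ^ k = 1 → g ^ k = 1 ∨ g ^ k = LinearEquiv.neg F := by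
  have hG := good_of_finite hQ (by rwa [finrank_fintype_fun_eq_card])
  obtain ⟨y, rfl⟩ := exists_lin h2 hQ hd hg
  refine ⟨QuotientGroup.mk y, fun k hk => ?_⟩
  rw [← QuotientGroup.mk_pow, QuotientGroup.eq_one_iff] at hk
  obtain ⟨w, hw0, hw⟩ := hG.sing
  have h3 := (Cfsg.Agent.LieClassical.OrthCenter.mem_center_omega_iff (nondeg_bilin hQ) (by omega) ⟨w, hw0, hw⟩ _).1 hk
  rw [← map_pow]
  rcases h3 with h3 | h3
  · left
    ext1 v
    rw [lin_apply, h3, Matrix.one_mulVec]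
    rfl
  · right
    ext1 v
    rw [lin_apply, h3, Matrix.neg_mulVec, Matrix.one_mulVec]
    rfl

end POm

/-- the order is prime to `p` -/
theorem coprime_of_nadj {X : Type*} [Group X] [Finite X] {x : X} {r p : ℕ} (hr : r.Prime) (hp : p.Prime) (hrp : r ≠ p)
    (hx : r ∣ orderOf x) (h : ¬ ∃ y : X, orderOf y = r * p) : Nat.Coprime (orderOf x) p := by
  rw [Nat.coprime_comm, Nat.Prime.coprime_iff_not_dvd hp]
  intro hpx
  apply h
  obtain ⟨k, hk⟩ := ((Nat.coprime_primes hr hp).2 hrp).mul_dvd_of_dvd_of_dvd hx hpx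
  have hpos := orderOf_pos x
  have hk0 : k ≠ 0 := by
    rintro rfl
    rw [mul_zero] at hk
    omega
  refine ⟨x ^ k, ?_⟩
  rw [orderOf_pow_of_dvd hk0 (by rw [hk]; exact dvd_mul_left _ _), hk, Nat.mul_div_cancel _ (Nat.pos_of_ne_zero hk0)]

end Cfsg.Agent.R2.Spec.P1.Eig
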