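import Cfsg.Agent.R2.Spec.P1.TopOrd

/-!
# Team T3 (S3435), box P1b: upper bounds for `PΩ^±_2n(q)`, `PΩ_{2n+1}(q)`, `q` odd (helper15)
-/

set_option autoImplicit false
set_option linter.unusedSectionVars false

namespace Cfsg.Agent.R2.Spec.P1.Eig

open QuadraticMap Module Polynomial Cfsg
open Cfsg.Agent.LieClassical.OrthCore Cfsg.Agent.LieClassical.OrthFinite Cfsg.Agent.LieClassical.OrthForms
  Cfsg.Agent.H160.QSpin Cfsg.Agent.H160.QDisc Cfsg.Agent.H160.QSplit Cfsg.Agent.H160.QFinal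
open Cfsg.Agent.H160.QRoots Cfsg.Agent.H160.QChar

theorem two_ne_K {F : Type*} [Field F] (h2 : (2 : F) ≠ 0) : (2 : AlgebraicClosure F) ≠ 0 := by
  intro h
  apply h2
  apply (algebraMap F (AlgebraicClosure F)).injective
  rw [map_ofNat, map_zero, h]

theorem two_pow_K {F : Type*} [Field F] [Fintype F] (h2 : (2 : F) ≠ 0) {e : ℕ} (he : Fintype.card F = 2 * e + 1) :
    (2 : AlgebraicClosure F) ^ (2 * e) = 1 := by
  have h1 : (2 : F) ^ (2 * e) = 1 := by
    rw [show 2 * e = Fintype.card F - 1 by omega]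
    exact FiniteField.pow_card_sub_one_eq_one _ h2
  have h3 := congrArg (algebraMap F (AlgebraicClosure F)) h1
  rwa [map_pow, map_ofNat, map_one] at h3

section Space

variable {F V : Type*} [Field F] [Fintype F] [DecidableEq F] [AddCommGroup V] [Module F V] [FiniteDimensional F V]
  [Finite V] [DecidableEq (AlgebraicClosure F)]

/-- **The eigenvalues, full class.** -/
theorem full_data (h2 : (2 : F) ≠ 0) {e : ℕ} (he : Fintype.card F = 2 * e + 1) {p : ℕ} [Fact p.Prime] [CharP F p]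
    {Q : QuadraticForm F V} (hQ : Nondeg Q) {n : ℕ} (hV : finrank F V = 2 * n) {s : ℤˣ} {g : V ≃ₗ[F] V}
    (hg : El Q s g) {r : ℕ} (hr : r.Prime) (hrp : r ≠ p) (hrg : r ∣ orderOf g) {δ : ℤ}
    (hi : (orderOf ((Fintype.card F : ℕ) : ZMod r) = 2 * n ∧ δ = -1) ∨
      (orderOf ((Fintype.card F : ℕ) : ZMod r) = n ∧ Odd n ∧ δ = 1))
    (h3 : 3 ≤ orderOf ((Fintype.card F : ℕ) : ZMod r)) :
    ∃ x : AlgebraicClosure F, Blk (Fintype.card F) n δ x ∧ rts (en g) = (orb (Fintype.card F) x n).val ∧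
      x ^ (AN δ n (Fintype.card F) / 2) = (((s : ℤˣ) : ℤ) : AlgebraicClosure F) ∧
      ((dc Q : ℤ) : AlgebraicClosure F) = (-1) ^ (n * e) * (δ : AlgebraicClosure F) := by
  have hinj := frob_inj F
  obtain ⟨hgO, hdet, hs⟩ := id hg
  have hN : 0 < orderOf g := by
    have hfin : Finite (V ≃ₗ[F] V) := Finite.of_injective (fun g : V ≃ₗ[F] V => (g : V → V)) DFunLike.coe_injective
    exact orderOf_pos g
  obtain ⟨x, hx, k, hk1, hkr⟩ := exists_eig (f := en g) (p := p) hN (by rw [← en_pow, pow_orderOf_eq_one]; rfl)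
    (fun k hk => orderOf_dvd_of_pow_eq_one (en_inj (by rw [en_pow, hk]; rfl))) hr hrp hrg
  have hED := ed_rts hQ hgO
  have hcard := card_rts (en g)
  rw [hV] at hcard
  obtain ⟨hmin, hb1, hb2, R', hR, -, hc⟩ := hED.block hinj (by omega) hx hr hk1 hkr rfl h3 (m := n)
    (by rcases hi with h | h
        · exact Or.inl h.1
        · exact Or.inr ⟨h.1, h.2.1⟩) (by omega)
  have hR0 : R' = 0 := by
    rw [← Multiset.card_eq_zero]
    omega
  rw [hR0, add_zero] at hR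
  have hblk : Blk (Fintype.card F) n δ x := by
    refine ⟨hmin, ?_⟩
    rcases hi with ⟨h, rfl⟩ | ⟨h, -, rfl⟩
    · exact Or.inr ⟨rfl, hb1 h⟩
    · exact Or.inl ⟨rfl, hb2 h⟩
  have hpm : ∀ y ∈ rts (en g), y ≠ y⁻¹ := by
    intro y hy
    rw [hR] at hy
    exact orb_ne_pm hinj hmin hy
  refine ⟨x, hblk, hR, ?_, ?_⟩
  · have h4 := zass_rts h2 he hQ (by rw [hV]; exact even_two_mul n) hg (fun h => hpm _ h (by norm_num))
    rw [hR, hblk.psi hinj (frob_add' F) he] at h4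
    exact h4
  · have h4 := dc_rts h2 he hQ hg hpm
    rw [hR, hblk.phi hinj (frob_sub F) he] at h4
    exact h4.symm

/-- **The eigenvalues, the class of a hyperplane.** -/
theorem part_data (h2 : (2 : F) ≠ 0) {e : ℕ} (he : Fintype.card F = 2 * e + 1) {p : ℕ} [Fact p.Prime] [CharP F p]
    {Q : QuadraticForm F V} (hQ : Nondeg Q) {n : ℕ} (hn : 3 ≤ n) (hV : finrank F V = 2 * n) {ε : ℤ}
    (hε : ε = 1 ∨ ε = -1) (hdc : ((dc Q : ℤ) : AlgebraicClosure F) = (-1) ^ (n * e) * (ε : AlgebraicClosure F))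
    {g : V ≃ₗ[F] V} (hg : El Q 1 g) {r : ℕ} (hr : r.Prime) (hrp : r ≠ p) (hrg : r ∣ orderOf g) {δ : ℤ}
    (hi : (orderOf ((Fintype.card F : ℕ) : ZMod r) = 2 * (n - 1) ∧ δ = -1) ∨
      (orderOf ((Fintype.card F : ℕ) : ZMod r) = n - 1 ∧ Odd (n - 1) ∧ δ = 1))
    (h3 : 3 ≤ orderOf ((Fintype.card F : ℕ) : ZMod r)) :
    ∃ x μ : AlgebraicClosure F, Blk (Fintype.card F) (n - 1) δ x ∧
      rts (en g) = (orb (Fintype.card F) x (n - 1)).val + {μ, μ⁻¹} ∧ μ ≠ 0 ∧
      μ ^ AN (δ * ε) 1 (Fintype.card F) = 1 ∧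
      x ^ (AN δ (n - 1) (Fintype.card F) / 2) = μ ^ (AN (δ * ε) 1 (Fintype.card F) / 2) := by
  have hinj := frob_inj F
  obtain ⟨hgO, hdet, hs⟩ := id hg
  have hdet1 : LinearMap.det (en g) = 1 := by
    have := congrArg Units.val hdet
    rwa [LinearEquiv.coe_det] at this
  have hN : 0 < orderOf g := by
    have hfin : Finite (V ≃ₗ[F] V) := Finite.of_injective (fun g : V ≃ₗ[F] V => (g : V → V)) DFunLike.coe_injective
    exact orderOf_pos g
  obtain ⟨x, hx, k, hk1, hkr⟩ := exists_eig (f := en g) (p := p) hN (by rw [← en_pow, pow_orderOf_eq_one]; rfl)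
    (fun k hk => orderOf_dvd_of_pow_eq_one (en_inj (by rw [en_pow, hk]; rfl))) hr hrp hrg
  have hED := ed_rts hQ hgO
  have hcard := card_rts (en g)
  rw [hV] at hcard
  obtain ⟨hmin, hb1, hb2, R', hR, hR', hc⟩ := hED.block hinj (by omega) hx hr hk1 hkr rfl h3 (m := n - 1)
    (by rcases hi with h | h
        · exact Or.inl h.1
        · exact Or.inr ⟨h.1, h.2.1⟩) (by omega)
  have hblk : Blk (Fintype.card F) (n - 1) δ x := by
    refine ⟨hmin, ?_⟩
    rcases hi with ⟨h, rfl⟩ | ⟨h, -, rfl⟩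
    · exact Or.inr ⟨rfl, hb1 h⟩
    · exact Or.inl ⟨rfl, hb2 h⟩
  have hprod : R'.prod = 1 := by
    have h4 := prod_rts hdet1
    rw [hR, Multiset.prod_add, prod_orb_val hinj hmin, one_mul] at h4
    exact h4
  have hev : Even (finrank F V) := by rw [hV]; exact even_two_mul n
  obtain ⟨μ, hμ0, hμ, h5, h6⟩ := rest_two_rel (two_ne_K h2) hinj (frob_add' F) (frob_sub F) he (two_pow_K h2 he) hblk hR hR'
    (by omega) hprod (n := n) (by omega) hε (fun h => by rw [dc_rts h2 he hQ hg h, hdc])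
    (fun h => by rw [zass_rts h2 he hQ hev hg h]; simp)
    (fun h => by rw [zass_rts_neg h2 he hQ hev hg h, ← hdc]; simp)
  rw [hμ] at hR
  exact ⟨x, μ, hblk, hR, hμ0, h5, h6⟩

end Space

section Even

variable {F : Type*} [Field F] [Fintype F] [DecidableEq F] {ι : Type} [Fintype ι] [DecidableEq ι]
  [DecidableEq (AlgebraicClosure F)]

/-- **Upper bound, full class.** -/
theorem even_full (h2 : (2 : F) ≠ 0) {e : ℕ} (he : Fintype.card F = 2 * e + 1) {p : ℕ} [Fact p.Prime] [CharP F p]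
    {Q : QuadraticForm F (ι → F)} (hQ : Nondeg Q) {n : ℕ} (hn : 3 ≤ n) (hV : Fintype.card ι = 2 * n)
    {y : POmega F ⇑Q} {r : ℕ} (hr : r.Prime) (hrp : r ≠ p) (hrg : r ∣ orderOf y)
    (hcop : Nat.Coprime (orderOf y) p) {δ : ℤ}
    (hi : (orderOf ((Fintype.card F : ℕ) : ZMod r) = 2 * n ∧ δ = -1) ∨
      (orderOf ((Fintype.card F : ℕ) : ZMod r) = n ∧ Odd n ∧ δ = 1))
    (h3 : 3 ≤ orderOf ((Fintype.card F : ℕ) : ZMod r)) :
    orderOf y ∣ AN δ n (Fintype.card F) / Nat.gcd 4 (AN δ n (Fintype.card F)) := by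
  obtain ⟨g, hg, hgs, hgo⟩ := lift_pomega h2 hQ (by omega) y
  have hfin : finrank F (ι → F) = 2 * n := by rw [Module.finrank_fintype_fun_eq_card, hV]
  obtain ⟨x, hb, hR, hx, -⟩ := full_data h2 he hQ hfin hg hr hrp (hrg.trans hgo) hi h3
  have hqodd : Fintype.card F % 2 = 1 := by omega
  have hev := AN_even (δ := δ) (m := n) hqodd
  have hx1 : x ^ (AN δ n (Fintype.card F) / 2) = 1 := by rw [hx]; simp
  generalize hA : AN δ n (Fintype.card F) = A at hev hx1 ⊢
  have key : ∃ z : AlgebraicClosure F, (z = 1 ∨ z = -1) ∧ x ^ (A / Nat.gcd 4 A) = z := by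
    have hg4 : Nat.gcd 4 A = 4 ∨ Nat.gcd 4 A = 2 := by
      have h5 : Nat.gcd 4 A ∣ 4 := Nat.gcd_dvd_left _ _
      have h6 : 2 ∣ Nat.gcd 4 A := Nat.dvd_gcd (by norm_num) ⟨A / 2, hev.symm⟩
      have h7 := Nat.le_of_dvd (by norm_num) h5
      interval_cases Nat.gcd 4 A <;> omega
    rcases hg4 with h5 | h5
    · rw [h5]
      have h6 : 4 ∣ A := h5 ▸ Nat.gcd_dvd_right _ _
      obtain ⟨c, rfl⟩ := h6
      rw [Nat.mul_div_cancel_left _ (by norm_num)]
      have h7 : 4 * c / 2 = c + c := by omega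
      rw [h7, pow_add] at hx1
      exact ⟨_, mul_self_eq_one_iff.1 hx1, rfl⟩
    · rw [h5]
      exact ⟨1, Or.inl rfl, hx1⟩
  obtain ⟨z, hz, hxz⟩ := key
  obtain ⟨c, hc⟩ := scal_of_rts (f := en g) (p := p) (T := A / Nat.gcd 4 A) (z := z) (by
    intro w hw
    rw [hR] at hw
    exact pow_of_mem_orb hw hxz hz hqodd) (by omega)
  have h5 := orderOf_dvd_of_pow_eq_one (hgs _ ⟨c, hc⟩)
  exact (hcop.pow_right _).dvd_of_dvd_mul_right h5

/-- **Upper bound, the class of a hyperplane.** -/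
theorem even_part (h2 : (2 : F) ≠ 0) {e : ℕ} (he : Fintype.card F = 2 * e + 1) {p : ℕ} [Fact p.Prime] [CharP F p]
    {Q : QuadraticForm F (ι → F)} (hQ : Nondeg Q) {n : ℕ} (hn : 3 ≤ n) (hV : Fintype.card ι = 2 * n) {ε : ℤ}
    (hε : ε = 1 ∨ ε = -1) (hdc : ((dc Q : ℤ) : AlgebraicClosure F) = (-1) ^ (n * e) * (ε : AlgebraicClosure F))
    {y : POmega F ⇑Q} {r : ℕ} (hr : r.Prime) (hrp : r ≠ p) (hrg : r ∣ orderOf y)
    (hcop : Nat.Coprime (orderOf y) p) {δ : ℤ}
    (hi : (orderOf ((Fintype.card F : ℕ) : ZMod r) = 2 * (n - 1) ∧ δ = -1) ∨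
      (orderOf ((Fintype.card F : ℕ) : ZMod r) = n - 1 ∧ Odd (n - 1) ∧ δ = 1))
    (h3 : 3 ≤ orderOf ((Fintype.card F : ℕ) : ZMod r)) {T : ℕ}
    (hT : ∀ a b : AlgebraicClosure F, a ^ AN δ (n - 1) (Fintype.card F) = 1 →
      b ^ AN (δ * ε) 1 (Fintype.card F) = 1 →
      a ^ (AN δ (n - 1) (Fintype.card F) / 2) = b ^ (AN (δ * ε) 1 (Fintype.card F) / 2) →
      ∃ z, (z = 1 ∨ z = -1) ∧ a ^ T = z ∧ b ^ T = z) : orderOf y ∣ T := by
  obtain ⟨g, hg, hgs, hgo⟩ := lift_pomega h2 hQ (by omega) y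
  have hfin : finrank F (ι → F) = 2 * n := by rw [Module.finrank_fintype_fun_eq_card, hV]
  obtain ⟨x, μ, hb, hR, hμ0, h4, h5⟩ := part_data h2 he hQ hn hfin hε hdc hg hr hrp (hrg.trans hgo) hi h3
  have hqodd : Fintype.card F % 2 = 1 := by omega
  obtain ⟨z, hz, hxz, hμz⟩ := hT x μ (hb.pow (by omega)) h4 h5
  have hz2 : z⁻¹ = z := by rcases hz with rfl | rfl <;> norm_num
  obtain ⟨c, hc⟩ := scal_of_rts (f := en g) (p := p) (T := T) (z := z) (by
    intro w hw
    rw [hR, Multiset.mem_add, Multiset.insert_eq_cons, Multiset.mem_cons, Multiset.mem_singleton] at hw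
    rcases hw with hw | rfl | rfl
    · exact pow_of_mem_orb hw hxz hz hqodd
    · exact hμz
    · rw [inv_pow, hμz, hz2]) (by omega)
  have h6 := orderOf_dvd_of_pow_eq_one (hgs _ ⟨c, hc⟩)
  exact (hcop.pow_right _).dvd_of_dvd_mul_right h6

end Even

section Odd

variable {F : Type*} [Field F] [Fintype F] [DecidableEq F] {ι : Type} [Fintype ι] [DecidableEq ι]
  [DecidableEq (AlgebraicClosure F)]

/-- **Upper bound in odd dimension.** -/
theorem odd_full (h2 : (2 : F) ≠ 0) {e : ℕ} (he : Fintype.card F = 2 * e + 1) {p : ℕ} [Fact p.Prime] [CharP F p]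
    {Q : QuadraticForm F (ι → F)} (hQ : Nondeg Q) {n : ℕ} (hn : 3 ≤ n) (hV : Fintype.card ι = 2 * n + 1)
    {y : POmega F ⇑Q} {r : ℕ} (hr : r.Prime) (hrp : r ≠ p) (hrg : r ∣ orderOf y)
    (hcop : Nat.Coprime (orderOf y) p) {δ : ℤ}
    (hi : (orderOf ((Fintype.card F : ℕ) : ZMod r) = 2 * n ∧ δ = -1) ∨
      (orderOf ((Fintype.card F : ℕ) : ZMod r) = n ∧ Odd n ∧ δ = 1))
    (h3 : 3 ≤ orderOf ((Fintype.card F : ℕ) : ZMod r)) :
    orderOf y ∣ AN δ n (Fintype.card F) / 2 := by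
  obtain ⟨g, hg, hgs, hgo⟩ := lift_pomega h2 hQ (by omega) y
  have hinj := frob_inj F
  have hfin : finrank F (ι → F) = 2 * n + 1 := by rw [Module.finrank_fintype_fun_eq_card, hV]
  obtain ⟨hgO, hdet, hs⟩ := id hg
  have hdet1 : LinearMap.det (en g) = 1 := by
    have := congrArg Units.val hdet
    rwa [LinearEquiv.coe_det] at this
  have hN : 0 < orderOf g := by
    have hfin : Finite ((ι → F) ≃ₗ[F] (ι → F)) :=
      Finite.of_injective (fun g : (ι → F) ≃ₗ[F] (ι → F) => (g : (ι → F) → (ι → F))) DFunLike.coe_injective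
    exact orderOf_pos g
  obtain ⟨x, hx, k, hk1, hkr⟩ := exists_eig (f := en g) (p := p) hN (by rw [← en_pow, pow_orderOf_eq_one]; rfl)
    (fun k hk => orderOf_dvd_of_pow_eq_one (en_inj (by rw [en_pow, hk]; rfl))) hr hrp (hrg.trans hgo)
  have hED := ed_rts hQ hgO
  have hcard := card_rts (en g)
  rw [hfin] at hcard
  obtain ⟨hmin, hb1, hb2, R', hR, hR', hc⟩ := hED.block hinj (by omega) hx hr hk1 hkr rfl h3 (m := n)
    (by rcases hi with h | h
        · exact Or.inl h.1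
        · exact Or.inr ⟨h.1, h.2.1⟩) (by omega)
  have hblk : Blk (Fintype.card F) n δ x := by
    refine ⟨hmin, ?_⟩
    rcases hi with ⟨h, rfl⟩ | ⟨h, -, rfl⟩
    · exact Or.inr ⟨rfl, hb1 h⟩
    · exact Or.inl ⟨rfl, hb2 h⟩
  have hprod : R'.prod = 1 := by
    have h4 := prod_rts hdet1
    rw [hR, Multiset.prod_add, prod_orb_val hinj hmin, one_mul] at h4
    exact h4
  rw [ED.rest_one (by omega) hprod] at hR
  -- add a line
  have hQ1 := nondeg_oneF (F := F) h2 (c := 1) one_ne_zero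
  have hEl := El.pr h2 hQ hQ1 hg (El.one (oneF (1 : F)))
  rw [mul_one] at hEl
  have hdimp : finrank F ((ι → F) × F) = 2 * (n + 1) := by
    rw [Module.finrank_prod, hfin, Module.finrank_self]; ring
  have hrp2 : rts (en (pr g (1 : F ≃ₗ[F] F))) = rts (en g) + {1} := by
    have h4 : (en (pr g (1 : F ≃ₗ[F] F))) = (en g).prodMap (1 : F →ₗ[F] F) := rfl
    rw [rts, h4, LinearMap.charpoly_prodMap, Polynomial.map_mul,
      roots_mul (mul_ne_zero (map_ne _) (map_ne _)), LinearMap.charpoly_one, Module.finrank_self, pow_one,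
      Polynomial.map_sub, Polynomial.map_X, Polynomial.map_one, ← Polynomial.C_1, roots_X_sub_C]
    rfl
  have hne : (-1 : AlgebraicClosure F) ∉ rts (en (pr g (1 : F ≃ₗ[F] F))) := by
    rw [hrp2, hR, Multiset.mem_add, Multiset.mem_add, Multiset.mem_singleton]
    rintro ((h | h) | h)
    · exact orb_ne_pm hinj hmin h (by norm_num)
    · exact two_ne_K h2 (by linear_combination -h)
    · exact two_ne_K h2 (by linear_combination -h)
  have h4 := zass_rts h2 he (nondeg_prod hQ hQ1) (by rw [hdimp]; exact even_two_mul _) hEl hne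
  have h5 : psi ({1} : Multiset (AlgebraicClosure F)) = 2 := by
    rw [psi, Multiset.map_singleton, Multiset.prod_singleton]; norm_num
  have hx1 : x ^ (AN δ n (Fintype.card F) / 2) = 1 := by
    rw [hrp2, hR, psi_add, psi_add, h5, mul_pow, mul_pow, hblk.psi hinj (frob_add' F) he, mul_assoc, ← mul_pow,
      ← pow_two, ← pow_mul, two_pow_K h2 he, mul_one] at h4
    rw [h4]; simp
  have hqodd : Fintype.card F % 2 = 1 := by omega
  obtain ⟨c, hc⟩ := scal_of_rts (f := en g) (p := p) (T := AN δ n (Fintype.card F) / 2) (z := 1) (by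
    intro w hw
    rw [hR, Multiset.mem_add, Multiset.mem_singleton] at hw
    rcases hw with hw | rfl
    · exact pow_of_mem_orb hw hx1 (Or.inl rfl) hqodd
    · exact one_pow _) (by omega)
  have h6 := orderOf_dvd_of_pow_eq_one (hgs _ ⟨c, hc⟩)
  exact (hcop.pow_right _).dvd_of_dvd_mul_right h6

end Odd

end Cfsg.Agent.R2.Spec.P1.Eig
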