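import Cfsg.Agent.R2.Spec.P1.TopSp
import Cfsg.Agent.H436.Ppd

/-!
# Team T3 (S3435), box P1b: tori of even-dimensional quadratic spaces, `q` odd (helper15)
-/

set_option autoImplicit false
set_option linter.unusedSectionVars false

namespace Cfsg.Agent.R2.Spec.P1.Eig

open QuadraticMap Module Polynomial Cfsg
open Cfsg.Agent.LieClassical.OrthCore Cfsg.Agent.LieClassical.OrthFinite Cfsg.Agent.LieClassical.OrthForms
  Cfsg.Agent.H160.QSpin Cfsg.Agent.H160.QDisc Cfsg.Agent.H160.QSplit Cfsg.Agent.H160.QFinal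
open Cfsg.Agent.H160.QRoots Cfsg.Agent.H160.QChar

/-- the exponent `T` of the torus with halves `a`, `b` -/
def TC (a b T : ℕ) : Prop :=
  (∃ c, Odd c ∧ a = b * c ∧ T = a) ∨ (Nat.Coprime a b ∧ Odd a ∧ Odd b ∧ T = a * b) ∨
    (Nat.Coprime a b ∧ ¬ (Odd a ∧ Odd b) ∧ T = 2 * (a * b))

theorem TC.ub {K : Type*} [Field K] {a b T : ℕ} (h : TC a b T) {x y : K} (hx : x ^ (2 * a) = 1)
    (hxy : x ^ a = y ^ b) : ∃ z : K, (z = 1 ∨ z = -1) ∧ x ^ T = z ∧ y ^ T = z := by
  have hz : x ^ a = 1 ∨ x ^ a = -1 := by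
    have : x ^ a * x ^ a = 1 := by rw [← pow_add, ← two_mul, hx]
    exact mul_self_eq_one_iff.1 this
  have hodd : ∀ {z : K} {c : ℕ}, (z = 1 ∨ z = -1) → Odd c → z ^ c = z := by
    rintro z c (rfl | rfl) hc
    · exact one_pow _
    · exact hc.neg_one_pow
  rcases h with ⟨c, hc, hab, rfl⟩ | ⟨-, ha, hb, rfl⟩ | ⟨-, -, rfl⟩
  · refine ⟨x ^ T, hz, rfl, ?_⟩
    nth_rewrite 1 [hab]
    rw [pow_mul, ← hxy, hodd hz hc]
  · refine ⟨x ^ a, hz, ?_, ?_⟩
    · rw [pow_mul, hodd hz hb]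
    · rw [mul_comm, pow_mul, ← hxy, hodd hz ha]
  · refine ⟨1, Or.inl rfl, ?_, ?_⟩
    · rw [← mul_assoc, pow_mul, hx, one_pow]
    · rw [mul_comm a b, ← mul_assoc, mul_comm 2 b, mul_assoc, pow_mul, ← hxy, ← pow_mul, mul_comm a (2 * a), pow_mul,
        hx, one_pow]

theorem TC.lb {a b T k j l : ℕ} (h : TC a b T) (ha : 0 < a) (hj : k = a * j) (hl : k = b * l)
    (hjl : j % 2 = l % 2) : T ∣ k := by
  rcases h with ⟨c, hc, hab, rfl⟩ | ⟨hco, h1, h2, rfl⟩ | ⟨hco, h1, rfl⟩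
  · exact ⟨j, hj⟩
  · exact hco.mul_dvd_of_dvd_of_dvd ⟨j, hj⟩ ⟨l, hl⟩
  · have h3 : a ∣ b * l := ⟨j, by rw [← hl, hj]⟩
    obtain ⟨m, rfl⟩ := hco.dvd_of_dvd_mul_left h3
    have h4 : j = b * m := by
      apply Nat.eq_of_mul_eq_mul_left ha
      rw [← hj, hl]; ring
    rw [h4, Nat.mul_mod, Nat.mul_mod a m] at hjl
    have h5 : m % 2 = 0 := by
      rw [Nat.odd_iff, Nat.odd_iff] at h1
      have h6 : ¬ (a % 2 = 0 ∧ b % 2 = 0) := by
        rintro ⟨h6, h7⟩
        have h8 : 2 ∣ Nat.gcd a b := Nat.dvd_gcd (Nat.dvd_of_mod_eq_zero h6) (Nat.dvd_of_mod_eq_zero h7)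
        rw [hco] at h8
        omega
      rcases Nat.mod_two_eq_zero_or_one a with h7 | h7 <;> rcases Nat.mod_two_eq_zero_or_one b with h8 | h8
      · exact absurd ⟨h7, h8⟩ h6
      · rw [h7, h8] at hjl; omega
      · rw [h7, h8] at hjl; omega
      · exact absurd ⟨h7, h8⟩ h1
    obtain ⟨t, rfl⟩ := Nat.dvd_of_mod_eq_zero h5
    exact ⟨t, by rw [hl]; ring⟩

/-- the order divides, from the eigenvalues -/
theorem order_dvd_of_rts {F V : Type*} [Field F] [AddCommGroup V] [Module F V] [FiniteDimensional F V]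
    {p : ℕ} [Fact p.Prime] [CharP F p] {g : V ≃ₗ[F] V} {k : ℕ} (hcop : Nat.Coprime (orderOf g) p)
    (h : ∀ x ∈ rts (en g), x ^ k = 1) : orderOf g ∣ k := by
  classical
  have h2 : en g ^ (k * p ^ finrank F V) = 1 := by
    refine pow_eq_one_of_bd (M := finrank F V) (N := k) (c := finrank F V) ⟨?_, h⟩
      (Nat.lt_pow_self (Fact.out : p.Prime).one_lt).le
    intro x
    refine (Multiset.count_le_card _ _).trans ?_
    rw [card_rts]
  have h3 : g ^ (k * p ^ finrank F V) = 1 := en_inj (by rw [en_pow, h2]; rfl)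
  exact (hcop.pow_right _).dvd_of_dvd_mul_right (orderOf_dvd_of_pow_eq_one h3)

section Space

variable {F V : Type*} [Field F] [Fintype F] [DecidableEq F] [AddCommGroup V] [Module F V] [FiniteDimensional F V]
  [Finite V] [DecidableEq (AlgebraicClosure F)]

theorem AN_coprime {δ : ℤ} {m q p f : ℕ} (hp : p.Prime) (hq : q = p ^ f) (hf : f ≠ 0) (hm : m ≠ 0) (hδ : δ = 1 ∨ δ = -1) :
    Nat.Coprime (AN δ m q) p := by
  have h1 : p ∣ q ^ m := by
    rw [hq, ← pow_mul]
    exact dvd_pow_self p (Nat.mul_ne_zero hf hm)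
  have h0 : 1 ≤ q ^ m := Nat.one_le_pow _ _ (by rw [hq]; exact pow_pos hp.pos _)
  rw [Nat.coprime_comm, Nat.Prime.coprime_iff_not_dvd hp]
  intro h2
  rcases hδ with rfl | rfl
  · rw [AN_one] at h2
    have h3 := (Nat.dvd_sub_iff_right h0 h1).1 h2
    exact hp.one_lt.ne' (Nat.dvd_one.1 h3)
  · rw [AN_neg] at h2
    have h3 := (Nat.dvd_add_right h1).1 h2
    exact hp.one_lt.ne' (Nat.dvd_one.1 h3)

theorem AN_pos {δ : ℤ} {m q : ℕ} (hq : 3 ≤ q) (hm : m ≠ 0) : 2 ≤ AN δ m q := by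
  have h1 : q ≤ q ^ m := Nat.le_self_pow hm q
  rw [AN]
  split_ifs <;> omega

/-- the sign of the torus of dimension `2 n`, `n ≥ 3` -/
theorem tor_sign (h2 : (2 : F) ≠ 0) {e : ℕ} (he : Fintype.card F = 2 * e + 1) (he1 : 1 ≤ e) {p f : ℕ} [Fact p.Prime]
    [CharP F p] (hF : Fintype.card F = p ^ f) (hf : f ≠ 0)
    {Q : QuadraticForm F V} (hQ : Nondeg Q) {n : ℕ} (hn : 3 ≤ n) (hV : finrank F V = 2 * n) {s : ℤˣ} {g : V ≃ₗ[F] V}
    (hg : El Q s g) {δ : ℤ} (hδ : δ = -1 ∨ (Odd n ∧ δ = 1)) (ho : orderOf g = AN δ n (Fintype.card F)) :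
    s = -1 ∧ ((dc Q : ℤ) : AlgebraicClosure F) = (-1) ^ (n * e) * (δ : AlgebraicClosure F) := by
  have hp := (Fact.out : p.Prime)
  have hq3 : 3 ≤ Fintype.card F := by omega
  have hδ' : δ = 1 ∨ δ = -1 := by rcases hδ with h | ⟨-, h⟩ <;> simp [h]
  have hcopA := AN_coprime (m := n) hp hF hf (by omega) hδ'
  -- a primitive prime
  obtain ⟨i, hi, hi3⟩ : ∃ i, ((i = 2 * n ∧ δ = -1) ∨ (i = n ∧ Odd n ∧ δ = 1)) ∧ 3 ≤ i := by
    rcases hδ with h | ⟨h, h'⟩
    · exact ⟨2 * n, Or.inl ⟨rfl, h⟩, by omega⟩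
    · exact ⟨n, Or.inr ⟨rfl, h, h'⟩, hn⟩
  obtain ⟨r, hr⟩ := Cfsg.Agent.H436.exists_prim (q := Fintype.card F) (by omega) hi3 (by omega)
  have hrp := hr.prime
  have hcl : orderOf ((Fintype.card F : ℕ) : ZMod r) = i := by
    have key : ∀ k, r ∣ Fintype.card F ^ k - 1 ↔ ((Fintype.card F : ℕ) : ZMod r) ^ k = 1 := by
      intro k
      rw [← ZMod.natCast_eq_zero_iff, Nat.cast_sub (Nat.one_le_pow _ _ (by omega)), sub_eq_zero]
      push_cast
      rfl
    apply Nat.dvd_antisymm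
    · exact orderOf_dvd_of_pow_eq_one ((key _).1 (hr.dvd dvd_rfl))
    · exact (hr.dvd_iff _).1 ((key _).2 (pow_orderOf_eq_one _))
  have hrf := Fact.mk hrp
  have hrA : r ∣ orderOf g := by
    rw [ho]
    rcases hi with ⟨h, h'⟩ | ⟨h, -, h'⟩
    · rw [h', AN_neg]
      have h1 : ((Fintype.card F : ℕ) : ZMod r) ^ n = -1 := by
        have h3 : (((Fintype.card F : ℕ) : ZMod r) ^ n) * (((Fintype.card F : ℕ) : ZMod r) ^ n) = 1 := by
          rw [← pow_add, ← two_mul, ← h, ← hcl, pow_orderOf_eq_one]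
        rcases mul_self_eq_one_iff.1 h3 with h4 | h4
        · exfalso
          have h5 := orderOf_dvd_of_pow_eq_one h4
          rw [hcl, h] at h5
          have := Nat.le_of_dvd (by omega) h5
          omega
        · exact h4
      rw [← ZMod.natCast_eq_zero_iff]
      push_cast
      rw [h1, neg_add_cancel]
    · rw [h', AN_one]
      have h1 : ((Fintype.card F : ℕ) : ZMod r) ^ n = 1 := by rw [← h, ← hcl, pow_orderOf_eq_one]
      rw [← ZMod.natCast_eq_zero_iff, Nat.cast_sub (Nat.one_le_pow _ _ (by omega))]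
      push_cast
      rw [h1, sub_self]
  have hrp' : r ≠ p := by
    rintro rfl
    rw [ho] at hrA
    exact (Nat.Prime.coprime_iff_not_dvd hrp).1 hcopA.symm hrA
  obtain ⟨x, hb, hR, hx, hd⟩ := full_data h2 he hQ hV hg hrp hrp' hrA (δ := δ) (by rw [hcl]; exact hi) (by rw [hcl]; exact hi3)
  refine ⟨?_, hd⟩
  rcases Int.units_eq_one_or s with hs | hs
  · exfalso
    rw [hs, Units.val_one, Int.cast_one] at hx
    have hqodd : Fintype.card F % 2 = 1 := by omega
    have h4 := order_dvd_of_rts (p := p) (g := g) (k := AN δ n (Fintype.card F) / 2) (by rw [ho]; exact hcopA) (by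
      intro w hw
      rw [hR] at hw
      exact pow_of_mem_orb hw hx (Or.inl rfl) hqodd)
    rw [ho] at h4
    have h5 := AN_pos (δ := δ) (m := n) hq3 (by omega)
    have h6 := Nat.le_of_dvd (by omega) h4
    omega
  · exact hs

/-- the sign of the torus of dimension `2` -/
theorem tor_sign_two (h2 : (2 : F) ≠ 0) {e : ℕ} (he : Fintype.card F = 2 * e + 1) (he1 : 1 ≤ e) {p f : ℕ} [Fact p.Prime]
    [CharP F p] (hF : Fintype.card F = p ^ f) (hf : f ≠ 0)
    {Q : QuadraticForm F V} (hQ : Nondeg Q) (hV : finrank F V = 2) {s : ℤˣ} {g : V ≃ₗ[F] V}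
    (hg : El Q s g) {δ : ℤ} (hδ : δ = 1 ∨ δ = -1) (ho : orderOf g = AN δ 1 (Fintype.card F)) (h3 : 3 ≤ orderOf g) :
    s = -1 ∧ ((dc Q : ℤ) : AlgebraicClosure F) = (-1) ^ (1 * e) * (δ : AlgebraicClosure F) := by
  have hp := (Fact.out : p.Prime)
  have hinj := frob_inj F
  have hcopA := AN_coprime (m := 1) hp hF hf one_ne_zero hδ
  obtain ⟨hgO, hdet, hs⟩ := id hg
  have hdet1 : LinearMap.det (en g) = 1 := by
    have := congrArg Units.val hdet
    rwa [LinearEquiv.coe_det] at this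
  have hED := ed_rts hQ hgO
  have hcard := card_rts (en g)
  rw [hV] at hcard
  obtain ⟨μ, h0, hR, hfr⟩ := hED.rest_two hcard (prod_rts hdet1)
  have hmul : ∀ k, μ ^ k = 1 → orderOf g ∣ k := by
    intro k hk
    refine order_dvd_of_rts (p := p) (by rw [ho]; exact hcopA) ?_
    intro w hw
    rw [hR, Multiset.insert_eq_cons, Multiset.mem_cons, Multiset.mem_singleton] at hw
    rcases hw with rfl | rfl
    · exact hk
    · rw [inv_pow, hk, inv_one]
  have hμg : μ ^ orderOf g = 1 := by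
    refine pow_of_rts (f := en g) (by rw [← en_pow, pow_orderOf_eq_one]; rfl) ?_
    rw [hR, Multiset.insert_eq_cons]
    exact Multiset.mem_cons_self _ _
  have hne : μ ≠ μ⁻¹ := by
    intro h
    have h4 : μ ^ 2 = 1 := by
      rw [pow_two]
      nth_rewrite 2 [h]
      exact mul_inv_cancel₀ h0
    have := Nat.le_of_dvd (by norm_num) (hmul 2 h4)
    omega
  obtain ⟨δ', hb, hbv⟩ := blk_pair h0 hne hfr
  have hδδ : δ' = δ := by
    by_contra hcon
    have h4 := hb.pow (by omega)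
    have h5 := hmul _ h4
    rw [ho] at h5 hμg
    have h6 : μ ^ 2 = 1 := by
      rcases hδ with rfl | rfl <;> rcases hb.pm with rfl | rfl
      · exact absurd rfl hcon
      · rw [AN_one, pow_one] at hμg
        rw [AN_neg, pow_one] at h4
        have h7 : Fintype.card F + 1 = (Fintype.card F - 1) + 2 := by omega
        rw [h7, pow_add, hμg, one_mul] at h4
        exact h4
      · rw [AN_neg, pow_one] at hμg
        rw [AN_one, pow_one] at h4
        have h7 : Fintype.card F + 1 = (Fintype.card F - 1) + 2 := by omega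
        rw [h7, pow_add, h4, one_mul] at hμg
        exact hμg
      · exact absurd rfl hcon
    have := Nat.le_of_dvd (by norm_num) (hmul 2 h6)
    omega
  subst hδδ
  have hbp := hb.psi hinj (frob_add' F) he
  have hbf := hb.phi hinj (frob_sub F) he
  rw [hbv, ← hR] at hbp hbf
  have hpm : ∀ y ∈ rts (en g), y ≠ y⁻¹ := by
    intro y hy
    rw [hR, Multiset.insert_eq_cons, Multiset.mem_cons, Multiset.mem_singleton] at hy
    rcases hy with rfl | rfl
    · exact hne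
    · rw [inv_inv]; exact hne.symm
  have h4 := zass_rts h2 he hQ (by rw [hV]; exact even_two) hg (fun h => hpm _ h (by norm_num))
  have h5 := dc_rts h2 he hQ hg hpm
  rw [hbp] at h4
  rw [hbf] at h5
  refine ⟨?_, h5.symm⟩
  rcases Int.units_eq_one_or s with hs | hs
  · exfalso
    rw [hs, Units.val_one, Int.cast_one] at h4
    have h6 := hmul _ h4
    rw [ho] at h6
    have h7 := AN_pos (δ := δ') (m := 1) (q := Fintype.card F) (by omega) one_ne_zero
    have h8 := Nat.le_of_dvd (by omega) h6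
    omega
  · exact hs

end Space

end Cfsg.Agent.R2.Spec.P1.Eig
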