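import Cfsg.Agent.R2.Spec.P1.TopSpTwo
import Cfsg.Agent.R2.Spec.P1.Orth
import Cfsg.Agent.R2.Spec.P1.TopTor

/-!
# Team T3 (S3435), box P1b: isometries of odd order, every characteristic (helper15)
-/

set_option autoImplicit false
set_option linter.unusedSectionVars false

namespace Cfsg.Agent.R2.Spec.P1

open QuadraticMap Module Polynomial Cfsg Cfsg.Agent.H426.LieFam Cfsg.Agent.R2.Spec
open Cfsg.Agent.H160.QRoots Cfsg.Agent.H160.QChar Cfsg.Agent.R2.Spec.P1.Eig
open Cfsg.Agent.LieClassical.OrthCore (Nondeg O)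
open Cfsg.Agent.H160.QSpin Cfsg.Agent.H160.QSplit
open Cfsg.Agent.H377 (HasSign)
open Cfsg.Agent.H390 Cfsg.Agent.H390.NonAdj Cfsg.Agent.H390.Dec
open Cfsg.Agent.H150 (ND isCompl_fix exists_hasSign card_of_hasSign' range_inv fpf_range restrict_pow_eq_one
  eq_one_of_restrict ortho_fix polar_isom)

universe u

section Basic

variable {F V : Type*} [Field F] [AddCommGroup V] [Module F V]

/-- linear isometries of finite order as elements of the group of isometries -/
theorem exists_equiv {Q : QuadraticForm F V} {T : V →ₗ[F] V} {N : ℕ} (hN : 0 < N) (hT : T ^ N = 1)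
    (hTQ : ∀ v, Q (T v) = Q v) : ∃ g : V ≃ₗ[F] V, en g = T ∧ g ∈ O Q := by
  have h1 : T * T ^ (N - 1) = 1 := by rw [← pow_succ', Nat.sub_add_cancel hN, hT]
  have h2 : T ^ (N - 1) * T = 1 := by rw [← pow_succ, Nat.sub_add_cancel hN, hT]
  refine ⟨LinearEquiv.ofLinearMap T (T ^ (N - 1)) h1 h2, ?_, ?_⟩
  · rfl
  · exact hTQ

theorem en_pow_eq_one {g : V ≃ₗ[F] V} {k : ℕ} : g ^ k = 1 ↔ en g ^ k = 1 := by
  rw [← en_pow]
  constructor
  · intro h; rw [h]; rfl
  · intro h; exact en_inj (by rw [h]; rfl)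

end Basic

section Pow

variable {F V : Type*} [Field F] [Fintype F] [AddCommGroup V] [Module F V] [FiniteDimensional F V] [Finite V]

/-- **Full classes, every characteristic.** -/
theorem pow_full {p : ℕ} [Fact p.Prime] [CharP F p] {Q : QuadraticForm F V} (hQ : Nondeg Q) {m : ℕ}
    (hV : finrank F V = 2 * m) {T : V →ₗ[F] V} (hTQ : ∀ v, Q (T v) = Q v) {N : ℕ} (hT : T ^ N = 1) (hN : 0 < N)
    (hcop : Nat.Coprime N p) {r k : ℕ} (hr : r.Prime) (hrp : r ≠ p) (h1 : T ^ k ≠ 1) (h2 : (T ^ k) ^ r = 1) {δ : ℤ}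
    (hi : (orderOf ((Fintype.card F : ℕ) : ZMod r) = 2 * m ∧ δ = -1) ∨
      (orderOf ((Fintype.card F : ℕ) : ZMod r) = m ∧ Odd m ∧ δ = 1))
    (h3 : 3 ≤ orderOf ((Fintype.card F : ℕ) : ZMod r)) : T ^ AN δ m (Fintype.card F) = 1 := by
  classical
  have hinj := frob_inj F
  have hF1 : 1 < Fintype.card F := Fintype.one_lt_card
  have hrf := Fact.mk hr
  obtain ⟨g, hgT, hg⟩ := exists_equiv hN hT hTQ
  have hgN : orderOf g ∣ N := orderOf_dvd_of_pow_eq_one (en_pow_eq_one.2 (by rw [hgT, hT]))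
  have hcg := Nat.Coprime.coprime_dvd_left hgN hcop
  have hg0 : 0 < orderOf g := Nat.pos_of_dvd_of_pos hgN hN
  have hrg : r ∣ orderOf g := by
    have h4 : orderOf (g ^ k) = r := by
      refine orderOf_eq_prime ?_ ?_
      · rw [← pow_mul, en_pow_eq_one, hgT, pow_mul, h2]
      · intro h
        rw [en_pow_eq_one, hgT] at h
        exact h1 h
    rw [← h4]
    exact orderOf_pow_dvd k
  obtain ⟨x, hx, k', hk1, hkr⟩ := exists_eig (f := en g) (p := p) hg0 (by rw [← en_pow, pow_orderOf_eq_one]; rfl)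
    (fun k hk => orderOf_dvd_of_pow_eq_one (en_inj (by rw [en_pow, hk]; rfl))) hr hrp hrg
  have hED := ed_rts hQ hg
  have hcard := card_rts (en g)
  rw [hV] at hcard
  obtain ⟨hmin, hb1, hb2, R', hR, -, hc⟩ := hED.block hinj (by omega) hx hr hk1 hkr rfl h3 (m := m)
    (by rcases hi with h | h
        · exact Or.inl h.1
        · exact Or.inr ⟨h.1, h.2.1⟩) (by omega)
  have hR0 : R' = 0 := by
    rw [← Multiset.card_eq_zero]
    omega
  rw [hR0, add_zero] at hR
  have hblk : Blk (Fintype.card F) m δ x := by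
    refine ⟨hmin, ?_⟩
    rcases hi with ⟨h, rfl⟩ | ⟨h, -, rfl⟩
    · exact Or.inr ⟨rfl, hb1 h⟩
    · exact Or.inl ⟨rfl, hb2 h⟩
  have h5 := order_dvd_of_rts (p := p) (g := g) (k := AN δ m (Fintype.card F)) hcg (by
    intro w hw
    rw [hR] at hw
    exact pow_one_of_mem_orb hw (hblk.pow (by omega)))
  rw [← hgT, ← en_pow_eq_one, ← orderOf_dvd_iff_pow_eq_one]
  exact h5

/-- **Planes, every characteristic.** -/
theorem pow_plane {p f : ℕ} [Fact p.Prime] [CharP F p] (hF : Fintype.card F = p ^ f) {Q : QuadraticForm F V}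
    (hQ : Nondeg Q) (hV : finrank F V = 2) {ε : ℤ} (hε : ε = 1 ∨ ε = -1) (hs : HasSign (⇑Q) 1 ε) {T : V →ₗ[F] V}
    (hTQ : ∀ v, Q (T v) = Q v) {N : ℕ} (hT : T ^ N = 1) (hN : Odd N) (hcop : Nat.Coprime N p) :
    T ^ AN ε 1 (Fintype.card F) = 1 := by
  classical
  have hinj := frob_inj F
  have hF1 : 1 < Fintype.card F := Fintype.one_lt_card
  obtain ⟨g, hgT, hg⟩ := exists_equiv hN.pos hT hTQ
  have hgN : orderOf g ∣ N := orderOf_dvd_of_pow_eq_one (en_pow_eq_one.2 (by rw [hgT, hT]))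
  have hcg := Nat.Coprime.coprime_dvd_left hgN hcop
  have hg0 : 0 < orderOf g := Nat.pos_of_dvd_of_pos hgN hN.pos
  have hgo : Odd (orderOf g) := Odd.of_dvd_nat hN hgN
  have hdet := eq_one_of_odd hgo (det_sq hQ hg) (by rw [← map_pow, pow_orderOf_eq_one, map_one])
  have hdet1 : LinearMap.det (en g) = 1 := by
    have := congrArg Units.val hdet
    rwa [LinearEquiv.coe_det] at this
  have hED := ed_rts hQ hg
  have hcard := card_rts (en g)
  rw [hV] at hcard
  obtain ⟨μ, h0, hR, hfr⟩ := hED.rest_two hcard (prod_rts hdet1)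
  have hmul : ∀ k, μ ^ k = 1 → orderOf g ∣ k := by
    intro k hk
    refine order_dvd_of_rts (p := p) hcg ?_
    intro w hw
    rw [hR, Multiset.insert_eq_cons, Multiset.mem_cons, Multiset.mem_singleton] at hw
    rcases hw with rfl | rfl
    · exact hk
    · rw [inv_pow, hk, inv_one]
  have hμg : μ ^ orderOf g = 1 := by
    refine pow_of_rts (f := en g) (by rw [← en_pow, pow_orderOf_eq_one]; rfl) ?_
    rw [hR, Multiset.insert_eq_cons]
    exact Multiset.mem_cons_self _ _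
  rw [← hgT, ← en_pow_eq_one, ← orderOf_dvd_iff_pow_eq_one]
  by_cases h1 : orderOf g = 1
  · rw [h1]; exact one_dvd _
  obtain ⟨r, hr, hrg⟩ := Nat.exists_prime_and_dvd h1
  have hro : Odd r := Odd.of_dvd_nat hgo hrg
  have hr2 : r ≠ 2 := by rintro rfl; exact absurd hro (by decide)
  have hrp : ¬ r ∣ p := by
    intro h
    have h4 := Nat.Coprime.coprime_dvd_left hrg hcg
    rw [(Nat.prime_dvd_prime_iff_eq hr (Fact.out : p.Prime)).1 h, Nat.coprime_self] at h4
    exact (Fact.out : p.Prime).one_lt.ne' h4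
  -- `r ∣ q - ε`
  obtain ⟨k, hk⟩ := hrg
  have hk0 : 0 < k := by
    rcases Nat.eq_zero_or_pos k with h | h
    · rw [h, mul_zero] at hk; omega
    · exact h
  have hx1 : (g ^ k) ^ r = 1 := by rw [← pow_mul, mul_comm, ← hk, pow_orderOf_eq_one]
  have hfpf : ∀ v, (g ^ k) v = v → v = 0 := by
    intro v hv
    refine no_fixed (g := en g) (n := k) ?_ (v := v) (by rw [← en_pow]; exact hv)
    intro w hw hw1
    have h4 : μ ^ k = 1 := by
      rw [hR, Multiset.insert_eq_cons, Multiset.mem_cons, Multiset.mem_singleton] at hw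
      rcases hw with rfl | rfl
      · exact hw1
      · rw [inv_pow, inv_eq_one] at hw1
        exact hw1
    have h5 := Nat.le_of_dvd hk0 (hmul k h4)
    have h6 := hr.two_le
    rw [hk] at h5
    have h7 : 2 * k ≤ r * k := Nat.mul_le_mul_right _ h6
    omega
  have hgk : g ^ k ∈ O Q := (O Q).pow_mem hg k
  have hNs := card_of_hasSign' (V := V) (n := 1) (by rw [hV]) hs (one_ne_zero (α := F))
  have hσ : ∀ (j : ℕ) (v : {v : V // Q v = 1}),
      (((fun v : {v : V // Q v = 1} => (⟨(g ^ k) v, by rw [hgk]; exact v.2⟩ : {v : V // Q v = 1}))^[j] v :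
        {v : V // Q v = 1}) : V) = ((g ^ k) ^ j) v := by
    intro j
    induction j with
    | zero => intro v; rfl
    | succ j ih =>
      intro v
      rw [Function.iterate_succ_apply, ih, pow_succ, LinearEquiv.mul_apply]
  have hm1 := modEq_fixed hr (fun v : {v : V // Q v = 1} => (⟨(g ^ k) v, by rw [hgk]; exact v.2⟩ : {v : V // Q v = 1}))
    (fun v => Subtype.ext (by rw [hσ, hx1]; rfl))
  have hm2 : Nat.card {a : {v : V // Q v = 1} //
      (fun v : {v : V // Q v = 1} => (⟨(g ^ k) v, by rw [hgk]; exact v.2⟩ : {v : V // Q v = 1})) a = a} = 0 := by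
    rw [Nat.card_eq_zero]
    left
    refine ⟨fun a => ?_⟩
    have h3 : (g ^ k) (a.1 : V) = a.1 := congrArg Subtype.val a.2
    have h4 := hfpf _ h3
    have h5 := a.1.2
    rw [h4, QuadraticMap.map_zero] at h5
    exact zero_ne_one h5
  rw [hm2] at hm1
  have hm3 : r ∣ Nat.card {v : V // Q v = 1} := (Nat.modEq_zero_iff_dvd).1 hm1
  have hrq : ¬ r ∣ Fintype.card F := by
    intro h
    rw [hF] at h
    exact hrp (hr.dvd_of_dvd_pow h)
  have hrε : (r : ℤ) ∣ (Fintype.card F : ℤ) - ε := by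
    have h4 : (r : ℤ) ∣ (Nat.card F : ℤ) * (Nat.card {v : V // Q v = 1} : ℤ) :=
      dvd_mul_of_dvd_right (Int.natCast_dvd_natCast.2 hm3) _
    rw [hNs, Nat.card_eq_fintype_card] at h4
    have h5 : ((Fintype.card F : ℕ) : ℤ) ^ (2 * 1) - ε * (Fintype.card F : ℤ) ^ 1 =
        (Fintype.card F : ℤ) * ((Fintype.card F : ℤ) - ε) := by ring
    rw [h5] at h4
    rcases (Nat.prime_iff_prime_int.1 hr).dvd_or_dvd h4 with h6 | h6
    · exact absurd (Int.natCast_dvd_natCast.1 h6) hrq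
    · exact h6
  -- the frobenius
  have hA : ∀ δ : ℤ, (δ = 1 ∨ δ = -1) → μ ^ AN δ 1 (Fintype.card F) = 1 → δ = ε := by
    intro δ hδ hμ
    have h4 : (r : ℤ) ∣ (Fintype.card F : ℤ) - δ := by
      have h5 : r ∣ AN δ 1 (Fintype.card F) := (Dvd.intro _ hk.symm).trans (hmul _ hμ)
      have h6 : ((AN δ 1 (Fintype.card F) : ℕ) : ℤ) = (Fintype.card F : ℤ) - δ := by
        rcases hδ with rfl | rfl
        · rw [AN_one, pow_one, Nat.cast_sub hF1.le]; rfl
        · rw [AN_neg, pow_one]; push_cast; ring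
      rw [← h6]
      exact Int.natCast_dvd_natCast.2 h5
    have h5 := dvd_sub h4 hrε
    by_contra hne
    have h6 : (r : ℤ) ∣ 2 := by
      rcases hδ with h | h <;> rcases hε with h' | h' <;> rw [h, h'] at h5 hne
      · exact absurd rfl hne
      · ring_nf at h5; exact (dvd_neg.1 h5)
      · ring_nf at h5; exact h5
      · exact absurd rfl hne
    have h7 : r ∣ 2 := by exact_mod_cast h6
    exact hr2 ((Nat.prime_dvd_prime_iff_eq hr Nat.prime_two).1 h7)
  apply hmul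
  rcases hfr with h | h
  · have h4 : μ ^ AN 1 1 (Fintype.card F) = 1 := by
      rw [AN_one, pow_one]
      apply mul_right_cancel₀ h0
      rw [← pow_succ, Nat.sub_add_cancel hF1.le, h, one_mul]
    rw [← hA 1 (Or.inl rfl) h4]
    exact h4
  · have h4 : μ ^ AN (-1) 1 (Fintype.card F) = 1 := by
      rw [AN_neg, pow_one, pow_succ, h, inv_mul_cancel₀ h0]
    rw [← hA (-1) (Or.inr rfl) h4]
    exact h4

theorem sgn_of_part {n i : ℕ} {δ : ℤ} (hi : (i = 2 * (n - 1) ∧ δ = -1) ∨ (i = n - 1 ∧ Odd (n - 1) ∧ δ = 1)) :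
    sgn i = δ ∧ eta i = n - 1 := by
  rcases hi with ⟨h1, h2⟩ | ⟨h1, h2, h3⟩
  · refine ⟨?_, eta_top (Or.inl h1)⟩
    rw [sgn, if_pos (by rw [h1]; exact even_two_mul _), h2]
  · refine ⟨?_, eta_top (Or.inr ⟨h1, Nat.odd_iff.1 h2⟩)⟩
    rw [sgn, if_neg (by rw [h1]; exact Nat.not_even_iff_odd.2 h2), h3]

/-- **The class of a hyperplane, every characteristic.** -/
theorem dvd_part {p f : ℕ} [Fact p.Prime] [CharP F p] (hF : Fintype.card F = p ^ f) {Q : QuadraticForm F V}
    (hQ : Nondeg Q) {n : ℕ} (hn : 4 ≤ n) (hV : finrank F V = 2 * n) {ε : ℤ} (hε : ε = 1 ∨ ε = -1)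
    (hs : HasSign (⇑Q) n ε) {T : V →ₗ[F] V} (hTQ : ∀ v, Q (T v) = Q v) {N : ℕ} (hN : Odd N)
    (hcop : Nat.Coprime N p) (hT : ∀ j : ℕ, T ^ j = 1 ↔ N ∣ j) {r : ℕ} (hr : r.Prime) (hrp : r ≠ p) (hrN : r ∣ N)
    (h3 : 3 ≤ orderOf ((Fintype.card F : ℕ) : ZMod r)) {δ : ℤ}
    (hi : (orderOf ((Fintype.card F : ℕ) : ZMod r) = 2 * (n - 1) ∧ δ = -1) ∨
      (orderOf ((Fintype.card F : ℕ) : ZMod r) = n - 1 ∧ Odd (n - 1) ∧ δ = 1)) :
    N ∣ Nat.lcm (AN δ (n - 1) (Fintype.card F)) (AN (δ * ε) 1 (Fintype.card F)) := by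
  have hr2 : r ≠ 2 := by
    rintro rfl
    exact absurd (Odd.of_dvd_nat hN hrN) (by decide)
  have hcoF : co (Nat.card F) r = orderOf ((Fintype.card F : ℕ) : ZMod r) := by
    rw [Nat.card_eq_fintype_card]; rfl
  have hδ : δ = 1 ∨ δ = -1 := by rcases hi with ⟨-, h⟩ | ⟨-, -, h⟩ <;> simp [h]
  have h3' := h3
  rw [← hcoF] at h3'
  have hi' := hi
  rw [← hcoF] at hi'
  obtain ⟨hsg, heta⟩ := sgn_of_part hi'
  have hrF := natCast_ne_zero (F := F) hr (not_dvd_of_co hr h3')
  obtain ⟨k, hk⟩ := hrN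
  have hk0 : 0 < k := by
    rcases Nat.eq_zero_or_pos k with h | h
    · have := hN.pos
      rw [h, mul_zero] at hk; omega
    · exact h
  obtain ⟨x, hx⟩ : ∃ x, T ^ k = x := ⟨_, rfl⟩
  have hxr : x ^ r = 1 := by
    rw [← hx, ← pow_mul, hT, hk, mul_comm]
  have hx1 : x ≠ 1 := by
    intro h
    rw [h, hT] at hx
    have h5 := Nat.le_of_dvd hk0 hx
    have h6 := hr.two_le
    rw [hk] at h5
    have h7 : 2 * k ≤ r * k := Nat.mul_le_mul_right _ h6
    omega
  have hxQ : ∀ v, Q (x v) = Q v := by rw [← hx]; exact quad_pow hTQ k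
  have hd := finrank_range_eq Q hQ hr hr2 hrF hxr hx1 hxQ rfl (isEta (co (Nat.card F) r)) (by omega)
  have hcompl := isCompl_fix hrF x hxr
  have hsum := Submodule.finrank_add_eq_of_isCompl hcompl
  have hxT : ∀ v, x (T v) = T (x v) := by
    intro v
    rw [← hx]
    exact LinearMap.congr_fun ((Commute.refl T).pow_left k).eq v
  have hTC := (range_inv hxT).2
  have hTM := (range_inv hxT).1
  have hxM := (range_inv (x := x) (y := x) (fun v => rfl)).1
  obtain ⟨hCnd, hMnd, -, -, hfpf, -⟩ := dec Q hQ (hr.odd_of_ne_two hr2) hrF x hxr hxQ hxM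
  have hC2 : finrank F (LinearMap.ker (x - 1)) = 2 := by omega
  have hM2 : finrank F (LinearMap.range (x - 1)) = 2 * (n - 1) := by omega
  have hsM := sign_of_fpf (Q.comp (LinearMap.range (x - 1)).subtype) hMnd hr hr2 h3' hd (x.restrict hxM)
    (restrict_pow_eq_one hxM hxr) (fun v => hxQ v) hfpf
  obtain ⟨ε', hε', hsC⟩ := exists_hasSign (le_refl 1) (by rw [hC2]) (Q.comp (LinearMap.ker (x - 1)).subtype) hCnd
  have hprod := sign_of_isCompl Q hcompl (by
    intro c hc m hm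
    refine ortho_fix (QuadraticMap.polarBilin Q) x (fun v w => polar_isom Q x hxQ v w) ?_ hm
    rwa [LinearMap.mem_ker, LinearMap.sub_apply, Module.End.one_apply, sub_eq_zero] at hc) hε hε' (sgn_pm _) hsC hsM hs
  rw [hsg] at hprod
  have hεδ : ε' = δ * ε := by
    rcases hδ with h | h <;> rcases hε' with h' | h' <;> rw [hprod, h, h'] <;> norm_num
  have hTN : T ^ N = 1 := (hT N).2 dvd_rfl
  -- on the range
  have hM : (T.restrict hTM) ^ AN δ (n - 1) (Fintype.card F) = 1 := by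
    have hkM : ∀ v, ((T.restrict hTM) ^ k) v = x.restrict hxM v := by
      intro v
      apply Subtype.ext
      rw [Module.End.pow_restrict]
      simp only [hx]
    have hkM' : (T.restrict hTM) ^ k = x.restrict hxM := LinearMap.ext hkM
    refine pow_full (Q := Q.comp (LinearMap.range (x - 1)).subtype) hMnd hM2 (fun v => hTQ v) (N := N)
      (restrict_pow_eq_one hTM hTN) hN.pos hcop hr hrp (k := k) ?_ ?_ hi h3
    · rw [hkM']
      intro h
      have hne : Nontrivial (LinearMap.range (x - 1)) := Module.nontrivial_of_finrank_pos (R := F) (by omega)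
      obtain ⟨w, hw⟩ := exists_ne (0 : LinearMap.range (x - 1))
      exact hw (hfpf w (by rw [h]; rfl))
    · rw [hkM']
      exact restrict_pow_eq_one hxM hxr
  have hC : (T.restrict hTC) ^ AN (δ * ε) 1 (Fintype.card F) = 1 := by
    rw [← hεδ]
    exact pow_plane hF (Q := Q.comp (LinearMap.ker (x - 1)).subtype) hCnd hC2 hε' hsC (fun v => hTQ v) (N := N)
      (restrict_pow_eq_one hTC hTN) hN hcop
  rw [← hT]
  refine eq_one_of_restrict hcompl ?_ ?_
  · intro v hv
    obtain ⟨c, hc⟩ := Nat.dvd_lcm_right (AN δ (n - 1) (Fintype.card F)) (AN (δ * ε) 1 (Fintype.card F))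
    have h4 : (T.restrict hTC) ^ Nat.lcm (AN δ (n - 1) (Fintype.card F)) (AN (δ * ε) 1 (Fintype.card F)) = 1 := by
      rw [hc, pow_mul, hC, one_pow]
    have h5 := congrArg Subtype.val (LinearMap.congr_fun h4 ⟨v, hv⟩)
    rw [Module.End.pow_restrict] at h5
    exact h5
  · intro v hv
    obtain ⟨c, hc⟩ := Nat.dvd_lcm_left (AN δ (n - 1) (Fintype.card F)) (AN (δ * ε) 1 (Fintype.card F))
    have h4 : (T.restrict hTM) ^ Nat.lcm (AN δ (n - 1) (Fintype.card F)) (AN (δ * ε) 1 (Fintype.card F)) = 1 := by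
      rw [hc, pow_mul, hM, one_pow]
    have h5 := congrArg Subtype.val (LinearMap.congr_fun h4 ⟨v, hv⟩)
    rw [Module.End.pow_restrict] at h5
    exact h5

end Pow

end Cfsg.Agent.R2.Spec.P1
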