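import Cfsg.Agent.R2.Spec.P1.TopOrth

/-!
# Team T3 (S3435), box P1b: the exact top tori of `PSp_2n(q)`, `PΩ_{2n+1}(q)`, `q` odd (helper15)
-/

set_option autoImplicit false
set_option linter.unusedSectionVars false

namespace Cfsg.Agent.R2.Spec.P1

open Module Polynomial Cfsg Cfsg.Agent.H426.LieFam Cfsg.Agent.R2.Spec
open Cfsg.Agent.H160.QRoots Cfsg.Agent.H160.QChar Cfsg.Agent.R2.Spec.P1.Eig
open Cfsg.Agent.LieClassical.OrthCore (Nondeg)

universe u

theorem cop_of_top {t : Fam} (ht : Classical t) {p f : ℕ} (hp : p.Prime) {X : Type u} [Group X] [Finite X]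
    (h : Fam.Is p f X t) {r : ℕ} (hr : r.Prime) (hr2 : r ≠ 2) (hrp : ¬ r ∣ p) (h3 : 3 ≤ cls t (p ^ f) r)
    (hm : mem t (cls t (p ^ f) r)) (hn : nap t (cls t (p ^ f) r)) {x : X} (hx : r ∣ orderOf x) :
    Nat.Coprime (orderOf x) p :=
  coprime_of_nadj hr hp (fun h => hrp (by rw [h])) hx fun hy =>
    ((adjFacts ht hp h).adjp r hr hr2 hrp h3 hm).1 hy hn

theorem two_ne_of_cls {t : Fam} {q r : ℕ} (hr : r.Prime) (h3 : 3 ≤ cls t q r) : r ≠ 2 := by
  rintro rfl
  have h1 : ((sg t q : ℤ) : ZMod 2) = 0 ∨ ((sg t q : ℤ) : ZMod 2) = 1 := zmod_two_cases _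
  rw [cls] at h3
  rcases h1 with h1 | h1
  · rw [h1, orderOf_zero] at h3; omega
  · rw [h1, orderOf_one] at h3; omega

/-- the parity data -/
theorem field_data {F : Type*} [Field F] [Fintype F] {p f : ℕ} (hp : p.Prime) (hp2 : p ≠ 2)
    (hF : Fintype.card F = p ^ f) : f ≠ 0 ∧ CharP F p ∧ (2 : F) ≠ 0 ∧ ∃ e, 1 ≤ e ∧ Fintype.card F = 2 * e + 1 := by
  have hf : f ≠ 0 := by
    rintro rfl
    have := Fintype.one_lt_card (α := F)
    rw [hF] at this
    simp at this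
  have hcp : CharP F p := by
    obtain ⟨c, hc⟩ := CharP.exists F
    have hcpr : c.Prime := CharP.char_is_prime F c
    have hcf : Fact c.Prime := ⟨hcpr⟩
    obtain ⟨k, -, hk⟩ := FiniteField.card F c
    rw [hF] at hk
    have h2 : c ∣ p ^ f := by rw [hk]; exact dvd_pow_self c k.ne_zero
    have h3 := (Nat.prime_dvd_prime_iff_eq hcpr hp).1 (hcpr.dvd_of_dvd_pow h2)
    exact h3 ▸ hc
  have hodd : Odd (p ^ f) := (hp.odd_of_ne_two hp2).pow
  refine ⟨hf, hcp, ?_, ?_⟩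
  · intro h
    have h1 : ((2 : ℕ) : F) = 0 := by exact_mod_cast h
    rw [CharP.cast_eq_zero_iff F p] at h1
    exact hp2 ((Nat.prime_dvd_prime_iff_eq hp Nat.prime_two).1 h1)
  · obtain ⟨e, he⟩ := hodd
    refine ⟨e, ?_, by rw [hF, he]⟩
    have := Fintype.one_lt_card (α := F)
    omega

/-- `δ` and the numbers -/
theorem AN_div (δ : ℤ) {n q i : ℕ} (hq : q % 2 = 1)
    (hi : (i = 2 * n ∧ δ = -1) ∨ (i = n ∧ δ = 1)) (hn : 1 ≤ n) :
    (if i = 2 * n then (q ^ n + 1) / Nat.gcd 2 (q - 1) else (q ^ n - 1) / Nat.gcd 2 (q - 1)) = AN δ n q / 2 := by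
  have hg : Nat.gcd 2 (q - 1) = 2 := Nat.gcd_eq_left ⟨(q - 1) / 2, by omega⟩
  rw [hg]
  rcases hi with ⟨h1, h2⟩ | ⟨h1, h2⟩
  · rw [if_pos h1, h2, AN_neg]
  · rw [if_neg (by omega), h2, AN_one]

/-- **Upper bound for `PSp`.** -/
theorem psp_full {F : Type*} [Field F] [Fintype F] {e : ℕ} (he : Fintype.card F = 2 * e + 1) {p : ℕ}
    [Fact p.Prime] [CharP F p] {n : ℕ} (hn : 2 ≤ n) {y : PSp n F} {r : ℕ} (hr : r.Prime) (hrp : r ≠ p)
    (hrg : r ∣ orderOf y) (hcop : Nat.Coprime (orderOf y) p) {δ : ℤ}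
    (hi : (orderOf ((Fintype.card F : ℕ) : ZMod r) = 2 * n ∧ δ = -1) ∨
      (orderOf ((Fintype.card F : ℕ) : ZMod r) = n ∧ Odd n ∧ δ = 1))
    (h3 : 3 ≤ orderOf ((Fintype.card F : ℕ) : ZMod r)) :
    orderOf y ∣ AN δ n (Fintype.card F) / 2 := by
  classical
  obtain ⟨A, rfl⟩ := QuotientGroup.mk_surjective y
  have hinj := frob_inj F
  set M : Matrix (Fin n ⊕ Fin n) (Fin n ⊕ Fin n) F := (A : Matrix (Fin n ⊕ Fin n) (Fin n ⊕ Fin n) F) with hM
  set g : Module.End F (Fin n ⊕ Fin n → F) := Matrix.toLin' M with hg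
  have hfin : finrank F (Fin n ⊕ Fin n → F) = 2 * n := by
    rw [Module.finrank_fintype_fun_eq_card]; simp; ring
  have hroots : (M.map (algebraMap F (AlgebraicClosure F))).charpoly.roots = rts g := by
    rw [Matrix.charpoly_map, rts, hg, Matrix.charpoly_toLin']
  have hJM : Matrix.transpose M * Matrix.J (Fin n) F * M = Matrix.J (Fin n) F := SymplecticGroup.mem_iff'.1 A.2
  have hinv : rts g = (rts g).map (fun x => x⁻¹) := by
    rw [← hroots]
    refine roots_inv (M := M.map (algebraMap F (AlgebraicClosure F)))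
      (G := (Matrix.J (Fin n) F).map (algebraMap F (AlgebraicClosure F))) ?_ ?_ (IsAlgClosed.splits _)
    · have h4 : ((Matrix.J (Fin n) F).map (algebraMap F (AlgebraicClosure F))).det =
          algebraMap F (AlgebraicClosure F) (Matrix.J (Fin n) F).det := by
        rw [RingHom.map_det]; rfl
      rw [h4]
      exact (_root_.map_ne_zero _).2 (Matrix.isUnit_det_J (Fin n) F).ne_zero
    · have h5 := congrArg (fun A : Matrix _ _ F => A.map (algebraMap F (AlgebraicClosure F))) hJM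
      simp only [Matrix.map_mul] at h5
      exact h5
  have hdetM : M.det = 1 := SymplecticGroup.det_eq_one A.2
  have hprod : (rts g).prod = 1 := prod_rts (by rw [hg, LinearMap.det_toLin', hdetM])
  have hED : ED (Fintype.card F) (rts g) := by
    refine ⟨fun x => ?_, fun x => ?_, ?_⟩
    · have := count_frob g x
      convert this using 2
    · conv_lhs => rw [hinv]
      exact Multiset.count_map_eq_count' _ _ inv_injective _
    · rintro x hx rfl
      rw [Multiset.prod_eq_zero hx] at hprod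
      exact zero_ne_one hprod
  have hcard := card_rts g
  rw [hfin] at hcard
  have hpow : ∀ k, g ^ k = 1 ↔ A ^ k = 1 := by
    intro k
    have h4 : (1 : Module.End F (Fin n ⊕ Fin n → F)) = Matrix.toLin' 1 := by
      rw [Matrix.toLin'_one]; rfl
    rw [hg, ← Matrix.toLin'_pow, h4, (Matrix.toLin' (R := F)).injective.eq_iff, Subtype.ext_iff]
    rfl
  have hfinG : Finite (Matrix.symplecticGroup (Fin n) F) := inferInstance
  have hN : 0 < orderOf A := orderOf_pos A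
  obtain ⟨x, hx, k, hk1, hkr⟩ := exists_eig (f := g) (p := p) hN ((hpow _).2 (pow_orderOf_eq_one A))
    (fun k hk => orderOf_dvd_of_pow_eq_one ((hpow k).1 hk)) hr hrp
    (hrg.trans (orderOf_map_dvd (QuotientGroup.mk' _) A))
  obtain ⟨hmin, hb1, hb2, R', hR, -, hc⟩ := hED.block hinj (by omega) hx hr hk1 hkr rfl h3 (m := n)
    (by rcases hi with h | h
        · exact Or.inl h.1
        · exact Or.inr ⟨h.1, h.2.1⟩) (by omega)
  have hR0 : R' = 0 := by
    rw [← Multiset.card_eq_zero]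
    omega
  rw [hR0, add_zero] at hR
  have hblk : Blk (Fintype.card F) n δ x := by
    refine ⟨hmin, ?_⟩
    rcases hi with ⟨h, rfl⟩ | ⟨h, -, rfl⟩
    · exact Or.inr ⟨rfl, hb1 h⟩
    · exact Or.inl ⟨rfl, hb2 h⟩
  have hqodd : Fintype.card F % 2 = 1 := by omega
  have hz := half_sq (hblk.pow (by omega)) (AN_even (δ := δ) (m := n) hqodd)
  obtain ⟨c, hc⟩ := scal_of_rts (f := g) (p := p) (T := AN δ n (Fintype.card F) / 2)
    (z := x ^ (AN δ n (Fintype.card F) / 2)) (by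
      intro w hw
      rw [hR] at hw
      exact pow_of_mem_orb hw rfl hz hqodd) (by omega)
  have h6 : orderOf (QuotientGroup.mk A : PSp n F) ∣
      AN δ n (Fintype.card F) / 2 * p ^ finrank F (Fin n ⊕ Fin n → F) := by
    apply orderOf_dvd_of_pow_eq_one
    rw [← QuotientGroup.mk_pow, QuotientGroup.eq_one_iff, Subgroup.mem_center_iff]
    intro B
    apply Subtype.ext
    have h7 : M ^ (AN δ n (Fintype.card F) / 2 * p ^ finrank F (Fin n ⊕ Fin n → F)) = c • 1 := by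
      apply (Matrix.toLin' (R := F)).injective
      rw [Matrix.toLin'_pow, ← hg, hc, map_smul, Matrix.toLin'_one]
      rfl
    show (B : Matrix (Fin n ⊕ Fin n) (Fin n ⊕ Fin n) F) * M ^ (AN δ n (Fintype.card F) / 2 * p ^ finrank F (Fin n ⊕ Fin n → F)) =
      M ^ (AN δ n (Fintype.card F) / 2 * p ^ finrank F (Fin n ⊕ Fin n → F)) * (B : Matrix (Fin n ⊕ Fin n) (Fin n ⊕ Fin n) F)
    rw [h7, Matrix.mul_smul, Matrix.smul_mul, Matrix.mul_one, Matrix.one_mul]
  exact (hcop.pow_right _).dvd_of_dvd_mul_right h6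

theorem exists_delta {n i : ℕ} (h : i = 2 * n ∨ (i = n ∧ n % 2 = 1)) :
    ∃ δ : ℤ, (δ = 1 ∨ δ = -1) ∧ ((i = 2 * n ∧ δ = -1) ∨ (i = n ∧ Odd n ∧ δ = 1)) := by
  rcases h with h | ⟨h1, h2⟩
  · exact ⟨-1, Or.inr rfl, Or.inl ⟨h, rfl⟩⟩
  · exact ⟨1, Or.inl rfl, Or.inr ⟨h1, Nat.odd_iff.2 h2, rfl⟩⟩

theorem eta_top {n i : ℕ} (h : i = 2 * n ∨ (i = n ∧ n % 2 = 1)) : eta i = n := by
  rcases eta_cases i with ⟨h1, h2⟩ | ⟨h1, h2⟩
  · rcases h with h | ⟨h, -⟩
    · rw [h] at h1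
      exact absurd (even_two_mul n) (Nat.not_even_iff_odd.2 h1)
    · omega
  · rcases h with h | ⟨h, h3⟩
    · omega
    · rw [h, Nat.even_iff] at h1
      omega

/-- **`PSp_2n(q)`** -/
theorem top_facts_psp {p f n : ℕ} {X : Type u} [Group X] [Finite X] (hp : p.Prime) (hp2 : p ≠ 2)
    (h : Fam.Is p f X (.psp n)) : TopFacts (.psp n) p f X := by
  have hfp := Fact.mk hp
  have hLL := h
  obtain ⟨hn, -, F, _, _, hch, hF, ⟨E⟩⟩ := h
  obtain ⟨hf, -, h2, e, he1, he⟩ := field_data hp hp2 hF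
  obtain ⟨q, hq⟩ : ∃ q, q = p ^ f := ⟨_, rfl⟩
  have hqF : Fintype.card F = q := by rw [hF, hq]
  have hqo : q % 2 = 1 := by omega
  refine ⟨?_, ?_⟩
  · intro i hi
    change i = 2 * n ∨ (i = n ∧ n % 2 = 1) at hi
    obtain ⟨δ, hδ, hi'⟩ := exists_delta hi
    rw [← hq]
    have h1 : ttor (.psp n) q i = AN δ n q / 2 :=
      AN_div δ hqo (by rcases hi' with h | h; exacts [Or.inl h, Or.inr ⟨h.1, h.2.2⟩]) (by omega)
    rw [h1]
    have hev := AN_even (δ := δ) (m := n) hqo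
    have hqn : q ≤ q ^ n := Nat.le_self_pow (by omega) q
    rcases hδ with rfl | rfl
    · rw [AN_one] at hev ⊢
      obtain ⟨g, hg⟩ := Cfsg.Agent.H377.exists_psp_tor_plus (F := F) (m := n) (by omega) (N := (q ^ n - 1) / 2) (by omega)
        (Or.inr (by rw [Nat.card_eq_fintype_card, hqF, hev]))
      exact ⟨E.symm g, by rw [← hg, MulEquiv.orderOf_eq]⟩
    · rw [AN_neg] at hev ⊢
      obtain ⟨g, hg⟩ := Cfsg.Agent.H377.exists_psp_tor_minus (F := F) (m := n) (by omega) (N := (q ^ n + 1) / 2) (by omega)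
        (Or.inr (by rw [Nat.card_eq_fintype_card, hqF, hev]))
      exact ⟨E.symm g, by rw [← hg, MulEquiv.orderOf_eq]⟩
  · intro r hr hrp hi x hx
    change cls (.psp n) (p ^ f) r = 2 * n ∨ (cls (.psp n) (p ^ f) r = n ∧ n % 2 = 1) at hi
    have hrp' : r ≠ p := fun h => hrp (by rw [h])
    have h3 : 3 ≤ cls (.psp n) (p ^ f) r := by omega
    have heta := eta_top hi
    have hcop := cop_of_top (t := .psp n) trivial hp hLL hr (two_ne_of_cls hr h3) hrp h3
      (show eta _ ≤ n by omega) (show n < eta _ + 1 by omega) hx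
    obtain ⟨δ, hδ, hi'⟩ := exists_delta hi
    have hco : cls (.psp n) (p ^ f) r = orderOf ((Fintype.card F : ℕ) : ZMod r) := by
      rw [cls_eq_co (fun _ h => by cases h), hF]; rfl
    have h1 : ttor (.psp n) (p ^ f) (cls (.psp n) (p ^ f) r) = AN δ n (p ^ f) / 2 :=
      AN_div δ (by rw [← hq]; exact hqo)
        (by rcases hi' with h | h; exacts [Or.inl h, Or.inr ⟨h.1, h.2.2⟩]) (by omega)
    rw [h1, ← MulEquiv.orderOf_eq E x, ← hF]
    rw [← MulEquiv.orderOf_eq E x] at hx hcop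
    rw [hco] at hi' h3
    exact psp_full he hn hr hrp' hx hcop hi' h3

end Cfsg.Agent.R2.Spec.P1
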