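import Cfsg.Agent.R2.Spec.P1.TopLinAll
import Cfsg.Agent.R2.Spec.P1.TopSp

/-!
# Team T3 (S3435), box P1b: the exact top tori of `PSp_2n(q)`, `q` even (helper15)
-/

set_option autoImplicit false
set_option linter.unusedSectionVars false

namespace Cfsg.Agent.R2.Spec.P1

open Module Polynomial Cfsg Cfsg.Agent.H426.LieFam Cfsg.Agent.R2.Spec
open Cfsg.Agent.H160.QRoots Cfsg.Agent.H160.QChar Cfsg.Agent.R2.Spec.P1.Eig
open Cfsg.Agent.LieClassical.OrthCore (Nondeg)

universe u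

theorem pow_one_of_mem_orb {K : Type*} [Field K] [DecidableEq K] {q : ℕ} {μ x : K} {d N : ℕ} (hx : x ∈ orb q μ d)
    (h : μ ^ N = 1) : x ^ N = 1 := by
  obtain ⟨i, -, rfl | rfl⟩ := mem_orb.1 hx
  · rw [← pow_mul, mul_comm, pow_mul, h, one_pow]
  · rw [inv_pow, ← pow_mul, mul_comm, pow_mul, h, one_pow, inv_one]

/-- the parity data, `p = 2` -/
theorem field_data_two {F : Type*} [Field F] [Fintype F] {f : ℕ} (hF : Fintype.card F = 2 ^ f) :
    f ≠ 0 ∧ 2 ^ f % 2 = 0 ∧ 2 ≤ 2 ^ f := by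
  have hf : f ≠ 0 := by
    rintro rfl
    have := Fintype.one_lt_card (α := F)
    rw [hF] at this
    simp at this
  obtain ⟨g, rfl⟩ := Nat.exists_eq_succ_of_ne_zero hf
  refine ⟨hf, by rw [pow_succ]; omega, ?_⟩
  have := Nat.one_le_pow g 2 (by norm_num)
  rw [pow_succ]
  omega

theorem AN_odd {δ : ℤ} {m q : ℕ} (hq : q % 2 = 0) (hq2 : 2 ≤ q) (hm : m ≠ 0) : Odd (AN δ m q) := by
  have h1 : 2 ∣ q ^ m := (Nat.dvd_of_mod_eq_zero hq).trans (dvd_pow_self q hm)
  have h2 : 1 ≤ q ^ m := Nat.one_le_pow _ _ (by omega)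
  rw [AN, Nat.odd_iff]
  split_ifs <;> omega

/-- **Upper bound for `PSp`.** -/
theorem psp_full_all {F : Type*} [Field F] [Fintype F] {p : ℕ}
    [Fact p.Prime] [CharP F p] {n : ℕ} (hn : 2 ≤ n) {y : PSp n F} {r : ℕ} (hr : r.Prime) (hrp : r ≠ p)
    (hrg : r ∣ orderOf y) (hcop : Nat.Coprime (orderOf y) p) {δ : ℤ}
    (hi : (orderOf ((Fintype.card F : ℕ) : ZMod r) = 2 * n ∧ δ = -1) ∨
      (orderOf ((Fintype.card F : ℕ) : ZMod r) = n ∧ Odd n ∧ δ = 1))
    (h3 : 3 ≤ orderOf ((Fintype.card F : ℕ) : ZMod r)) :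
    orderOf y ∣ AN δ n (Fintype.card F) := by
  classical
  obtain ⟨A, rfl⟩ := QuotientGroup.mk_surjective y
  have hinj := frob_inj F
  have hF1 : 1 < Fintype.card F := Fintype.one_lt_card
  set M : Matrix (Fin n ⊕ Fin n) (Fin n ⊕ Fin n) F := (A : Matrix (Fin n ⊕ Fin n) (Fin n ⊕ Fin n) F) with hM
  set g : Module.End F (Fin n ⊕ Fin n → F) := Matrix.toLin' M with hg
  have hfin : finrank F (Fin n ⊕ Fin n → F) = 2 * n := by
    rw [Module.finrank_fintype_fun_eq_card]; simp; ring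
  have hroots : (M.map (algebraMap F (AlgebraicClosure F))).charpoly.roots = rts g := by
    rw [Matrix.charpoly_map, rts, hg, Matrix.charpoly_toLin']
  have hJM : Matrix.transpose M * Matrix.J (Fin n) F * M = Matrix.J (Fin n) F := SymplecticGroup.mem_iff'.1 A.2
  have hinv : rts g = (rts g).map (fun x => x⁻¹) := by
    rw [← hroots]
    refine roots_inv (M := M.map (algebraMap F (AlgebraicClosure F)))
      (G := (Matrix.J (Fin n) F).map (algebraMap F (AlgebraicClosure F))) ?_ ?_ (IsAlgClosed.splits _)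
    · have h4 : ((Matrix.J (Fin n) F).map (algebraMap F (AlgebraicClosure F))).det =
          algebraMap F (AlgebraicClosure F) (Matrix.J (Fin n) F).det := by
        rw [RingHom.map_det]; rfl
      rw [h4]
      exact (_root_.map_ne_zero _).2 (Matrix.isUnit_det_J (Fin n) F).ne_zero
    · have h5 := congrArg (fun A : Matrix _ _ F => A.map (algebraMap F (AlgebraicClosure F))) hJM
      simp only [Matrix.map_mul] at h5
      exact h5
  have hdetM : M.det = 1 := SymplecticGroup.det_eq_one A.2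
  have hprod : (rts g).prod = 1 := prod_rts (by rw [hg, LinearMap.det_toLin', hdetM])
  have hED : ED (Fintype.card F) (rts g) := by
    refine ⟨fun x => ?_, fun x => ?_, ?_⟩
    · have := count_frob g x
      convert this using 2
    · conv_lhs => rw [hinv]
      exact Multiset.count_map_eq_count' _ _ inv_injective _
    · rintro x hx rfl
      rw [Multiset.prod_eq_zero hx] at hprod
      exact zero_ne_one hprod
  have hcard := card_rts g
  rw [hfin] at hcard
  have hpow : ∀ k, g ^ k = 1 ↔ A ^ k = 1 := by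
    intro k
    have h4 : (1 : Module.End F (Fin n ⊕ Fin n → F)) = Matrix.toLin' 1 := by
      rw [Matrix.toLin'_one]; rfl
    rw [hg, ← Matrix.toLin'_pow, h4, (Matrix.toLin' (R := F)).injective.eq_iff, Subtype.ext_iff]
    rfl
  have hfinG : Finite (Matrix.symplecticGroup (Fin n) F) := inferInstance
  have hN : 0 < orderOf A := orderOf_pos A
  obtain ⟨x, hx, k, hk1, hkr⟩ := exists_eig (f := g) (p := p) hN ((hpow _).2 (pow_orderOf_eq_one A))
    (fun k hk => orderOf_dvd_of_pow_eq_one ((hpow k).1 hk)) hr hrp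
    (hrg.trans (orderOf_map_dvd (QuotientGroup.mk' _) A))
  obtain ⟨hmin, hb1, hb2, R', hR, -, hc⟩ := hED.block hinj (by omega) hx hr hk1 hkr rfl h3 (m := n)
    (by rcases hi with h | h
        · exact Or.inl h.1
        · exact Or.inr ⟨h.1, h.2.1⟩) (by omega)
  have hR0 : R' = 0 := by
    rw [← Multiset.card_eq_zero]
    omega
  rw [hR0, add_zero] at hR
  have hblk : Blk (Fintype.card F) n δ x := by
    refine ⟨hmin, ?_⟩
    rcases hi with ⟨h, rfl⟩ | ⟨h, -, rfl⟩
    · exact Or.inr ⟨rfl, hb1 h⟩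
    · exact Or.inl ⟨rfl, hb2 h⟩
  obtain ⟨c, hc⟩ := scal_of_rts (f := g) (p := p) (T := AN δ n (Fintype.card F)) (z := 1) (by
      intro w hw
      rw [hR] at hw
      exact pow_one_of_mem_orb hw (hblk.pow (by omega))) (by omega)
  have h6 : orderOf (QuotientGroup.mk A : PSp n F) ∣
      AN δ n (Fintype.card F) * p ^ finrank F (Fin n ⊕ Fin n → F) := by
    apply orderOf_dvd_of_pow_eq_one
    rw [← QuotientGroup.mk_pow, QuotientGroup.eq_one_iff, Subgroup.mem_center_iff]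
    intro B
    apply Subtype.ext
    have h7 : M ^ (AN δ n (Fintype.card F) * p ^ finrank F (Fin n ⊕ Fin n → F)) = c • 1 := by
      apply (Matrix.toLin' (R := F)).injective
      rw [Matrix.toLin'_pow, ← hg, hc, map_smul, Matrix.toLin'_one]
      rfl
    show (B : Matrix (Fin n ⊕ Fin n) (Fin n ⊕ Fin n) F) * M ^ (AN δ n (Fintype.card F) * p ^ finrank F (Fin n ⊕ Fin n → F)) =
      M ^ (AN δ n (Fintype.card F) * p ^ finrank F (Fin n ⊕ Fin n → F)) * (B : Matrix (Fin n ⊕ Fin n) (Fin n ⊕ Fin n) F)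
    rw [h7, Matrix.mul_smul, Matrix.smul_mul, Matrix.mul_one, Matrix.one_mul]
  exact (hcop.pow_right _).dvd_of_dvd_mul_right h6

/-- **`PSp_2n(q)`, `q` even** -/
theorem top_facts_psp_two {f n : ℕ} {X : Type u} [Group X] [Finite X] (h : Fam.Is 2 f X (.psp n)) :
    TopFacts (.psp n) 2 f X := by
  have hfp := Fact.mk Nat.prime_two
  have hLL := h
  obtain ⟨hn, -, F, _, _, hch, hF, ⟨E⟩⟩ := h
  obtain ⟨hf, hq0, hq2⟩ := field_data_two hF
  have hg1 : Nat.gcd 2 (2 ^ f - 1) = 1 := by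
    have h1 : Nat.gcd 2 (2 ^ f - 1) ∣ 2 := Nat.gcd_dvd_left _ _
    have h2 : Nat.gcd 2 (2 ^ f - 1) ∣ 2 ^ f - 1 := Nat.gcd_dvd_right _ _
    rcases (Nat.dvd_prime Nat.prime_two).1 h1 with h | h
    · exact h
    · rw [h] at h2; omega
  have htt : ∀ (i : ℕ) (δ : ℤ), ((i = 2 * n ∧ δ = -1) ∨ (i = n ∧ Odd n ∧ δ = 1)) →
      ttor (.psp n) (2 ^ f) i = AN δ n (2 ^ f) := by
    rintro i δ (⟨h1, rfl⟩ | ⟨h1, -, rfl⟩)
    · rw [ttor, if_pos h1, hg1, Nat.div_one, AN_neg]
    · rw [ttor, if_neg (by omega), hg1, Nat.div_one, AN_one]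
  have hcardF : Nat.card F = 2 ^ f := by rw [Nat.card_eq_fintype_card, hF]
  refine ⟨?_, ?_⟩
  · intro i hi
    change i = 2 * n ∨ (i = n ∧ n % 2 = 1) at hi
    obtain ⟨δ, hδ, hi'⟩ := exists_delta hi
    rw [htt i δ hi']
    have hodd := AN_odd (δ := δ) (m := n) hq0 hq2 (by omega)
    rcases hδ with rfl | rfl
    · obtain ⟨g, hg⟩ := Cfsg.Agent.H377.exists_psp_tor_plus (F := F) (m := n) (by omega) (N := AN 1 n (2 ^ f))
        hodd.pos (Or.inl ⟨hodd, by rw [hcardF, AN_one]⟩)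
      exact ⟨E.symm g, by rw [← hg, MulEquiv.orderOf_eq]⟩
    · obtain ⟨g, hg⟩ := Cfsg.Agent.H377.exists_psp_tor_minus (F := F) (m := n) (by omega) (N := AN (-1) n (2 ^ f))
        hodd.pos (Or.inl ⟨hodd, by rw [hcardF, AN_neg]⟩)
      exact ⟨E.symm g, by rw [← hg, MulEquiv.orderOf_eq]⟩
  · intro r hr hrp hi x hx
    change cls (.psp n) (2 ^ f) r = 2 * n ∨ (cls (.psp n) (2 ^ f) r = n ∧ n % 2 = 1) at hi
    have hrp' : r ≠ 2 := fun h => hrp (by rw [h])
    have h3 : 3 ≤ cls (.psp n) (2 ^ f) r := by omega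
    have heta := eta_top hi
    have hcop := cop_of_top (t := .psp n) trivial Nat.prime_two hLL hr (two_ne_of_cls hr h3) hrp h3
      (show eta _ ≤ n by omega) (show n < eta _ + 1 by omega) hx
    obtain ⟨δ, hδ, hi'⟩ := exists_delta hi
    have hco : cls (.psp n) (2 ^ f) r = orderOf ((Fintype.card F : ℕ) : ZMod r) := by
      rw [cls_eq_co (fun _ h => by cases h), hF]; rfl
    rw [htt _ δ hi', ← MulEquiv.orderOf_eq E x, ← hF]
    rw [← MulEquiv.orderOf_eq E x] at hx hcop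
    rw [hco] at hi' h3
    exact psp_full_all hn hr hrp' hx hcop hi' h3

end Cfsg.Agent.R2.Spec.P1
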