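import Cfsg.Agent.R2.Spec.P1.TopTor
import Cfsg.Agent.H160.QModel
import Cfsg.Agent.R2.Spec.P1.TopLin

/-!
# Team T3 (S3435), box P1b: elements of the tori in `PΩ^±_2n(q)`, `q` odd (helper15)
-/

set_option autoImplicit false
set_option linter.unusedSectionVars false

namespace Cfsg.Agent.R2.Spec.P1.Eig

open QuadraticMap Module Polynomial Cfsg
open Cfsg.Agent.LieClassical.OrthCore Cfsg.Agent.LieClassical.OrthFinite Cfsg.Agent.LieClassical.OrthForms
  Cfsg.Agent.H160.QSpin Cfsg.Agent.H160.QDisc Cfsg.Agent.H160.QSplit Cfsg.Agent.H160.QFinal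
open Cfsg.Agent.H160.QRoots Cfsg.Agent.H160.QChar Cfsg.Agent.H160.QModel Cfsg.Agent.H160.QReal

section Model

variable {F : Type*} [Field F] [Fintype F] [DecidableEq F] [DecidableEq (AlgebraicClosure F)]

/-- the data of a torus -/
def Tor (F : Type*) [Field F] [Fintype F] [DecidableEq F] (e n : ℕ) (δ : ℤ) : Prop :=
  ∃ (Q : QuadraticForm F (Fin (2 * n) → F)) (g : (Fin (2 * n) → F) ≃ₗ[F] (Fin (2 * n) → F)), Nondeg Q ∧
    El Q (-1) g ∧ orderOf g = AN δ n (Fintype.card F) ∧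
    ((dc Q : ℤ) : AlgebraicClosure F) = (-1) ^ (n * e) * (δ : AlgebraicClosure F)

theorem exists_tor (h2 : (2 : F) ≠ 0) {e : ℕ} (he : Fintype.card F = 2 * e + 1) (he1 : 1 ≤ e) {p f : ℕ} [Fact p.Prime]
    [CharP F p] (hF : Fintype.card F = p ^ f) (hf : f ≠ 0) {n : ℕ} (hn : 3 ≤ n) {δ : ℤ}
    (hδ : δ = -1 ∨ (Odd n ∧ δ = 1)) : Tor F e n δ := by
  obtain ⟨d, s, Q, g, hQ, -, hg, ho⟩ : ∃ (d : ℤ) (s : ℤˣ), Rz F (2 * n) d s (AN δ n (Fintype.card F)) := by
    rcases hδ with rfl | ⟨-, rfl⟩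
    · obtain ⟨c, s, -, -, h⟩ := rz_nonsplit (F := F) h2 (d := n) (by omega)
      exact ⟨c, s, by rw [AN_neg]; exact h⟩
    · obtain ⟨s, h⟩ := rz_split (F := F) (d := n) (by omega)
      exact ⟨_, s, by rw [AN_one]; exact h⟩
  obtain ⟨rfl, hd⟩ := tor_sign h2 he he1 hF hf hQ hn (by simp) hg hδ ho
  exact ⟨Q, g, hQ, hg, ho, hd⟩

theorem exists_tor_two (h2 : (2 : F) ≠ 0) {e : ℕ} (he : Fintype.card F = 2 * e + 1) (he1 : 1 ≤ e) {p f : ℕ}
    [Fact p.Prime] [CharP F p] (hF : Fintype.card F = p ^ f) (hf : f ≠ 0) {δ : ℤ} (hδ : δ = 1 ∨ δ = -1) :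
    Tor F e 1 δ := by
  by_cases hsmall : δ = 1 ∧ e = 1
  · obtain ⟨rfl, rfl⟩ := hsmall
    obtain ⟨s, Q, g, hQ, hdc, -⟩ := rz_split (F := F) (d := 1) one_ne_zero
    have h1 : ((dc Q : ℤ) : AlgebraicClosure F) = (-1) ^ (1 * 1) * ((1 : ℤ) : AlgebraicClosure F) := by
      rw [hdc, pow_one, qc_eq h2 he, map_neg, map_one]
      norm_num
    have h3 : dc Q = -1 := by
      rcases dc_cases hQ with h | h
      · exfalso
        rw [h] at h1
        apply two_ne_K h2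
        push_cast at h1
        linear_combination h1
      · exact h
    have h4 := el_neg h2 hQ (by simp) (s := -1) (by rw [h3]; rfl)
    refine ⟨Q, LinearEquiv.neg F, hQ, h4, ?_, h1⟩
    rw [he, AN_one]
    show _ = 2
    refine orderOf_eq_prime ?_ ?_
    · ext v
      simp [pow_two]
    · intro h
      have h5 := congrArg (fun g : (Fin (2 * 1) → F) ≃ₗ[F] (Fin (2 * 1) → F) => g (fun _ => 1) 0) h
      simp only [LinearEquiv.neg_apply, LinearEquiv.coe_one, id_eq, Pi.neg_apply] at h5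
      apply h2
      linear_combination -h5
  · obtain ⟨d, s, Q, g, hQ, -, hg, ho⟩ : ∃ (d : ℤ) (s : ℤˣ), Rz F (2 * 1) d s (AN δ 1 (Fintype.card F)) := by
      rcases hδ with rfl | rfl
      · obtain ⟨s, h⟩ := rz_split (F := F) (d := 1) (by omega)
        exact ⟨_, s, by rw [AN_one]; exact h⟩
      · obtain ⟨c, s, -, -, h⟩ := rz_nonsplit (F := F) h2 (d := 1) (by omega)
        exact ⟨c, s, by rw [AN_neg]; exact h⟩
    obtain ⟨rfl, hd⟩ := tor_sign_two h2 he he1 hF hf hQ (by simp) hg hδ ho (by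
      rw [ho]
      rcases hδ with rfl | rfl
      · rw [AN_one, pow_one, he]
        have : ¬ e = 1 := fun h => hsmall ⟨rfl, h⟩
        omega
      · rw [AN_neg, pow_one, he]; omega)
    exact ⟨Q, g, hQ, hg, ho, hd⟩

theorem dc_eq_of_K (h2 : (2 : F) ≠ 0) {V W : Type*} [AddCommGroup V] [Module F V] [FiniteDimensional F V]
    [AddCommGroup W] [Module F W] [FiniteDimensional F W] {Q : QuadraticForm F V} {Q' : QuadraticForm F W}
    (hQ : Nondeg Q) (hQ' : Nondeg Q') (h : ((dc Q : ℤ) : AlgebraicClosure F) = ((dc Q' : ℤ) : AlgebraicClosure F)) :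
    dc Q = dc Q' := by
  have h3 := two_ne_K h2
  rcases dc_cases hQ with h1 | h1 <;> rcases dc_cases hQ' with h1' | h1' <;> rw [h1, h1'] at h ⊢
  · exfalso
    push_cast at h
    exact h3 (by linear_combination h)
  · exfalso
    push_cast at h
    exact h3 (by linear_combination -h)

end Model

theorem half_of_neg {F V : Type*} [Field F] [AddCommGroup V] [Module F V] (h2 : (2 : F) ≠ 0) {g : V ≃ₗ[F] V} {k a : ℕ}
    (h : g ^ k = LinearEquiv.neg F) {v : V} (hv : v ≠ 0) (ho : orderOf g = 2 * a) : ∃ j, k = a * j ∧ j % 2 = 1 := by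
  have h1 : g ^ (2 * k) = 1 := by
    rw [mul_comm, pow_mul, h]
    ext v
    simp [pow_two]
  have h3 := orderOf_dvd_of_pow_eq_one h1
  rw [ho] at h3
  obtain ⟨j, rfl⟩ := Nat.dvd_of_mul_dvd_mul_left (by norm_num) h3
  refine ⟨j, rfl, ?_⟩
  by_contra hcon
  have h4 : j % 2 = 0 := by omega
  obtain ⟨i, rfl⟩ := Nat.dvd_of_mod_eq_zero h4
  have h5 : g ^ (a * (2 * i)) = 1 := by
    rw [show a * (2 * i) = (2 * a) * i by ring, pow_mul, ← ho, pow_orderOf_eq_one, one_pow]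
  rw [h5] at h
  have h6 := congrArg (fun g : V ≃ₗ[F] V => g v) h
  simp only [LinearEquiv.coe_one, id_eq, LinearEquiv.neg_apply] at h6
  have h7 : (2 : F) • v = 0 := by
    rw [two_smul]
    nth_rewrite 1 [h6]
    exact neg_add_cancel v
  rcases smul_eq_zero.1 h7 with h8 | h8
  · exact h2 h8
  · exact hv h8

section Ex

variable {F : Type*} [Field F] [Fintype F] [DecidableEq F] {ι : Type} [Fintype ι] [DecidableEq ι]
  [DecidableEq (AlgebraicClosure F)]

/-- **Elements, full class.** -/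
theorem full_exists (h2 : (2 : F) ≠ 0) {e : ℕ} (he : Fintype.card F = 2 * e + 1) (he1 : 1 ≤ e) {p f : ℕ}
    [Fact p.Prime] [CharP F p] (hF : Fintype.card F = p ^ f) (hf : f ≠ 0) {Q : QuadraticForm F (ι → F)} (hQ : Nondeg Q)
    {n : ℕ} (hn : 3 ≤ n) (hι : Fintype.card ι = 2 * n) {δ : ℤ}
    (hdc : ((dc Q : ℤ) : AlgebraicClosure F) = (-1) ^ (n * e) * (δ : AlgebraicClosure F))
    (hδ : δ = -1 ∨ (Odd n ∧ δ = 1)) :
    ∃ x : POmega F ⇑Q, orderOf x = AN δ n (Fintype.card F) / Nat.gcd 4 (AN δ n (Fintype.card F)) := by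
  obtain ⟨Q₁, g₁, hQ₁, hg₁, ho₁, hd₁⟩ := exists_tor h2 he he1 hF hf hn hδ
  have hfin : finrank F (ι → F) = 2 * n := by rw [Module.finrank_fintype_fun_eq_card, hι]
  obtain ⟨E, hE⟩ := exists_iso h2 hQ₁ hQ (by rw [hfin]; simp) (dc_eq_of_K h2 hQ₁ hQ (by rw [hd₁, hdc]))
  have hel := (hg₁.cj hE).pow 2
  rw [neg_one_sq] at hel
  obtain ⟨x, hx⟩ := exists_pomega h2 hQ (by omega) hel
  have hev := AN_even (δ := δ) (m := n) (q := Fintype.card F) (by omega)
  have hord : orderOf (cj E g₁) = 2 * (AN δ n (Fintype.card F) / 2) := by rw [orderOf_cj, ho₁, hev]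
  have hA2 := AN_pos (δ := δ) (m := n) (q := Fintype.card F) (by omega) (by omega)
  generalize hA : AN δ n (Fintype.card F) = A at hev hord hA2 ⊢
  have hnz : ∃ v : ι → F, v ≠ 0 := by
    have : Nontrivial (ι → F) := Module.nontrivial_of_finrank_pos (R := F) (by omega)
    exact exists_ne 0
  obtain ⟨v, hv⟩ := hnz
  have hfinX : Finite (POmega F ⇑Q) := inferInstance
  refine exists_of_dvd (x := x) ?_
  have hg4 : (Nat.gcd 4 A = 4 ∧ 4 ∣ A) ∨ (Nat.gcd 4 A = 2 ∧ ¬ 4 ∣ A) := by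
    by_cases h4 : 4 ∣ A
    · exact Or.inl ⟨Nat.gcd_eq_left h4, h4⟩
    · right
      refine ⟨?_, h4⟩
      have h5 : Nat.gcd 4 A ∣ 4 := Nat.gcd_dvd_left _ _
      have h6 : 2 ∣ Nat.gcd 4 A := Nat.dvd_gcd (by norm_num) ⟨A / 2, hev.symm⟩
      have h7 := Nat.le_of_dvd (by norm_num) h5
      have h8 : Nat.gcd 4 A ≠ 4 := fun h => h4 (h ▸ Nat.gcd_dvd_right _ _)
      interval_cases Nat.gcd 4 A <;> omega
  have hT : A / Nat.gcd 4 A ∣ A / 2 := by
    rcases hg4 with ⟨h5, h6⟩ | ⟨h5, -⟩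
    · rw [h5]
      obtain ⟨c, rfl⟩ := h6
      exact ⟨2, by omega⟩
    · rw [h5]
  rcases hx _ (pow_orderOf_eq_one x) with h3 | h3
  · rw [← pow_mul] at h3
    have h4 := orderOf_dvd_of_pow_eq_one h3
    rw [hord] at h4
    exact hT.trans (Nat.dvd_of_mul_dvd_mul_left (by norm_num) h4)
  · rw [← pow_mul] at h3
    obtain ⟨j, hj, hj1⟩ := half_of_neg h2 h3 hv hord
    rcases hg4 with ⟨h5, h6⟩ | ⟨h5, h6⟩
    · rw [h5]
      obtain ⟨c, rfl⟩ := h6
      rw [Nat.mul_div_cancel_left _ (by norm_num)]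
      refine ⟨j, ?_⟩
      have h7 : 4 * c / 2 = 2 * c := by omega
      rw [h7, mul_assoc] at hj
      omega
    · exfalso
      have h7 : (A / 2) % 2 = 1 := by omega
      have h8 : (A / 2 * j) % 2 = 1 := by rw [Nat.mul_mod, h7, hj1]
      omega

/-- **Elements, the class of a hyperplane.** -/
theorem part_exists (h2 : (2 : F) ≠ 0) {e : ℕ} (he : Fintype.card F = 2 * e + 1) (he1 : 1 ≤ e) {p f : ℕ}
    [Fact p.Prime] [CharP F p] (hF : Fintype.card F = p ^ f) (hf : f ≠ 0) {Q : QuadraticForm F (ι → F)} (hQ : Nondeg Q)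
    {n : ℕ} (hn : 4 ≤ n) (hι : Fintype.card ι = 2 * n) {ε : ℤ} (hε : ε = 1 ∨ ε = -1)
    (hdc : ((dc Q : ℤ) : AlgebraicClosure F) = (-1) ^ (n * e) * (ε : AlgebraicClosure F)) {δ : ℤ}
    (hδ : δ = -1 ∨ (Odd (n - 1) ∧ δ = 1)) {T : ℕ}
    (hT : TC (AN δ (n - 1) (Fintype.card F) / 2) (AN (δ * ε) 1 (Fintype.card F) / 2) T) :
    ∃ x : POmega F ⇑Q, orderOf x = T := by
  obtain ⟨m, rfl⟩ : ∃ m, n = m + 1 := ⟨n - 1, by omega⟩
  rw [Nat.add_sub_cancel] at hδ hT
  have hδ' : δ = 1 ∨ δ = -1 := by rcases hδ with h | ⟨-, h⟩ <;> simp [h]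
  obtain ⟨Q₁, g₁, hQ₁, hg₁, ho₁, hd₁⟩ := exists_tor h2 he he1 hF hf (n := m) (by omega) hδ
  obtain ⟨Q₂, g₂, hQ₂, hg₂, ho₂, hd₂⟩ := exists_tor_two h2 he he1 hF hf (δ := δ * ε) (by
    rcases hδ' with h | h <;> rcases hε with h' | h' <;> rw [h, h'] <;> norm_num)
  have hfin : finrank F (ι → F) = 2 * (m + 1) := by rw [Module.finrank_fintype_fun_eq_card, hι]
  have hQp := nondeg_prod hQ₁ hQ₂
  have hδK : (δ : AlgebraicClosure F) * δ = 1 := by rcases hδ' with h | h <;> rw [h] <;> norm_num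
  obtain ⟨E, hE⟩ := exists_iso h2 hQp hQ (by rw [hfin, finrank_prod]; simp; ring) (dc_eq_of_K h2 hQp hQ (by
    rw [dc_prod, Int.cast_mul, hd₁, hd₂, hdc, Int.cast_mul, add_mul, pow_add]
    linear_combination (-1) ^ (m * e) * (-1) ^ (1 * e) * (ε : AlgebraicClosure F) * hδK))
  have hel := (El.pr h2 hQ₁ hQ₂ hg₁ hg₂).cj hE
  rw [neg_one_mul, neg_neg] at hel
  obtain ⟨x, hx⟩ := exists_pomega h2 hQ (by omega) hel
  have hqo : Fintype.card F % 2 = 1 := by omega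
  have hevA := AN_even (δ := δ) (m := m) hqo
  have hevB := AN_even (δ := δ * ε) (m := 1) hqo
  have hA2 := AN_pos (δ := δ) (m := m) (q := Fintype.card F) (by omega) (by omega)
  rw [← hevA] at ho₁
  rw [← hevB] at ho₂
  refine exists_of_dvd (x := x) ?_
  have key : ∃ j l, orderOf x = AN δ m (Fintype.card F) / 2 * j ∧ orderOf x = AN (δ * ε) 1 (Fintype.card F) / 2 * l ∧
      j % 2 = l % 2 := by
    rcases hx _ (pow_orderOf_eq_one x) with h3 | h3
    · rw [← cj_pow] at h3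
      have h4 : pr g₁ g₂ ^ orderOf x = 1 := by
        have h5 := congrArg orderOf h3
        rw [orderOf_cj, orderOf_one, orderOf_eq_one_iff] at h5
        exact h5
      rw [pr_pow] at h4
      have h5 := orderOf_pr (g₁ ^ orderOf x) (g₂ ^ orderOf x)
      rw [h4, orderOf_one] at h5
      have h6 := Nat.dvd_lcm_left (orderOf (g₁ ^ orderOf x)) (orderOf (g₂ ^ orderOf x))
      have h7 := Nat.dvd_lcm_right (orderOf (g₁ ^ orderOf x)) (orderOf (g₂ ^ orderOf x))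
      rw [← h5, Nat.dvd_one] at h6 h7
      rw [orderOf_eq_one_iff] at h6 h7
      have h8 := orderOf_dvd_of_pow_eq_one h6
      have h9 := orderOf_dvd_of_pow_eq_one h7
      rw [ho₁] at h8
      rw [ho₂] at h9
      obtain ⟨j, hj⟩ := h8
      obtain ⟨l, hl⟩ := h9
      exact ⟨2 * j, 2 * l, by rw [hj]; ring, by rw [hl]; ring, by omega⟩
    · rw [← cj_pow] at h3
      have h4 : pr g₁ g₂ ^ orderOf x = LinearEquiv.neg F := by
        rw [← cj_neg E] at h3
        exact (cjEquiv E).injective h3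
      rw [pr_pow, ← pr_neg] at h4
      have h5 := prHom_injective (F := F) (a₁ := (g₁ ^ orderOf x, g₂ ^ orderOf x))
        (a₂ := (LinearEquiv.neg F, LinearEquiv.neg F)) h4
      rw [Prod.mk.injEq] at h5
      have h1 : (fun _ => 1 : Fin (2 * m) → F) ≠ 0 := by
        intro h
        exact one_ne_zero (congrFun h ⟨0, by omega⟩)
      have h1' : (fun _ => 1 : Fin (2 * 1) → F) ≠ 0 := by
        intro h
        exact one_ne_zero (congrFun h ⟨0, by omega⟩)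
      obtain ⟨j, hj, hj1⟩ := half_of_neg h2 h5.1 h1 ho₁
      obtain ⟨l, hl, hl1⟩ := half_of_neg h2 h5.2 h1' ho₂
      exact ⟨j, l, hj, hl, by rw [hj1, hl1]⟩
  obtain ⟨j, l, hj, hl, hjl⟩ := key
  exact hT.lb (by omega) hj hl hjl

end Ex

end Cfsg.Agent.R2.Spec.P1.Eig
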